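import Cfsg.Prelude.Def_LieTypeDatum
import Cfsg.Agent.Lib.Forms.Herm
import Cfsg.Agent.Lib.Forms.HermCenter
import Cfsg.Agent.Lib.AutPSL.Root
import Cfsg.Agent.Lib.AutPSL.Basic
import Cfsg.Agent.Lib.Field.Descent
import Cfsg.Agent.Lib.Field.Fixed

/-!
Automorphisms of `PSU_n` induced by `GU_n` and by field automorphisms; faithfulness.
-/

set_option autoImplicit false

open Matrix
open scoped MatrixGroups

namespace Cfsg.Agent.AutPSU

variable {n : ℕ} {F : Type*} [Field F] {q : ℕ}

local notation "scal" => Matrix.GeneralLinearGroup.scalar (Fin n)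

/-! ### `GU` as a matrix group -/

section QAut

variable [Fintype F] (hF : Fintype.card F = q ^ 2)

/-- `x ↦ x ^ q` as an automorphism. -/
noncomputable def qAut : F ≃+* F :=
  RingEquiv.ofRingHom (Forms.qEnd hF) (Forms.qEnd hF) (RingHom.ext (Forms.qEnd_qEnd hF))
    (RingHom.ext (Forms.qEnd_qEnd hF))

theorem qAut_apply (a : F) : qAut hF a = a ^ q := rfl

theorem qAut_qAut (a : F) : qAut hF (qAut hF a) = a := Forms.pow_q_q hF a

theorem qAut_ne_one : qAut hF ≠ 1 := fun h =>
  Forms.qEnd_ne_id hF (RingHom.ext fun a => show qAut hF a = a by rw [h]; rfl)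

theorem exists_trace_zero : ∃ a : F, a ≠ 0 ∧ qAut hF a = -a := by
  obtain ⟨c, hc⟩ : ∃ c, qAut hF c ≠ c := by
    by_contra h
    push Not at h
    exact qAut_ne_one hF (RingEquiv.ext h)
  exact ⟨c - qAut hF c, sub_ne_zero.2 (Ne.symm hc), by rw [map_sub, qAut_qAut]; ring⟩

theorem mem_GU_iff (g : GL (Fin n) F) : g ∈ Cfsg.GU n F q ↔ g.valᵀ * g.val.map (qAut hF) = 1 := by
  have hherm : ∀ u v : Fin n → F, hermForm n F q u v = u ⬝ᵥ (qAut hF ∘ v) := by
    intro u v
    simp [hermForm, dotProduct, qAut_apply]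
  have hkey : ∀ u v, hermForm n F q (g.val *ᵥ u) (g.val *ᵥ v) =
      u ⬝ᵥ ((g.valᵀ * g.val.map (qAut hF)) *ᵥ (qAut hF ∘ v)) := by
    intro u v
    have : qAut hF ∘ (g.val *ᵥ v) = g.val.map (qAut hF) *ᵥ (qAut hF ∘ v) :=
      funext fun i => RingHom.map_mulVec (qAut hF).toRingHom _ _ i
    rw [hherm, this, ← Matrix.mulVec_mulVec, Matrix.dotProduct_mulVec u g.valᵀ, Matrix.vecMul_transpose]
  constructor
  · intro hg
    ext i j
    have h : hermForm n F q (g.val *ᵥ Pi.single i 1) (g.val *ᵥ Pi.single j 1)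
        = hermForm n F q (Pi.single i 1) (Pi.single j 1) := hg _ _
    have e : qAut hF ∘ (Pi.single j (1 : F) : Fin n → F) = Pi.single j 1 := by
      ext k
      rcases eq_or_ne k j with rfl | hk
      · simp
      · simp [hk]
    rw [hkey, hherm, e] at h
    simpa [Matrix.one_apply, Pi.single_apply, eq_comm] using h
  · intro h u v
    show hermForm n F q (g.val *ᵥ u) (g.val *ᵥ v) = hermForm n F q u v
    rw [hkey, hherm, h, Matrix.one_mulVec]

theorem mem_GU_iff' (g : GL (Fin n) F) : g ∈ Cfsg.GU n F q ↔ g.val * (g.val.map (qAut hF))ᵀ = 1 := by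
  rw [mem_GU_iff hF, ← Matrix.transpose_inj, Matrix.transpose_mul, Matrix.transpose_transpose,
    Matrix.transpose_one]
  exact mul_eq_one_comm

include hF in
theorem scalar_mem_GU (hn : 1 ≤ n) (c : Fˣ) : scal c ∈ Cfsg.GU n F q ↔ c ^ (q + 1) = 1 := by
  rw [mem_GU_iff hF]
  simp only [Matrix.GeneralLinearGroup.coe_scalar, Matrix.scalar_apply]
  rw [Matrix.diagonal_map (map_zero _), Matrix.diagonal_transpose, Matrix.diagonal_mul_diagonal,
    ← Matrix.diagonal_one, Matrix.diagonal_injective.eq_iff, Units.ext_iff, Units.val_pow_eq_pow_val,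
    Units.val_one, pow_succ']
  exact ⟨fun h => by simpa [qAut_apply] using congrFun h ⟨0, hn⟩,
    fun h => funext fun _ => by simpa [qAut_apply] using h⟩

end QAut

/-! ### Maps -/

/-- A field automorphism on `GU`. -/
def guMap (σ : F ≃+* F) : Cfsg.GU n F q →* Cfsg.GU n F q where
  toFun g := ⟨FieldExt.glMap σ (g : GL (Fin n) F), by
    intro u v
    show hermForm n F q ((g : GL (Fin n) F).val.map σ *ᵥ u) ((g : GL (Fin n) F).val.map σ *ᵥ v) = _
    have hmul : ∀ w : Fin n → F,
        (g : GL (Fin n) F).val.map σ *ᵥ w = σ ∘ ((g : GL (Fin n) F).val *ᵥ (σ.symm ∘ w)) := by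
      intro w
      funext i
      rw [Function.comp_apply]
      refine Eq.symm ((RingHom.map_mulVec σ.toRingHom _ _ i).trans ?_)
      simp [Function.comp_def]
    have hh : ∀ u v : Fin n → F, hermForm n F q (σ ∘ u) (σ ∘ v) = σ (hermForm n F q u v) := by
      intro u v
      simp [hermForm, map_sum]
    have h : hermForm n F q ((g : GL (Fin n) F).val *ᵥ (σ.symm ∘ u)) ((g : GL (Fin n) F).val *ᵥ (σ.symm ∘ v))
        = hermForm n F q (σ.symm ∘ u) (σ.symm ∘ v) := g.2 _ _
    rw [hmul, hmul, hh, h, ← hh]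
    simp [Function.comp_def]⟩
  map_one' := Subtype.ext (map_one _)
  map_mul' _ _ := Subtype.ext (map_mul _ _ _)

theorem guMap_coe (σ : F ≃+* F) (g : Cfsg.GU n F q) :
    ((guMap σ g : Cfsg.GU n F q) : GL (Fin n) F) = FieldExt.glMap σ (g : GL (Fin n) F) := rfl

/-- An element of `SU` inside `GU`. -/
def suGU : Cfsg.SU n F q →* Cfsg.GU n F q where
  toFun s := ⟨Matrix.SpecialLinearGroup.toGL s.1, s.2⟩
  map_one' := Subtype.ext (map_one _)
  map_mul' _ _ := Subtype.ext (map_mul _ _ _)

/-- Back from `GU` to `SU`. -/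
def toSU (g : Cfsg.GU n F q) (h : (g : GL (Fin n) F).val.det = 1) : Cfsg.SU n F q :=
  ⟨⟨(g : GL (Fin n) F).val, h⟩, g.2⟩

theorem su_ext {s t : Cfsg.SU n F q} (h : s.1.1 = t.1.1) : s = t := Subtype.ext (Subtype.ext h)

theorem det_suGU (s : Cfsg.SU n F q) : ((suGU s : Cfsg.GU n F q) : GL (Fin n) F).val.det = 1 := s.1.2

theorem det_conj (g : Cfsg.GU n F q) (s : Cfsg.SU n F q) :
    ((g * suGU s * g⁻¹ : Cfsg.GU n F q) : GL (Fin n) F).val.det = 1 := by
  rw [Subgroup.coe_mul, Subgroup.coe_mul, Subgroup.coe_inv, Units.val_mul, Units.val_mul, Matrix.det_units_conj]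
  exact det_suGU s

theorem det_guMap (σ : F ≃+* F) (s : Cfsg.SU n F q) :
    ((guMap σ (suGU s) : Cfsg.GU n F q) : GL (Fin n) F).val.det = 1 := by
  show (((suGU s : Cfsg.GU n F q) : GL (Fin n) F).val.map σ).det = 1
  rw [← RingEquiv.mapMatrix_apply, ← RingEquiv.map_det, det_suGU, map_one]

/-- Conjugation of `SU` by an element of `GU`. -/
def conjSU : Cfsg.GU n F q →* MulAut (Cfsg.SU n F q) where
  toFun g :=
    { toFun := fun s => toSU (g * suGU s * g⁻¹) (det_conj g s)
      invFun := fun s => toSU (g⁻¹ * suGU s * g⁻¹⁻¹) (det_conj g⁻¹ s)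
      left_inv := fun s => by
        refine su_ext ?_
        show ((g⁻¹ * (g * suGU s * g⁻¹) * g⁻¹⁻¹ : Cfsg.GU n F q) : GL (Fin n) F).val = _
        rw [show g⁻¹ * (g * suGU s * g⁻¹) * g⁻¹⁻¹ = suGU s by group]
        rfl
      right_inv := fun s => by
        refine su_ext ?_
        show ((g * (g⁻¹ * suGU s * g⁻¹⁻¹) * g⁻¹ : Cfsg.GU n F q) : GL (Fin n) F).val = _
        rw [show g * (g⁻¹ * suGU s * g⁻¹⁻¹) * g⁻¹ = suGU s by group]
        rfl
      map_mul' := fun s t => by
        refine su_ext ?_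
        show ((g * suGU (s * t) * g⁻¹ : Cfsg.GU n F q) : GL (Fin n) F).val =
          ((g * suGU s * g⁻¹ * (g * suGU t * g⁻¹) : Cfsg.GU n F q) : GL (Fin n) F).val
        rw [map_mul, show g * (suGU s * suGU t) * g⁻¹ = g * suGU s * g⁻¹ * (g * suGU t * g⁻¹) by group] }
  map_one' := MulEquiv.ext fun s => su_ext (by
    show ((1 * suGU s * 1⁻¹ : Cfsg.GU n F q) : GL (Fin n) F).val = s.1.1
    rw [one_mul, inv_one, mul_one]
    rfl)
  map_mul' g h := MulEquiv.ext fun s => su_ext (by
    show ((g * h * suGU s * (g * h)⁻¹ : Cfsg.GU n F q) : GL (Fin n) F).val =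
      ((g * (h * suGU s * h⁻¹) * g⁻¹ : Cfsg.GU n F q) : GL (Fin n) F).val
    rw [show g * h * suGU s * (g * h)⁻¹ = g * (h * suGU s * h⁻¹) * g⁻¹ by group])

theorem conjSU_coe (g : Cfsg.GU n F q) (s : Cfsg.SU n F q) :
    (conjSU g s).1.1 = (g : GL (Fin n) F).val * s.1.1 * ((g : GL (Fin n) F)⁻¹ : GL (Fin n) F).val := rfl

theorem suGU_conjSU (g : Cfsg.GU n F q) (s : Cfsg.SU n F q) : suGU (conjSU g s) = g * suGU s * g⁻¹ :=
  Subtype.ext (Units.ext rfl)

/-- A field automorphism on `SU`. -/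
def fieldSU : (F ≃+* F) →* MulAut (Cfsg.SU n F q) where
  toFun σ :=
    { toFun := fun s => toSU (guMap σ (suGU s)) (det_guMap σ s)
      invFun := fun s => toSU (guMap σ.symm (suGU s)) (det_guMap σ.symm s)
      left_inv := fun s => su_ext (by
        show ((s.1.1).map σ).map σ.symm = s.1.1
        ext i j
        simp)
      right_inv := fun s => su_ext (by
        show ((s.1.1).map σ.symm).map σ = s.1.1
        ext i j
        simp)
      map_mul' := fun s t => su_ext (by
        show (s.1.1 * t.1.1).map σ = (s.1.1).map σ * (t.1.1).map σ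
        exact Matrix.map_mul) }
  map_one' := MulEquiv.ext fun s => su_ext (by ext i j; rfl)
  map_mul' σ τ := MulEquiv.ext fun s => su_ext (by ext i j; rfl)

theorem fieldSU_coe (σ : F ≃+* F) (s : Cfsg.SU n F q) : (fieldSU σ s).1.1 = (s.1.1).map σ := rfl

theorem suGU_fieldSU (σ : F ≃+* F) (s : Cfsg.SU n F q) : suGU (fieldSU σ s) = guMap σ (suGU s) :=
  Subtype.ext (Units.ext rfl)

/-- Automorphisms of `SU` act on `PSU`. -/
def autQU : MulAut (Cfsg.SU n F q) →* MulAut (Cfsg.PSU n F q) where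
  toFun e := QuotientGroup.congr _ _ e (AutPSL.map_center_eq e)
  map_one' := MulEquiv.ext fun x => by
    induction x using QuotientGroup.induction_on with
    | _ s => rfl
  map_mul' e f := MulEquiv.ext fun x => by
    induction x using QuotientGroup.induction_on with
    | _ s => rfl

/-- Automorphisms of `PSU` induced by `GU`. -/
def conjU : Cfsg.GU n F q →* MulAut (Cfsg.PSU n F q) := autQU.comp conjSU

theorem conjU_mk (g : Cfsg.GU n F q) (s : Cfsg.SU n F q) :
    conjU g (QuotientGroup.mk s) = QuotientGroup.mk (conjSU g s) := rfl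

/-- The standard field automorphisms of `PSU`. -/
def fieldU : (F ≃+* F) →* MulAut (Cfsg.PSU n F q) := autQU.comp fieldSU

theorem fieldU_mk (σ : F ≃+* F) (s : Cfsg.SU n F q) :
    fieldU σ (QuotientGroup.mk s) = QuotientGroup.mk (fieldSU σ s) := rfl

theorem isInnerDiagonal_conjU (g : Cfsg.GU n F q) : Cfsg.IsInnerDiagonalAutPSU (conjU g) :=
  ⟨g, g.2, fun s s' h => by
    rw [conjU_mk, show conjSU g s = s' from su_ext h.symm]⟩

theorem isFieldAut_fieldU (σ : F ≃+* F) : Cfsg.IsFieldAutPSUOf σ (fieldU (n := n) (q := q) σ) :=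
  fun s s' h => by rw [fieldU_mk, show fieldSU σ s = s' from su_ext h.symm]

theorem eq_conjU {β : MulAut (Cfsg.PSU n F q)} (h : Cfsg.IsInnerDiagonalAutPSU β) : ∃ g, β = conjU g := by
  obtain ⟨g, hgU, hg⟩ := h
  refine ⟨⟨g, hgU⟩, MulEquiv.ext fun x => ?_⟩
  induction x using QuotientGroup.induction_on with
  | _ s => rw [conjU_mk]; exact hg s (conjSU ⟨g, hgU⟩ s) rfl

theorem eq_fieldU {β : MulAut (Cfsg.PSU n F q)} {σ : F ≃+* F} (h : Cfsg.IsFieldAutPSUOf σ β) :
    β = fieldU σ := by
  refine MulEquiv.ext fun x => ?_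
  induction x using QuotientGroup.induction_on with
  | _ s => rw [fieldU_mk]; exact h s (fieldSU σ s) rfl

theorem inndiagPSU_eq_range : Cfsg.inndiagPSU n F q = (conjU : Cfsg.GU n F q →* _).range := by
  refine le_antisymm ((Subgroup.closure_le _).2 ?_) ?_
  · intro β hβ
    obtain ⟨g, hg⟩ := eq_conjU hβ
    exact ⟨g, hg.symm⟩
  · rintro _ ⟨g, rfl⟩
    exact Subgroup.subset_closure (isInnerDiagonal_conjU g)

theorem fieldU_mul_conjU (σ : F ≃+* F) (g : Cfsg.GU n F q) :
    fieldU σ * conjU g = conjU (guMap σ g) * fieldU σ := by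
  rw [fieldU, conjU, MonoidHom.comp_apply, MonoidHom.comp_apply, MonoidHom.comp_apply, ← map_mul, ← map_mul]
  refine congrArg autQU (MulEquiv.ext fun s => su_ext ?_)
  show (fieldSU σ (conjSU g s)).1.1 = (conjSU (guMap σ g) (fieldSU σ s)).1.1
  rw [fieldSU_coe, conjSU_coe, conjSU_coe, fieldSU_coe, guMap_coe, ← map_inv, FieldExt.glMap_val,
    FieldExt.glMap_val, Matrix.map_mul, Matrix.map_mul]

theorem conjU_suGU (s : Cfsg.SU n F q) :
    conjU (suGU s) = MulAut.conj (QuotientGroup.mk s : Cfsg.PSU n F q) := by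
  refine MulEquiv.ext fun x => ?_
  induction x using QuotientGroup.induction_on with
  | _ t =>
    rw [conjU_mk, MulAut.conj_apply, ← QuotientGroup.mk_inv, ← QuotientGroup.mk_mul, ← QuotientGroup.mk_mul]
    exact congrArg _ (su_ext rfl)

/-! ### Faithfulness -/

section Finite

variable [Fintype F] (hF : Fintype.card F = q ^ 2)

include hF in
theorem eq_one_of_fix (hn : 3 ≤ n) (g : Cfsg.GU n F q) (σ : F ≃+* F)
    (h : conjU g * fieldU σ = (1 : MulAut (Cfsg.PSU n F q))) :
    σ = 1 ∧ ∃ c : Fˣ, (g : GL (Fin n) F) = scal c := by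
  classical
  set G := (g : GL (Fin n) F).val with hG
  set G' := ((g : GL (Fin n) F)⁻¹ : GL (Fin n) F).val with hG'
  have hGG' : G * G' = 1 := Units.mul_inv _
  have hG'G : G' * G = 1 := Units.inv_mul _
  obtain ⟨a, ha0, ha⟩ := exists_trace_zero hF
  -- images of isotropic vectors
  have hline : ∀ v : Fin n → F, v ⬝ᵥ (qAut hF ∘ v) = 0 → v ≠ 0 → ∃ r : F, G *ᵥ (σ ∘ v) = r • v := by
    intro v hv hv0
    let w : Fin n → F := a • (qAut hF ∘ v)
    let M : Matrix (Fin n) (Fin n) F := 1 + vecMulVec v w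
    have hdot : w ⬝ᵥ v = 0 := by
      simp only [w]
      rw [dotProduct_comm, dotProduct_smul, hv, smul_zero]
    have hdet : M.det = 1 := by
      show (1 + vecMulVec v w).det = 1
      rw [Matrix.vecMulVec_eq Unit, Matrix.det_one_add_replicateCol_mul_replicateRow, hdot,
        add_zero]
    have hτM : M.map (qAut hF) = 1 + vecMulVec (qAut hF ∘ v) ((-a) • v) := by
      ext i j
      rcases eq_or_ne i j with rfl | hij
      · simp [M, w, vecMulVec_apply, ha, qAut_qAut]
      · simp [M, w, vecMulVec_apply, ha, qAut_qAut, hij]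
    have hmem : Matrix.GeneralLinearGroup.mkOfDetNeZero M (by rw [hdet]; exact one_ne_zero) ∈ Cfsg.GU n F q := by
      rw [mem_GU_iff hF]
      show Mᵀ * M.map (qAut hF) = 1
      rw [hτM]
      have : Mᵀ = 1 + vecMulVec w v := by
        ext i j
        rcases eq_or_ne i j with rfl | hij
        · simp [M, vecMulVec_apply, mul_comm]
        · simp [M, vecMulVec_apply, mul_comm, hij, Ne.symm hij]
      rw [this, Matrix.add_mul, Matrix.one_mul, Matrix.mul_add, Matrix.mul_one,
        AutPSL.vecMulVec_mul_vecMulVec', hv, zero_smul, add_zero, Matrix.vecMulVec_smul, neg_smul, add_assoc,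
        Matrix.smul_vecMulVec, neg_add_cancel, add_zero]
    let t : Cfsg.SU n F q := toSU ⟨_, hmem⟩ hdet
    have ht := DFunLike.congr_fun h (QuotientGroup.mk t)
    rw [MulAut.mul_apply, fieldU_mk, conjU_mk, MulAut.one_apply, QuotientGroup.eq] at ht
    obtain ⟨z, hz⟩ : ∃ z, (conjSU g (fieldSU σ t))⁻¹ * t = z := ⟨_, rfl⟩
    rw [hz] at ht
    have hd := Forms.center_SU_diagonal hF z ht
    let i₀ : Fin n := ⟨0, by omega⟩
    have hzs : z.1.1 = z.1.1 i₀ i₀ • (1 : Matrix (Fin n) (Fin n) F) := by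
      ext i j
      rcases eq_or_ne i j with rfl | hij
      · rcases eq_or_ne i i₀ with rfl | hi
        · simp
        · simpa using (hd i i₀ hi).2
      · simpa [hij] using (hd i j hij).1
    set d := z.1.1 i₀ i₀
    have hMt : t.1.1 = M := rfl
    have heq : t.1.1 = (conjSU g (fieldSU σ t)).1.1 * z.1.1 := by
      rw [← Matrix.SpecialLinearGroup.coe_mul, ← Subgroup.coe_mul, ← hz, mul_inv_cancel_left]
    rw [conjSU_coe, fieldSU_coe, hMt, hzs, Matrix.mul_smul, Matrix.mul_one] at heq
    have hσM : M.map σ = 1 + vecMulVec (σ ∘ v) (σ ∘ w) := by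
      ext i j
      rcases eq_or_ne i j with rfl | hij
      · simp [M, vecMulVec_apply]
      · simp [M, vecMulVec_apply, hij]
    rw [hσM, Matrix.mul_add, Matrix.mul_one, Matrix.add_mul, hGG', Matrix.mul_vecMulVec,
      Matrix.vecMulVec_mul] at heq
    set v' := G *ᵥ (σ ∘ v)
    set w' := (σ ∘ w) ᵥ* G'
    -- heq : 1 + vecMulVec v w = d • (1 + vecMulVec v' w')
    obtain ⟨x, hx, hx0⟩ : ∃ x : Fin n → F, (w ⬝ᵥ x = 0 ∧ w' ⬝ᵥ x = 0) ∧ x ≠ 0 := by
      let L : (Fin n → F) →ₗ[F] (Fin 2 → F) :=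
        LinearMap.pi ![(Matrix.of (fun _ : Unit => w)).mulVecLin |> (LinearMap.proj ()).comp,
          (Matrix.of (fun _ : Unit => w')).mulVecLin |> (LinearMap.proj ()).comp]
      have : ¬ Function.Injective L := fun hL => by
        have := LinearMap.finrank_le_finrank_of_injective hL
        simp at this
        omega
      rw [injective_iff_map_eq_zero] at this
      push Not at this
      obtain ⟨x, hx, hx0⟩ := this
      exact ⟨x, ⟨by simpa [L, Matrix.mulVec] using congrFun hx 0, by simpa [L, Matrix.mulVec] using congrFun hx 1⟩,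
        hx0⟩
    have hd1 : d = 1 := by
      have := congrArg (fun A => A *ᵥ x) heq
      simp only [M, Matrix.add_mulVec, Matrix.one_mulVec, Matrix.smul_mulVec, AutPSL.vecMulVec_mulVec', hx.1,
        hx.2, zero_smul, add_zero] at this
      obtain ⟨i, hi⟩ := Function.ne_iff.1 hx0
      have h2 := congrFun this i
      rw [Pi.smul_apply, smul_eq_mul] at h2
      exact (mul_eq_right₀ hi).1 h2.symm
    rw [hd1, one_smul] at heq
    have heq' : vecMulVec v w = vecMulVec v' w' := add_left_cancel heq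
    have hw0 : w' ≠ 0 := by
      intro h0
      have h1 : vecMulVec v w = 0 := by rw [heq', h0]; ext i j; simp [vecMulVec_apply]
      obtain ⟨i, hi⟩ := Function.ne_iff.1 hv0
      have := congrFun (congrFun h1 i) i
      simp only [w, vecMulVec_apply, Pi.smul_apply, Function.comp_apply, smul_eq_mul, Matrix.zero_apply] at this
      exact mul_ne_zero hi (mul_ne_zero ha0 ((map_ne_zero (qAut hF)).2 hi)) this
    obtain ⟨j, hj⟩ := Function.ne_iff.1 hw0
    refine ⟨w j / w' j, funext fun i => ?_⟩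
    have := congrFun (congrFun heq' i) j
    simp only [vecMulVec_apply] at this
    rw [Pi.smul_apply, smul_eq_mul, div_mul_eq_mul_div, eq_div_iff hj]
    linear_combination -this
  -- norm minus one
  have hq := Forms.one_lt_q hF
  obtain ⟨b, hb0, hb⟩ := Forms.exists_norm_eq hF (c := (-1 : F)) (neg_ne_zero.2 one_ne_zero)
    (show qAut hF (-1) = -1 by rw [map_neg, map_one])
  have hblock : ∀ i j : Fin n, i ≠ j → ∀ u : F, u ^ (q + 1) = 1 → ∃ r : F,
      ∀ k, G k i + σ (b * u) * G k j = r * (if k = i then 1 else 0) + r * (b * u) * (if k = j then 1 else 0) := by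
    intro i j hij u hu
    let v : Fin n → F := Pi.single i 1 + Pi.single j (b * u)
    have hv : v ⬝ᵥ (qAut hF ∘ v) = 0 := by
      have e : qAut hF ∘ v = Pi.single i 1 + Pi.single j (qAut hF (b * u)) := by
        ext k
        simp only [v, Function.comp_apply, Pi.add_apply, map_add, Pi.single_apply, apply_ite (qAut hF), map_one,
          map_zero]
      rw [e]
      simp only [v, dotProduct_add, dotProduct_single, qAut_apply, mul_one]
      rw [Pi.add_apply, Pi.add_apply, Pi.single_eq_same, Pi.single_eq_same, Pi.single_eq_of_ne hij,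
        Pi.single_eq_of_ne hij.symm, zero_add, add_zero, ← pow_succ', mul_pow, hb, hu]
      ring
    have hv0 : v ≠ 0 := fun h0 => by simpa [v, Pi.single_eq_of_ne hij] using congrFun h0 i
    obtain ⟨r, hr⟩ := hline v hv hv0
    refine ⟨r, fun k => ?_⟩
    have := congrFun hr k
    have e : σ ∘ v = Pi.single i 1 + Pi.single j (σ (b * u)) := by
      ext l
      simp only [v, Function.comp_apply, Pi.add_apply, map_add, Pi.single_apply, apply_ite σ, map_one, map_zero]
    rw [e, Matrix.mulVec_add, Pi.add_apply, Matrix.mulVec_single, Matrix.mulVec_single] at this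
    simp only [v, Pi.smul_apply, Pi.add_apply, Pi.single_apply, smul_eq_mul, MulOpposite.smul_eq_mul_unop,
      MulOpposite.unop_op, Matrix.col_apply, mul_one] at this
    rw [mul_comm (σ (b * u))]
    rw [this]
    split_ifs <;> ring
  -- two norm one elements
  obtain ⟨u, hu, hu1⟩ : ∃ u : F, u ^ (q + 1) = 1 ∧ u ≠ 1 := by
    have hc := Forms.card_norm_kernel hF
    haveI : Nontrivial (powMonoidHom (α := Fˣ) (q + 1)).ker :=
      Finite.one_lt_card_iff_nontrivial.1 (by rw [hc]; omega)
    obtain ⟨⟨x, hx⟩, hx1⟩ := exists_ne (1 : (powMonoidHom (α := Fˣ) (q + 1)).ker)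
    exact ⟨x, by simpa using congrArg Units.val hx, fun h => hx1 (Subtype.ext (Units.ext h))⟩
  have hoff : ∀ k i : Fin n, k ≠ i → G k i = 0 := by
    intro k i hki
    obtain ⟨j, hj1, hj2⟩ : ∃ j : Fin n, j ≠ i ∧ j ≠ k := by
      by_contra hne
      push Not at hne
      have hs : (Finset.univ : Finset (Fin n)) ⊆ {i, k} := fun j _ => by
        by_cases hj : j = i
        · simp [hj]
        · simp [hne j hj]
      have h1 := Finset.card_le_card hs
      have h2 := Finset.card_le_two (a := i) (b := k)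
      simp only [Finset.card_univ, Fintype.card_fin] at h1
      omega
    obtain ⟨r₁, h₁⟩ := hblock i j hj1.symm 1 (one_pow _)
    obtain ⟨r₂, h₂⟩ := hblock i j hj1.symm u hu
    have e1 := h₁ k
    have e2 := h₂ k
    simp only [hki, hj2.symm, if_false, mul_zero, add_zero, mul_one] at e1 e2
    have : (σ b * σ u - σ b) * G k j = 0 := by rw [map_mul] at e2; linear_combination e2 - e1
    have hne : σ b * σ u - σ b ≠ 0 := by
      rw [← map_mul, ← map_sub, map_ne_zero, sub_ne_zero]
      intro h0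
      exact hu1 ((mul_eq_left₀ hb0).1 h0)
    rw [(mul_eq_zero.1 this).resolve_left hne, mul_zero, add_zero] at e1
    exact e1
  have hdiag : ∀ i j : Fin n, i ≠ j → ∀ u : F, u ^ (q + 1) = 1 → σ (b * u) * G j j = G i i * (b * u) := by
    intro i j hij u hu
    obtain ⟨r, hr⟩ := hblock i j hij u hu
    have ei := hr i
    have ej := hr j
    simp only [hij, hij.symm, if_true, if_false, hoff i j hij, hoff j i hij.symm, mul_zero, add_zero, mul_one,
      zero_add] at ei ej
    rw [ej, ei]
  have hne0 : ∀ i, G i i ≠ 0 := by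
    intro i h0
    have hd := ((Matrix.isUnit_iff_isUnit_det G).1 (g : GL (Fin n) F).isUnit).ne_zero
    rw [Matrix.det_eq_zero_of_row_eq_zero i fun j => by
      rcases eq_or_ne i j with rfl | hij
      · exact h0
      · exact hoff i j hij] at hd
    exact hd rfl
  let i₀ : Fin n := ⟨0, by omega⟩
  let i₁ : Fin n := ⟨1, by omega⟩
  have h01 : i₀ ≠ i₁ := by simp [i₀, i₁, Fin.ext_iff]
  have hfix : ∀ u : F, u ^ (q + 1) = 1 → σ u = u := by
    intro u hu
    have e1 := hdiag i₀ i₁ h01 u hu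
    have e2 := hdiag i₀ i₁ h01 1 (one_pow _)
    rw [mul_one] at e2
    rw [map_mul] at e1
    have hσb : σ b ≠ 0 := (map_ne_zero σ).2 hb0
    have h' : σ b * σ u * G i₁ i₁ = σ b * u * G i₁ i₁ := by linear_combination e1 - u * e2
    exact mul_left_cancel₀ hσb (mul_right_cancel₀ (hne0 i₁) h')
  have hσ1 : σ = 1 := by
    set S := FieldExt.fixedField σ
    have hcard := FieldExt.card_fixedField_pow σ
    rw [hF] at hcard
    haveI : Fintype S := Fintype.ofFinite _
    have hU : q + 1 ≤ Nat.card Sˣ := by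
      rw [← Forms.card_norm_kernel hF]
      let ψ : (powMonoidHom (α := Fˣ) (q + 1)).ker → Sˣ := fun x =>
        Units.mk0 ⟨((x : Fˣ) : F), FieldExt.mem_fixedField.2 (hfix _ (by
          have := congrArg Units.val x.2
          simpa using this))⟩ (fun h0 => (x : Fˣ).ne_zero (congrArg Subtype.val h0))
      exact Nat.card_le_card_of_injective ψ fun x y h =>
        Subtype.ext (Units.ext (congrArg (fun z : Sˣ => ((z : S) : F)) h))
    rw [Nat.card_units] at hU
    have hlt : orderOf σ < 2 := by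
      by_contra hge
      push Not at hge
      have h1 : Nat.card S ^ 2 ≤ q ^ 2 := hcard ▸ Nat.pow_le_pow_right Nat.card_pos hge
      have := Nat.pow_le_pow_left (show q + 1 ≤ Nat.card S by omega) 2
      nlinarith
    have := FieldExt.orderOf_pos' σ
    exact orderOf_eq_one_iff.1 (by omega)
  refine ⟨hσ1, Units.mk0 (G i₀ i₀) (hne0 i₀), Units.ext ?_⟩
  ext i j
  rw [Matrix.GeneralLinearGroup.coe_scalar, Matrix.scalar_apply, Matrix.diagonal_apply]
  split_ifs with hij
  · subst hij
    rcases eq_or_ne i i₀ with rfl | hi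
    · rfl
    · have e := hdiag i₀ i (Ne.symm hi) 1 (one_pow _)
      rw [hσ1, mul_one, RingAut.one_apply, mul_comm (G i₀ i₀)] at e
      exact mul_left_cancel₀ hb0 e
  · exact hoff i j hij

end Finite

end Cfsg.Agent.AutPSU
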