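import Cfsg.Agent.Lib.AutPSU.Group
import Cfsg.Agent.Lib.AutPSL.FieldAut

/-!
Field automorphisms of odd order of `PSU_n(q)`: Lang's theorem, the centraliser `PGU_n(q₀)` and class
splitting.
-/

set_option autoImplicit false
set_option linter.unusedSectionVars false

open Matrix
open scoped MatrixGroups

namespace Cfsg.Agent.AutPSU

theorem range_pow_eq_ker {G : Type*} [CommGroup G] [IsCyclic G] [Finite G] {k d : ℕ}
    (h : k * d = Nat.card G) : (powMonoidHom k : G →* G).range = (powMonoidHom d).ker := by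
  have hd : 0 < d := Nat.pos_of_ne_zero fun h0 => by
    rw [h0, mul_zero] at h
    exact Nat.card_pos.ne h
  have hk : 0 < k := Nat.pos_of_ne_zero fun h0 => by
    rw [h0, zero_mul] at h
    exact Nat.card_pos.ne h
  refine Subgroup.eq_of_le_of_card_ge ?_ ?_
  · rintro _ ⟨u, rfl⟩
    rw [MonoidHom.mem_ker, powMonoidHom_apply, powMonoidHom_apply, ← pow_mul, h, pow_card_eq_one']
  · rw [IsCyclic.card_powMonoidHom_ker, IsCyclic.card_powMonoidHom_range, ← h,
      Nat.gcd_eq_right (Dvd.intro_left k rfl), Nat.gcd_eq_right (Dvd.intro d rfl),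
      Nat.mul_div_cancel_left _ hk]

theorem range_pow_comp {G : Type*} [CommGroup G] [IsCyclic G] [Finite G] {g : ℕ}
    (hg : g ∣ Nat.card G) : (powMonoidHom g : G →* G).range.index = g := by
  rw [IsCyclic.index_powMonoidHom_range, Nat.gcd_eq_right hg]

variable {n : ℕ} {F : Type*} [Field F] [Fintype F] {q : ℕ} (hF : Fintype.card F = q ^ 2)
  {F₀ : Type*} [Field F₀] [Fintype F₀] {q₀ r : ℕ} (hF₀ : Fintype.card F₀ = q₀ ^ 2)
  (hqq : q = q₀ ^ r) (hro : Odd r) {σ : F ≃+* F} (hσr : orderOf σ = r)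
  {ι : F₀ →+* F} (hι : ∀ a : F, σ a = a ↔ a ∈ Set.range ι)

local notation "scal" => Matrix.GeneralLinearGroup.scalar (Fin n)

include hF₀ hqq hro in
/-- On the small field the two norms agree. -/
theorem iota_pow (ι : F₀ →+* F) (x : F₀) : ι x ^ q = ι (x ^ q₀) := by
  obtain ⟨k, rfl⟩ := hro
  rw [← map_pow, hqq, pow_succ, pow_mul q₀ 2 k, ← hF₀, pow_mul x, FiniteField.pow_card_pow]

include hF₀ hqq hro in
theorem iota_pow_succ (ι : F₀ →+* F) (x : F₀) : ι x ^ (q + 1) = ι (x ^ (q₀ + 1)) := by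
  rw [pow_succ, iota_pow hF₀ hqq hro ι x, ← map_mul, ← pow_succ]

include hι in
theorem sigma_iota (x : F₀) : σ (ι x) = ι x := (hι _).2 ⟨x, rfl⟩

include hF hF₀ hqq hro hι in
theorem map_mem_GU (g : GL (Fin n) F₀) :
    Matrix.GeneralLinearGroup.map ι g ∈ Cfsg.GU n F q ↔ g ∈ Cfsg.GU n F₀ q₀ := by
  rw [mem_GU_iff hF, mem_GU_iff hF₀]
  have hm : (g.val.map ι).map (qAut hF) = (g.val.map (qAut hF₀)).map ι := by
    ext a b
    simp only [Matrix.map_apply, qAut_apply]
    exact iota_pow hF₀ hqq hro ι _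
  show (g.val.map ι)ᵀ * (g.val.map ι).map (qAut hF) = 1 ↔ _
  rw [hm, ← Matrix.transpose_map, ← Matrix.map_mul]
  constructor
  · intro h
    exact Matrix.map_injective ι.injective
      (by beta_reduce; rw [h, Matrix.map_one ι (map_zero ι) (map_one ι)])
  · intro h
    rw [h, Matrix.map_one ι (map_zero ι) (map_one ι)]

/-- `GU_n(q₀)` inside `GU_n(q)`. -/
noncomputable def embGU (hF : Fintype.card F = q ^ 2) (hF₀ : Fintype.card F₀ = q₀ ^ 2)
    (hqq : q = q₀ ^ r) (hro : Odd r) (hι : ∀ a : F, σ a = a ↔ a ∈ Set.range ι) :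
    Cfsg.GU n F₀ q₀ →* Cfsg.GU n F q :=
  ((Matrix.GeneralLinearGroup.map ι).comp (Cfsg.GU n F₀ q₀).subtype).codRestrict _
    fun g => (map_mem_GU hF hF₀ hqq hro hι (g : GL (Fin n) F₀)).2 g.2

theorem embGU_val (g : Cfsg.GU n F₀ q₀) :
    ((embGU hF hF₀ hqq hro hι g : Cfsg.GU n F q) : GL (Fin n) F).val =
      (g : GL (Fin n) F₀).val.map ι := rfl

include hF hF₀ hqq hro hι in
/-- The `σ`-fixed elements of `GU_n(q)` come from `GU_n(q₀)`. -/
theorem exists_gu_preimage (h : Cfsg.GU n F q) (hfix : guMap σ h = h) :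
    ∃ g : Cfsg.GU n F₀ q₀, embGU hF hF₀ hqq hro hι g = h := by
  have hent : ∀ i j, ∃ a, ι a = (h : GL (Fin n) F).val i j := fun i j => (hι _).1
    (congrArg (fun A : Cfsg.GU n F q => (A : GL (Fin n) F).val i j) hfix)
  choose M hM using hent
  have hmap : (Matrix.of M).map ι = (h : GL (Fin n) F).val := by ext i j; exact hM i j
  have hdet : IsUnit (Matrix.of M).det := by
    rw [isUnit_iff_ne_zero]
    intro h0
    have := congrArg ι h0
    rw [RingHom.map_det, map_zero, RingHom.mapMatrix_apply, hmap] at this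
    exact ((Matrix.isUnit_iff_isUnit_det _).1 (h : GL (Fin n) F).isUnit).ne_zero this
  have he : Matrix.GeneralLinearGroup.map ι (Matrix.nonsingInvUnit (Matrix.of M) hdet) =
      (h : GL (Fin n) F) := Units.ext hmap
  exact ⟨⟨_, (map_mem_GU hF hF₀ hqq hro hι _).1 (he ▸ h.2)⟩, Subtype.ext he⟩

include hF hro hσr in
/-- The norm of `σ` maps the norm one elements onto the fixed ones. -/
theorem exists_prod_eq_U (c : Fˣ) (hc : σ (c : F) = c) (hcU : c ^ (q + 1) = 1) :
    ∃ z : Fˣ, z ^ (q + 1) = 1 ∧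
      ∏ i ∈ Finset.range r, Units.map ((σ ^ i : F ≃+* F) : F →* F) z = c := by
  obtain ⟨k, hk⟩ := hro
  obtain ⟨z, hz⟩ := FieldExt.exists_prod_eq σ (by omega : 0 < r) hσr c hc
  set N : Fˣ →* Fˣ :=
    ∏ i ∈ Finset.range r, Units.map ((σ ^ i : F ≃+* F) : F →* F) with hN
  have hNapp : ∀ y, N y = ∏ i ∈ Finset.range r, Units.map ((σ ^ i : F ≃+* F) : F →* F) y :=
    fun y => by rw [hN, MonoidHom.finsetProd_apply]
  have hfixc : ∀ i : ℕ, (σ ^ i : F ≃+* F) (c : F) = c := by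
    intro i
    induction i with
    | zero => rfl
    | succ i ih => rw [pow_succ, RingAut.mul_apply, hc, ih]
  have hNc : N c = c ^ r := by
    rw [hNapp, Finset.prod_congr rfl (g := fun _ => c) fun i _ => Units.ext (hfixc i),
      Finset.prod_const, Finset.card_range]
  have hzq : (z ^ (q - 1)) ^ (q + 1) = 1 := by
    rw [← pow_mul, show (q - 1) * (q + 1) = Fintype.card F - 1 by
      rw [hF]; obtain ⟨j, rfl⟩ : ∃ j, q = j + 1 := ⟨q - 1, by have := Forms.one_lt_q hF; omega⟩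
      simp only [Nat.add_sub_cancel]
      rw [show (j + 1) ^ 2 = j * (j + 1 + 1) + 1 by ring]; rfl]
    refine Units.ext ?_
    rw [Units.val_pow_eq_pow_val, Units.val_one]
    exact FiniteField.pow_card_sub_one_eq_one _ z.ne_zero
  have hq1 := Forms.one_lt_q hF
  have hc2 : c ^ (q - 1) * c ^ 2 = 1 := by
    rw [← pow_add, show q - 1 + 2 = q + 1 by omega, hcU]
  refine ⟨c * (z ^ (q - 1)) ^ k, ?_, ?_⟩
  · rw [mul_pow, hcU, ← pow_mul, mul_comm k, pow_mul, hzq, one_pow, one_mul]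
  · rw [← hNapp, map_mul, map_pow, map_pow, hNc, hNapp, hz, hk, pow_succ', pow_mul, mul_assoc,
      ← mul_pow, mul_comm (c ^ 2), hc2, one_pow, mul_one]

include hF hF₀ hqq hro hι in
/-- A fixed element of the middle field is a norm from the small one. -/
theorem exists_norm_iota {ν : F} (hν0 : ν ≠ 0) (hνσ : σ ν = ν) (hνq : ν ^ q = ν) :
    ∃ x : F₀, x ≠ 0 ∧ ι x ^ (q + 1) = ν := by
  obtain ⟨a, ha⟩ := (hι ν).1 hνσ
  have ha' : a ^ q₀ = a := ι.injective (by rw [← iota_pow hF₀ hqq hro ι a, ha, hνq])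
  obtain ⟨x, hx0, hx⟩ := Forms.exists_norm_eq hF₀
    (fun e => hν0 (by rw [← ha, e, map_zero])) ha'
  exact ⟨x, hx0, by rw [iota_pow_succ hF₀ hqq hro ι, hx, ha]⟩

include hF hF₀ hqq hro hσr hι in
/-- Hilbert 90 for the norm one elements. -/
theorem exists_div_eq_U (c : Fˣ) (hcU : c ^ (q + 1) = 1)
    (hc : ∏ i ∈ Finset.range r, Units.map ((σ ^ i : F ≃+* F) : F →* F) c = 1) :
    ∃ z : Fˣ, z ^ (q + 1) = 1 ∧ c * Units.map (σ : F →* F) z = z := by
  obtain ⟨y, hy⟩ := FieldExt.exists_div_eq σ (Odd.pos hro) hσr c hc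
  set ν : F := (y : F) ^ (q + 1) with hν
  have hν0 : ν ≠ 0 := pow_ne_zero _ y.ne_zero
  have hy' : (c : F) * σ y = y := by simpa using congrArg Units.val hy
  have hνσ : σ ν = ν := by
    rw [hν, map_pow]
    conv_rhs => rw [← hy', mul_pow, ← Units.val_pow_eq_pow_val, hcU, Units.val_one, one_mul]
  have hνq : ν ^ q = ν := by
    rw [hν, ← pow_mul, mul_comm, pow_mul, pow_succ, Forms.pow_q_q hF, ← pow_succ']
  obtain ⟨x, hx0, hx⟩ := exists_norm_iota hF hF₀ hqq hro hι hν0 hνσ hνq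
  have hx0' : ι x ≠ 0 := (map_ne_zero ι).2 hx0
  refine ⟨y * (Units.mk0 (ι x) hx0')⁻¹, Units.ext ?_, Units.ext ?_⟩
  · simp [mul_pow, hx, ← hν, hν0]
  · simp only [Units.val_mul, Units.coe_map, MonoidHom.coe_coe, Units.val_inv_eq_inv_val,
      Units.val_mk0, map_mul, map_inv₀, sigma_iota hι, ← mul_assoc, hy']

variable (hn : 3 ≤ n)

include hF hn in
theorem guMap_eq_mul_scal (g h : Cfsg.GU n F q)
    (he : (conjU g : MulAut (Cfsg.PSU n F q)) = conjU h) :
    ∃ c : Fˣ, c ^ (q + 1) = 1 ∧ (g : GL (Fin n) F) = (h : GL (Fin n) F) * scal c := by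
  obtain ⟨c, hc⟩ := (conjU_eq_conjU_iff hF hn g h).1 he
  have hc0 : c ≠ 0 := fun h0 => val_ne_zero (by omega) (g : GL (Fin n) F) (by rw [hc, h0, zero_smul])
  have heq : (g : GL (Fin n) F) = (h : GL (Fin n) F) * scal (Units.mk0 c hc0) :=
    Units.ext (by rw [smul_val', Units.val_mk0, hc])
  refine ⟨_, (scalar_mem_GU hF (show 1 ≤ n by omega) _).1 ?_, heq⟩
  have : scal (Units.mk0 c hc0) = (h : GL (Fin n) F)⁻¹ * (g : GL (Fin n) F) := by
    rw [heq, inv_mul_cancel_left]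
  rw [this]
  exact mul_mem (inv_mem h.2) g.2

include hF hF₀ hqq hro hσr hι hn in
/-- **Lang's theorem in `PGU_n`**. -/
theorem lang_fieldU (g : Cfsg.GU n F q)
    (h : (conjU g * fieldU σ : MulAut (Cfsg.PSU n F q)) ^ r = 1) :
    ∃ k : Cfsg.GU n F q,
      (conjU g * fieldU σ : MulAut (Cfsg.PSU n F q)) = conjU k * fieldU σ * (conjU k)⁻¹ := by
  classical
  obtain ⟨m, rfl⟩ : ∃ m, n = m + 1 := ⟨n - 1, by omega⟩
  have hr : 0 < r := Odd.pos hro
  rw [conjU_mul_fieldU_pow, ← hσr, pow_orderOf_eq_one, map_one, mul_one, hσr,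
    conjU_eq_one_iff hF hn] at h
  obtain ⟨c, hc⟩ := h
  rw [tnU_coe] at hc
  have hcU : c ^ (q + 1) = 1 := (scalar_mem_GU hF (show 1 ≤ m + 1 by omega) c).1 (by
    rw [← hc, ← tnU_coe]; exact (tnU σ g r).2)
  have hcfix : σ (c : F) = c := by
    have e := FieldExt.twistNorm_add σ (g : GL (Fin (m + 1)) F) 1 r
    rw [Nat.add_comm 1 r, FieldExt.twistNorm_add, hc] at e
    rw [← hσr, pow_orderOf_eq_one, FieldExt.glMap_one, pow_one, AutPSL.glMap_scalar,
      show FieldExt.twistNorm σ (g : GL (Fin (m + 1)) F) 1 = g by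
        rw [FieldExt.twistNorm_succ, FieldExt.twistNorm_zero, map_one, mul_one],
      AutPSL.scalar_commutes] at e
    exact (congrArg Units.val (AutPSL.scalar_inj (mul_left_cancel e))).symm
  obtain ⟨z, hzU, hz⟩ := exists_prod_eq_U hF hro hσr c hcfix hcU
  let zs : Cfsg.GU (m + 1) F q :=
    ⟨Matrix.GeneralLinearGroup.scalar (Fin (m + 1)) z⁻¹,
      (scalar_mem_GU hF (by omega) _).2 (by rw [inv_pow, hzU, inv_one])⟩
  set g₁ := g * zs with hg₁
  have hnorm : FieldExt.twistNorm σ (g₁ : GL (Fin (m + 1)) F) r = 1 := by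
    show FieldExt.twistNorm σ ((g : GL (Fin (m + 1)) F) * _) r = 1
    rw [FieldExt.twistNorm_mul_scalar, hc, ← map_mul, ← map_one (Matrix.GeneralLinearGroup.scalar _)]
    congr 1
    simp only [map_inv, Finset.prod_inv_distrib, hz, mul_inv_cancel]
  obtain ⟨a, ha⟩ := FieldExt.exists_descent σ hr hσr _ hnorm
  -- the form pulled back by `a` is hermitian over the fixed field
  set H := a.valᵀ * a.val.map (qAut hF) with hH
  have hcomm : ∀ x : F, σ (qAut hF x) = qAut hF (σ x) := fun x => by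
    rw [qAut_apply, qAut_apply, map_pow]
  have hHfix : H.map σ = H := by
    have hg := (mem_GU_iff hF _).1 g₁.2
    have hav : a.val = (g₁ : GL (Fin (m + 1)) F).val * a.val.map σ := by
      conv_lhs => rw [← ha]
      rfl
    conv_rhs => rw [hH, hav, Matrix.transpose_mul, Matrix.map_mul, Matrix.mul_assoc,
      ← Matrix.mul_assoc (g₁ : GL (Fin (m + 1)) F).valᵀ, hg, Matrix.one_mul]
    rw [hH, Matrix.map_mul]
    congr 1
    ext i j
    exact hcomm _
  have hent : ∀ i j, ∃ b, ι b = H i j := fun i j => (hι _).1 (congrFun (congrFun hHfix i) j)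
  choose M hM using hent
  have hmap : (Matrix.of M).map ι = H := by ext i j; exact hM i j
  have hMdet : IsUnit (Matrix.of M).det := by
    rw [isUnit_iff_ne_zero]
    intro h0
    have := congrArg ι h0
    rw [RingHom.map_det, map_zero, RingHom.mapMatrix_apply, hmap, hH, Matrix.det_mul,
      Matrix.det_transpose, ← RingEquiv.mapMatrix_apply, ← RingEquiv.map_det] at this
    have hdet := ((Matrix.isUnit_iff_isUnit_det _).1 a.isUnit).ne_zero
    exact mul_ne_zero hdet ((map_ne_zero (qAut hF)).2 hdet) this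
  have hherm : ((Matrix.of M).map (qAut hF₀))ᵀ = Matrix.of M := by
    refine Matrix.map_injective ι.injective ?_
    beta_reduce
    rw [hmap, Matrix.transpose_map]
    have : ((Matrix.of M).map (qAut hF₀)).map ι = H.map (qAut hF) := by
      rw [← hmap]
      ext i j
      simp only [Matrix.map_apply, qAut_apply]
      exact (iota_pow hF₀ hqq hro ι _).symm
    rw [this, hH, Matrix.map_mul, Matrix.transpose_mul]
    congr 1
    · ext i j
      simp [qAut_qAut]
  obtain ⟨b, hb⟩ := FieldExt.exists_herm_factor (qAut hF₀) (qAut_qAut hF₀) (qAut_ne_one hF₀)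
    (Matrix.nonsingInvUnit (Matrix.of M) hMdet) hherm
  let bt : GL (Fin (m + 1)) F :=
    Matrix.nonsingInvUnit (b.val.map ι)ᵀ (by
      rw [Matrix.det_transpose, ← RingHom.mapMatrix_apply, ← RingHom.map_det]
      exact ((Matrix.isUnit_iff_isUnit_det _).1 b.isUnit).map ι)
  have hbt : bt.val = (b.val.map ι)ᵀ := rfl
  have hHb : bt.valᵀ * bt.val.map (qAut hF) = H := by
    have hq : (b.val.map ι).map (qAut hF) = (b.val.map (qAut hF₀)).map ι := by
      ext i j
      simp only [Matrix.map_apply, qAut_apply]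
      exact iota_pow hF₀ hqq hro ι _
    rw [hbt, Matrix.transpose_transpose, Matrix.transpose_map, hq, ← Matrix.transpose_map, ← Matrix.map_mul,
      hb, ← hmap]
    rfl
  have hbtfix : FieldExt.glMap σ bt = bt := by
    refine Units.ext ?_
    rw [FieldExt.glMap_val, hbt]
    ext i j
    exact sigma_iota hι _
  have hkmem : a * bt⁻¹ ∈ Cfsg.GU (m + 1) F q := by
    rw [mem_GU_iff hF, Units.val_mul, Matrix.transpose_mul, Matrix.map_mul]
    calc _ = (bt⁻¹).valᵀ * H * (bt⁻¹).val.map (qAut hF) := by rw [hH]; simp only [Matrix.mul_assoc]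
      _ = (bt.val * (bt⁻¹).val)ᵀ * (bt.val * (bt⁻¹).val).map (qAut hF) := by
          rw [← hHb, Matrix.transpose_mul, Matrix.map_mul]; simp only [Matrix.mul_assoc]
      _ = 1 := by
          rw [Units.mul_inv, Matrix.transpose_one, Matrix.map_one _ (map_zero _) (map_one _),
            Matrix.one_mul]
  let k : Cfsg.GU (m + 1) F q := ⟨a * bt⁻¹, hkmem⟩
  have hk : g₁ * guMap σ k = k := by
    refine Subtype.ext ?_
    show (g₁ : GL (Fin (m + 1)) F) * FieldExt.glMap σ (a * bt⁻¹) = a * bt⁻¹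
    rw [map_mul, map_inv, hbtfix, ← mul_assoc, ha]
  refine ⟨k, ?_⟩
  have hgg : (conjU g : MulAut (Cfsg.PSU (m + 1) F q)) = conjU g₁ := by
    rw [hg₁, map_mul, conjU_of_scalar zs (c := z⁻¹) rfl, mul_one]
  rw [hgg, eq_mul_inv_of_mul_eq hk, map_mul, ← map_inv, ← map_inv, mul_assoc, mul_assoc,
    fieldU_mul_conjU]

include hF hF₀ hqq hro hι hn hσr in
theorem mem_centralizer_fieldU_iff (h : Cfsg.GU n F q) :
    (conjU h : MulAut (Cfsg.PSU n F q)) * fieldU σ * (conjU h)⁻¹ = fieldU σ ↔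
      ∃ (g : Cfsg.GU n F₀ q₀) (z : Fˣ), z ^ (q + 1) = 1 ∧
        (h : GL (Fin n) F) = (embGU hF hF₀ hqq hro hι g : Cfsg.GU n F q) * scal z := by
  rw [mul_inv_eq_iff_eq_mul, fieldU_mul_conjU, mul_left_inj]
  constructor
  · intro e
    obtain ⟨c, hcU, hc⟩ := guMap_eq_mul_scal hF hn _ _ e.symm
    obtain ⟨m, rfl⟩ : ∃ m, n = m + 1 := ⟨n - 1, by omega⟩
    have hprod := AutPSL.prod_eq_one_of_glMap_eq σ hσr (h : GL (Fin (m + 1)) F) c hc
    obtain ⟨z, hzU, hz⟩ := exists_div_eq_U hF hF₀ hqq hro hσr hι c hcU hprod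
    let zs : Cfsg.GU (m + 1) F q :=
      ⟨Matrix.GeneralLinearGroup.scalar (Fin (m + 1)) z, (scalar_mem_GU hF (by omega) _).2 hzU⟩
    obtain ⟨g, hg⟩ := exists_gu_preimage hF hF₀ hqq hro hι (h * zs) (by
      refine Subtype.ext ?_
      show FieldExt.glMap σ ((h : GL (Fin (m + 1)) F) * _) = (h : GL (Fin (m + 1)) F) * _
      rw [map_mul]
      rw [guMap_coe] at hc
      rw [hc, AutPSL.glMap_scalar, mul_assoc, ← map_mul, hz])
    refine ⟨g, z⁻¹, by rw [inv_pow, hzU, inv_one], ?_⟩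
    rw [hg, Subgroup.coe_mul]
    show (h : GL (Fin (m + 1)) F) = (h : GL (Fin (m + 1)) F) * _ * _
    rw [mul_assoc, ← map_mul, mul_inv_cancel, map_one, mul_one]
  · rintro ⟨g, z, hzU, he⟩
    have hh : h = embGU hF hF₀ hqq hro hι g *
        (⟨scal z, (scalar_mem_GU hF (by omega) _).2 hzU⟩ : Cfsg.GU n F q) := Subtype.ext he
    have hfix : guMap σ (embGU hF hF₀ hqq hro hι g) = embGU hF hF₀ hqq hro hι g :=
      Subtype.ext (Units.ext (by ext i j; exact sigma_iota hι _))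
    rw [hh, map_mul (guMap σ), map_mul conjU, map_mul conjU, hfix,
      conjU_of_scalar (⟨scal z, (scalar_mem_GU hF (by omega) _).2 hzU⟩ : Cfsg.GU n F q) (c := z) rfl,
      conjU_of_scalar (guMap σ _) (c := Units.map (σ : F →* F) z) ?_]
    refine Units.ext ?_
    rw [guMap_coe, FieldExt.glMap_val]
    ext i j
    rcases eq_or_ne i j with rfl | hij <;> simp [Matrix.GeneralLinearGroup.coe_scalar, *]

include hn hσr in
/-- `PGU_n(q₀)` is the centraliser of a field automorphism. -/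
theorem range_embU :
    (conjU.comp (embGU (n := n) hF hF₀ hqq hro hι)).range =
      Cfsg.inndiagPSU n F q ⊓ Subgroup.centralizer {fieldU σ} := by
  rw [inndiagPSU_eq_range]
  ext x
  rw [Subgroup.mem_inf, AutPSL.mem_centralizer_singleton]
  constructor
  · rintro ⟨g, rfl⟩
    exact ⟨⟨_, rfl⟩, (mem_centralizer_fieldU_iff hF hF₀ hqq hro hσr hι hn _).2
      ⟨g, 1, one_pow _, by rw [map_one, mul_one]⟩⟩
  · rintro ⟨⟨h, rfl⟩, hh⟩
    obtain ⟨g, z, hzU, he⟩ := (mem_centralizer_fieldU_iff hF hF₀ hqq hro hσr hι hn _).1 hh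
    refine ⟨g, ?_⟩
    have hh' : h = embGU hF hF₀ hqq hro hι g *
        (⟨scal z, (scalar_mem_GU hF (by omega) _).2 hzU⟩ : Cfsg.GU n F q) := Subtype.ext he
    rw [MonoidHom.comp_apply, hh', map_mul,
      conjU_of_scalar (⟨scal z, (scalar_mem_GU hF (by omega) _).2 hzU⟩ : Cfsg.GU n F q) (c := z) rfl, mul_one]

include hn in
theorem ker_embU :
    (conjU.comp (embGU (n := n) hF hF₀ hqq hro hι)).ker =
      (Cfsg.Geo.scalars (Fin n) F₀).subgroupOf (Cfsg.GU n F₀ q₀) := by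
  ext g
  rw [MonoidHom.mem_ker, Subgroup.mem_subgroupOf, GraphAut.mem_scalars, MonoidHom.comp_apply,
    conjU_eq_one_iff hF hn]
  constructor
  · rintro ⟨c, hc⟩
    have he : ∀ i j, ι ((g : GL (Fin n) F₀).val i j) = if i = j then (c : F) else 0 := fun i j => by
      have := congrFun (congrFun (congrArg (fun A : GL (Fin n) F => A.val) hc) i) j
      simpa [embGU_val, Matrix.GeneralLinearGroup.coe_scalar, Matrix.diagonal_apply] using this
    let i₀ : Fin n := ⟨0, by omega⟩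
    have h00 : (g : GL (Fin n) F₀).val i₀ i₀ ≠ 0 := fun h => c.ne_zero (by
      have := he i₀ i₀
      rw [h, map_zero, if_pos rfl] at this
      exact this.symm)
    refine ⟨Units.mk0 _ h00, Units.ext ?_⟩
    rw [GraphAut.scalar_transpose]
    ext i j
    apply ι.injective
    rw [he i j]
    rcases eq_or_ne i j with rfl | hij
    · simpa using he i₀ i₀
    · simp [hij]
  · rintro ⟨c, hc⟩
    refine ⟨Units.map ι.toMonoidHom c, Units.ext ?_⟩
    show (g : GL (Fin n) F₀).val.map ι = _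
    rw [← hc, GraphAut.scalar_transpose, GraphAut.scalar_transpose]
    ext i j
    rcases eq_or_ne i j with rfl | hij <;> simp [*]

include hn hσr hF hF₀ hqq hro hι in
theorem centralizerFieldUEquiv :
    Nonempty (↥(Cfsg.inndiagPSU n F q ⊓ Subgroup.centralizer {fieldU σ}) ≃* Cfsg.PGU n F₀ q₀) :=
  ⟨(MulEquiv.subgroupCongr (range_embU hF hF₀ hqq hro hσr hι hn).symm).trans <|
    (QuotientGroup.quotientKerEquivRange (conjU.comp (embGU hF hF₀ hqq hro hι))).symm.trans
      (QuotientGroup.quotientMulEquivOfEq (ker_embU hF hF₀ hqq hro hι hn))⟩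

include hn hσr hF hF₀ hqq hro hι in
theorem split_fieldU :
    Cfsg.splitClassCount (Cfsg.inndiagPSU n F q) (Cfsg.Inn (Cfsg.PSU n F q)) (fieldU σ) =
      Nat.gcd n ((q + 1) / (q₀ + 1)) := by
  rw [split_eq_index hF hn]
  set U := ↥((powMonoidHom (q + 1) : Fˣ →* Fˣ).ker)
  have hdvd : q₀ + 1 ∣ q + 1 := by simpa [hqq] using hro.nat_add_dvd_pow_add_pow q₀ 1
  set k := (q + 1) / (q₀ + 1) with hk
  have hcard : Nat.card U = q + 1 := Forms.card_norm_kernel hF
  have hkd : k * (q₀ + 1) = Nat.card U := by rw [hcard, hk, Nat.div_mul_cancel hdvd]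
  set D := ((Cfsg.inndiagPSU n F q ⊓ Subgroup.centralizer {fieldU σ}).comap conjU).map
    (detU (n := n) hF) with hD
  have hmemD : ∀ d : U, d ∈ D ↔ ∃ (g : Cfsg.GU n F₀ q₀) (z : U),
      d = detU hF (embGU hF hF₀ hqq hro hι g) * z ^ n := by
    intro d
    constructor
    · rintro ⟨h, hh, rfl⟩
      obtain ⟨g, z, hzU, he⟩ := (mem_centralizer_fieldU_iff hF hF₀ hqq hro hσr hι hn h).1
        (AutPSL.mem_centralizer_singleton.1 (Subgroup.mem_comap.1 hh).2)
      refine ⟨g, ⟨z, MonoidHom.mem_ker.2 hzU⟩, Subtype.ext (Units.ext ?_)⟩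
      rw [Subgroup.coe_mul, Units.val_mul, Subgroup.coe_pow, Units.val_pow_eq_pow_val, detU_coe, detU_coe,
        he, smul_val', Matrix.det_smul, Fintype.card_fin, mul_comm]
    · rintro ⟨g, z, rfl⟩
      have hz : scal (z : Fˣ) ∈ Cfsg.GU n F q := (scalar_mem_GU hF (by omega) _).2 z.2
      refine ⟨embGU hF hF₀ hqq hro hι g * ⟨_, hz⟩, ⟨?_, ?_⟩, ?_⟩
      · rw [inndiagPSU_eq_range]; exact ⟨_, rfl⟩
      · refine AutPSL.mem_centralizer_singleton.2 ?_
        exact (mem_centralizer_fieldU_iff hF hF₀ hqq hro hσr hι hn _).2 ⟨g, z, z.2, rfl⟩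
      · refine Subtype.ext (Units.ext ?_)
        rw [Subgroup.coe_mul, Units.val_mul, Subgroup.coe_pow, Units.val_pow_eq_pow_val, detU_coe, detU_coe,
          Subgroup.coe_mul, Units.val_mul, Matrix.det_mul]
        congr 1
        simp [Matrix.GeneralLinearGroup.coe_scalar]
  set U₀ := ↥((powMonoidHom (q₀ + 1) : F₀ˣ →* F₀ˣ).ker)
  let E : U₀ →* U := ((Units.map ι.toMonoidHom).comp (Subgroup.subtype _)).codRestrict _ fun v => by
    rw [MonoidHom.mem_ker, powMonoidHom_apply]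
    refine Units.ext ?_
    show ι ((v : F₀ˣ) : F₀) ^ (q + 1) = 1
    rw [iota_pow_succ hF₀ hqq hro ι, ← Units.val_pow_eq_pow_val, show (v : F₀ˣ) ^ (q₀ + 1) = 1 from v.2,
      Units.val_one, map_one]
  have hE : E.range = (powMonoidHom k : U →* U).range := by
    rw [range_pow_eq_ker hkd]
    refine Subgroup.eq_of_le_of_card_ge ?_ ?_
    · rintro _ ⟨v, rfl⟩
      rw [MonoidHom.mem_ker, powMonoidHom_apply, ← map_pow,
        show v ^ (q₀ + 1) = 1 from Subtype.ext v.2, map_one]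
    · have hinj : Function.Injective E := fun a b e =>
        Subtype.ext (Units.map_injective ι.injective (congrArg Subtype.val e))
      rw [IsCyclic.card_powMonoidHom_ker, hcard, Nat.gcd_eq_right hdvd,
        ← Nat.card_congr (MonoidHom.ofInjective hinj).toEquiv, Forms.card_norm_kernel hF₀]
  have hDeq : D = (powMonoidHom (Nat.gcd n k) : U →* U).range := by
    rw [← AutPSL.sup_range_pow, ← hE]
    refine le_antisymm (fun d hd => ?_) (sup_le ?_ ?_)
    · obtain ⟨g, z, rfl⟩ := (hmemD d).1 hd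
      refine mul_mem (Subgroup.mem_sup_right ⟨detU hF₀ g, Subtype.ext (Units.ext ?_)⟩)
        (Subgroup.mem_sup_left ⟨z, rfl⟩)
      rw [detU_coe, embGU_val]
      show ι (g : GL (Fin n) F₀).val.det = _
      rw [RingHom.map_det]
      rfl
    · rintro _ ⟨z, rfl⟩
      exact (hmemD _).2 ⟨1, z, by rw [map_one, map_one, one_mul]; rfl⟩
    · rintro _ ⟨v, rfl⟩
      obtain ⟨g, rfl⟩ := detU_surjective hF₀ (by omega : 1 ≤ n) v
      refine (hmemD _).2 ⟨g, 1, Subtype.ext (Units.ext ?_)⟩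
      rw [one_pow, mul_one, detU_coe, embGU_val]
      show ι (g : GL (Fin n) F₀).val.det = _
      rw [RingHom.map_det]
      rfl
  rw [hDeq, range_pow_comp ((Nat.gcd_dvd_right n k).trans (Dvd.intro (q₀ + 1) hkd))]

omit hF₀ hqq hro hσr hι in
/-- Arithmetic of the fixed field of an odd prime order automorphism. -/
theorem fixed_card {p f r : ℕ} [Fact p.Prime] (hq : q = p ^ f) (hF : Fintype.card F = q ^ 2)
    (σ : F ≃+* F) (hσ : orderOf σ = r) (hr : r.Prime) (hro : Odd r) :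
    r ∣ f ∧ q = (p ^ (f / r)) ^ r ∧ Nat.card (FieldExt.fixedField σ) = (p ^ (f / r)) ^ 2 := by
  obtain ⟨h1, h2⟩ := FieldExt.orderOf_dvd_and_card (p := p) (f := f * 2) (by rw [hF, hq, pow_mul]) σ
  rw [hσ] at h1 h2
  have hcop : Nat.Coprime r 2 := (Nat.coprime_two_right).2 hro
  have hrf : r ∣ f := hcop.dvd_of_dvd_mul_right h1
  refine ⟨hrf, ?_, ?_⟩
  · rw [← pow_mul, Nat.div_mul_cancel hrf, hq]
  · rw [h2, ← pow_mul, Nat.mul_div_right_comm hrf]

end Cfsg.Agent.AutPSU
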