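import Cfsg.Agent.Lib.AutPSU.Basic
import Cfsg.Agent.Lib.AutPSL.GraphField
import Cfsg.Agent.Lib.AutPSL.Split
import Cfsg.Agent.Lib.GraphAut.Det
import Cfsg.Agent.Lib.Field.HermDiag

/-!
Involutory graph automorphisms of `PSU_n(q)`: correspondence with invertible symmetric and alternating
matrices over the field of `q` elements, centralisers, class splitting.
-/

set_option autoImplicit false

open Matrix
open scoped MatrixGroups

namespace Cfsg.Agent.AutPSU

variable {n : ℕ} {F : Type*} [Field F] [Fintype F] {q : ℕ} (hF : Fintype.card F = q ^ 2)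
variable {F₀ : Type*} [Field F₀]

local notation "scal" => Matrix.GeneralLinearGroup.scalar (Fin n)
local notation "Mn" => Matrix (Fin n) (Fin n) F

omit [Fintype F] in
theorem smul_val' (c : Fˣ) (g : GL (Fin n) F) : (g * scal c).val = (c : F) • g.val := by
  ext i j
  simp [Matrix.GeneralLinearGroup.coe_scalar, Matrix.mul_diagonal, mul_comm]

omit [Fintype F] in
theorem map_smul'' (σ : F ≃+* F) (a : F) (A : Mn) : (a • A).map σ = σ a • A.map σ := by
  ext i j
  simp

omit [Fintype F] in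
theorem conjU_of_scalar (g : Cfsg.GU n F q) {c : Fˣ} (h : (g : GL (Fin n) F) = scal c) :
    (conjU g : MulAut (Cfsg.PSU n F q)) = 1 := by
  refine MulEquiv.ext fun x => ?_
  induction x using QuotientGroup.induction_on with
  | _ s =>
    rw [conjU_mk]
    refine congrArg QuotientGroup.mk (su_ext ?_)
    have hcomm : Commute (g : GL (Fin n) F) ((suGU s : Cfsg.GU n F q) : GL (Fin n) F) :=
      h ▸ Matrix.GeneralLinearGroup.scalar_commute c _
    exact congrArg Units.val hcomm.mul_inv_cancel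

include hF in
theorem conjU_eq_one_iff (hn : 3 ≤ n) (g : Cfsg.GU n F q) :
    (conjU g : MulAut (Cfsg.PSU n F q)) = 1 ↔ ∃ c : Fˣ, (g : GL (Fin n) F) = scal c :=
  ⟨fun h => (eq_one_of_fix hF hn g 1 (by rw [h, map_one, one_mul])).2, fun ⟨_, hc⟩ => conjU_of_scalar g hc⟩

include hF in
theorem conjU_eq_conjU_iff (hn : 3 ≤ n) (g h : Cfsg.GU n F q) :
    (conjU g : MulAut (Cfsg.PSU n F q)) = conjU h ↔
      ∃ c : F, (g : GL (Fin n) F).val = c • (h : GL (Fin n) F).val := by
  rw [← inv_mul_eq_one, ← map_inv, ← map_mul, conjU_eq_one_iff hF hn]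
  constructor
  · rintro ⟨c, hc⟩
    refine ⟨((c⁻¹ : Fˣ) : F), ?_⟩
    rw [Subgroup.coe_mul, Subgroup.coe_inv, inv_mul_eq_iff_eq_mul] at hc
    rw [← smul_val', hc, mul_assoc, ← map_mul, mul_inv_cancel, map_one, mul_one]
  · rintro ⟨c, hc⟩
    have hc0 : c ≠ 0 := by
      intro h0
      rw [h0, zero_smul] at hc
      have := (Matrix.isUnit_iff_isUnit_det _).1 (g : GL (Fin n) F).isUnit
      haveI hne : Nonempty (Fin n) := ⟨⟨0, by omega⟩⟩
      rw [hc, Matrix.det_zero] at this
      exact not_isUnit_zero this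
    refine ⟨(Units.mk0 c hc0)⁻¹, ?_⟩
    rw [Subgroup.coe_mul, Subgroup.coe_inv, inv_mul_eq_iff_eq_mul]
    refine Units.ext ?_
    rw [smul_val', hc, smul_smul, Units.val_inv_eq_inv_val, Units.val_mk0, inv_mul_cancel₀ hc0, one_smul]

/-! ### Graph automorphisms -/

/-- The automorphism `conjU g ∘ (x ↦ x^q)`. -/
noncomputable def gautU (g : Cfsg.GU n F q) : MulAut (Cfsg.PSU n F q) := conjU g * fieldU (qAut hF)

theorem orderOf_qAut : orderOf (qAut hF) = 2 :=
  FieldExt.orderOf_invol (qAut_qAut hF) (qAut_ne_one hF)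

theorem qAut_sq : qAut hF * qAut hF = 1 := RingEquiv.ext (qAut_qAut hF)

theorem isGraph_gautU (hn : 3 ≤ n) (g : Cfsg.GU n F q) : Cfsg.IsGraphAutClassPSU (gautU hF g) :=
  ⟨hn, conjU g, fieldU (qAut hF), qAut hF, by rw [orderOf_qAut]; exact even_two, isInnerDiagonal_conjU g,
    isFieldAut_fieldU _, rfl⟩

theorem gautU_mul_self (g : Cfsg.GU n F q) :
    gautU hF g * gautU hF g = conjU (g * guMap (qAut hF) g) := by
  rw [gautU, map_mul, mul_assoc, ← mul_assoc (fieldU _), fieldU_mul_conjU, mul_assoc (conjU (guMap _ g)),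
    ← map_mul fieldU, qAut_sq, map_one, mul_one]

theorem conj_gautU (h g : Cfsg.GU n F q) :
    conjU h * gautU hF g * (conjU h)⁻¹ = gautU hF (h * g * (guMap (qAut hF) h)⁻¹) := by
  rw [gautU, gautU, map_mul, map_mul, ← map_inv conjU h]
  calc conjU h * (conjU g * fieldU (qAut hF)) * conjU h⁻¹
      = conjU h * conjU g * (fieldU (qAut hF) * conjU h⁻¹) := by group
    _ = _ := by rw [fieldU_mul_conjU, map_inv (guMap (qAut hF)), ← mul_assoc]

theorem gautU_eq_iff (hn : 3 ≤ n) (g h : Cfsg.GU n F q) :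
    gautU hF g = gautU hF h ↔ ∃ c : F, (g : GL (Fin n) F).val = c • (h : GL (Fin n) F).val := by
  rw [gautU, gautU, mul_left_inj, conjU_eq_conjU_iff hF hn]

theorem orderOf_gautU (hn : 3 ≤ n) (g : Cfsg.GU n F q) {e : F} (he : e ≠ 0)
    (hg : (g : GL (Fin n) F).val * (g : GL (Fin n) F).val.map (qAut hF) = e • 1) :
    orderOf (gautU hF g) = 2 := by
  refine orderOf_eq_prime ?_ fun h => qAut_ne_one hF (eq_one_of_fix hF hn g _ h).1
  rw [sq, gautU_mul_self, conjU_eq_one_iff hF hn]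
  refine ⟨Units.mk0 e he, Units.ext ?_⟩
  rw [Subgroup.coe_mul, Units.val_mul, guMap_coe, FieldExt.glMap_val, hg]
  simp [Matrix.GeneralLinearGroup.coe_scalar, Matrix.smul_one_eq_diagonal]

theorem gu_left (g : Cfsg.GU n F q) :
    ((g : GL (Fin n) F).val.map (qAut hF))ᵀ * (g : GL (Fin n) F).val = 1 :=
  mul_eq_one_comm.1 ((mem_GU_iff' hF _).1 g.2)

theorem exists_gautU_of_invol (hn : 3 ≤ n) (γ : MulAut (Cfsg.PSU n F q)) (hγ : Cfsg.IsGraphAutClassPSU γ)
    (h2 : orderOf γ = 2) : ∃ (g : Cfsg.GU n F q) (e : F), γ = gautU hF g ∧ (e = 1 ∨ e = -1) ∧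
      (g : GL (Fin n) F).val * (g : GL (Fin n) F).val.map (qAut hF) = e • 1 := by
  obtain ⟨-, δ, φ, σ, hev, hδ, hφ, rfl⟩ := hγ
  obtain ⟨g, rfl⟩ := eq_conjU hδ
  obtain rfl := eq_fieldU hφ
  have hsq : (conjU g * fieldU σ) * (conjU g * fieldU σ) = (1 : MulAut (Cfsg.PSU n F q)) := by
    rw [← sq, ← h2, pow_orderOf_eq_one]
  rw [mul_assoc, ← mul_assoc (fieldU σ), fieldU_mul_conjU, mul_assoc (conjU (guMap σ g)),
    ← map_mul fieldU, ← mul_assoc, ← map_mul conjU] at hsq
  obtain ⟨hσ2, c, hc⟩ := eq_one_of_fix hF hn _ _ hsq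
  have hσ : σ = qAut hF := by
    refine AutPSL.invol_unique (qAut_qAut hF) (qAut_ne_one hF)
      (fun a => RingEquiv.congr_fun hσ2 a) (fun h => ?_)
    rw [h, orderOf_one] at hev
    exact Nat.not_even_one hev
  subst hσ
  have hg : (g : GL (Fin n) F).val * (g : GL (Fin n) F).val.map (qAut hF) = (c : F) • 1 := by
    have := congrArg Units.val hc
    rw [Subgroup.coe_mul, Units.val_mul, guMap_coe, FieldExt.glMap_val] at this
    rw [this]
    simp [Matrix.GeneralLinearGroup.coe_scalar, Matrix.smul_one_eq_diagonal]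
  refine ⟨g, c, rfl, ?_, hg⟩
  -- `c` is fixed and unitary
  have hU : (c : F) * qAut hF c = 1 := by
    have hm : scal c ∈ Cfsg.GU n F q := hc ▸ SetLike.coe_mem _
    rw [scalar_mem_GU hF (by omega), Units.ext_iff, Units.val_pow_eq_pow_val, Units.val_one, pow_succ'] at hm
    exact hm
  have hfix : qAut hF c = (c : F) := by
    have h1 : (g : GL (Fin n) F).val.map (qAut hF) * (g : GL (Fin n) F).val = qAut hF c • 1 := by
      have := congrArg (fun A : Mn => A.map (qAut hF)) hg
      simp only [Matrix.map_mul, map_smul'', Matrix.map_one _ (map_zero _) (map_one _), Matrix.map_map] at this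
      rwa [show (qAut hF : F → F) ∘ (qAut hF) = id from funext (qAut_qAut hF), Matrix.map_id] at this
    have h2 : (c : F) • (g : GL (Fin n) F).val = qAut hF c • (g : GL (Fin n) F).val := by
      calc (c : F) • (g : GL (Fin n) F).val
          = ((g : GL (Fin n) F).val * (g : GL (Fin n) F).val.map (qAut hF)) * (g : GL (Fin n) F).val := by
            rw [hg, Matrix.smul_mul, Matrix.one_mul]
        _ = (g : GL (Fin n) F).val * ((g : GL (Fin n) F).val.map (qAut hF) * (g : GL (Fin n) F).val) := by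
            rw [Matrix.mul_assoc]
        _ = qAut hF c • (g : GL (Fin n) F).val := by rw [h1, Matrix.mul_smul, Matrix.mul_one]
    exact (smul_left_injective F (fun h0 => by
      have := (Matrix.isUnit_iff_isUnit_det _).1 (g : GL (Fin n) F).isUnit
      haveI hne : Nonempty (Fin n) := ⟨⟨0, by omega⟩⟩
      rw [h0, Matrix.det_zero] at this
      exact not_isUnit_zero this) h2).symm
  rw [hfix] at hU
  exact mul_self_eq_one_iff.1 hU

/-! ### Descent to forms over `F₀` -/

theorem exists_twistPair (e : F) (he : e = 1 ∨ e = -1) :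
    ∃ p : F × F, p.1 * qAut hF p.1 = e ∧ p.2 ≠ 0 ∧ qAut hF p.2 = e * p.2 := by
  rcases he with rfl | rfl
  · exact ⟨(1, 1), by simp, one_ne_zero, by simp⟩
  · obtain ⟨x, -, hx⟩ := Forms.exists_norm_eq hF (c := (-1 : F)) (neg_ne_zero.2 one_ne_zero)
      (show qAut hF (-1) = -1 by rw [map_neg, map_one])
    obtain ⟨a, ha0, ha⟩ := exists_trace_zero hF
    exact ⟨(x, a), by rw [qAut_apply, ← pow_succ', hx], ha0, by rw [ha, neg_one_mul]⟩

/-- A fixed element of norm `e` and a fixed eigenvector for `e`. -/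
noncomputable def twist (e : F) : F × F :=
  Classical.epsilon fun p : F × F => p.1 * qAut hF p.1 = e ∧ p.2 ≠ 0 ∧ qAut hF p.2 = e * p.2

theorem twist_spec {e : F} (he : e = 1 ∨ e = -1) :
    (twist hF e).1 * qAut hF (twist hF e).1 = e ∧ (twist hF e).2 ≠ 0 ∧
      qAut hF (twist hF e).2 = e * (twist hF e).2 :=
  Classical.epsilon_spec (exists_twistPair hF e he)

/-- The data attaching the matrix `M` over `F₀` to a graph automorphism. -/
structure Desc (ι : F₀ →+* F) (g : Cfsg.GU n F q) (e : F) (b : GL (Fin n) F)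
    (M : Matrix (Fin n) (Fin n) F₀) : Prop where
  he : e = 1 ∨ e = -1
  hg : (g : GL (Fin n) F).val * (g : GL (Fin n) F).val.map (qAut hF) = e • 1
  hb : (twist hF e).1 • ((g : GL (Fin n) F).val * b.val.map (qAut hF)) = b.val
  hM : M.map ι = (twist hF e).2 • ((b.val.map (qAut hF))ᵀ * b.val)

omit [Fintype F] in
theorem map_inj {ι : F₀ →+* F} {A B : Matrix (Fin n) (Fin n) F₀} (h : A.map ι = B.map ι) : A = B :=
  Matrix.map_injective ι.injective h

omit [Fintype F] in
theorem map_smul_ι (ι : F₀ →+* F) (a : F₀) (A : Matrix (Fin n) (Fin n) F₀) : (a • A).map ι = ι a • A.map ι := by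
  ext i j
  simp

theorem map_map_qAut (A : Mn) : (A.map (qAut hF)).map (qAut hF) = A := by
  ext i j
  simp [qAut_qAut]

section Forms

variable {ι : F₀ →+* F} (hι : ∀ a : F, qAut hF a = a ↔ a ∈ Set.range ι)

include hι in
theorem qAut_ι (a : F₀) : qAut hF (ι a) = ι a := (hι _).2 ⟨a, rfl⟩

include hι in
theorem qAut_mapι (A : Matrix (Fin n) (Fin n) F₀) : (A.map ι).map (qAut hF) = A.map ι := by
  ext i j
  simp [qAut_ι hF hι]

include hι in
theorem exists_preimage (A : Mn) (h : A.map (qAut hF) = A) : ∃ B : Matrix (Fin n) (Fin n) F₀, B.map ι = A := by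
  have : ∀ i j, ∃ a, ι a = A i j := fun i j => (hι _).1 (congrFun (congrFun h i) j)
  choose B hB using this
  exact ⟨Matrix.of B, Matrix.ext hB⟩

theorem Desc.eps_mul_self {g : Cfsg.GU n F q} {e : F} {b : GL (Fin n) F} {M : Matrix (Fin n) (Fin n) F₀}
    (h : Desc hF ι g e b M) : e * e = 1 := by rcases h.he with he | he <;> simp [he]

theorem flip_eq {g : Cfsg.GU n F q} {e : F} {b : GL (Fin n) F} (he : e = 1 ∨ e = -1)
    (hg : (g : GL (Fin n) F).val * (g : GL (Fin n) F).val.map (qAut hF) = e • 1)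
    (hb : (twist hF e).1 • ((g : GL (Fin n) F).val * b.val.map (qAut hF)) = b.val) :
    b.valᵀ * b.val.map (qAut hF) = e • ((b.val.map (qAut hF))ᵀ * b.val) := by
  set G := (g : GL (Fin n) F).val
  set κ := (twist hF e).1
  have hGT : G.map (qAut hF) = e • (G.map (qAut hF))ᵀ := by
    calc G.map (qAut hF) = ((G.map (qAut hF))ᵀ * G) * G.map (qAut hF) := by rw [gu_left hF g, Matrix.one_mul]
      _ = e • (G.map (qAut hF))ᵀ := by rw [Matrix.mul_assoc, hg, Matrix.mul_smul, Matrix.mul_one]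
  have hbar : b.val.map (qAut hF) = qAut hF κ • (G.map (qAut hF) * b.val) := by
    conv_lhs => rw [← hb]
    rw [map_smul'', Matrix.map_mul, map_map_qAut]
  rw [hbar, Matrix.mul_smul, Matrix.transpose_smul, Matrix.smul_mul, Matrix.transpose_mul, smul_comm e]
  congr 1
  conv_lhs => rw [hGT, Matrix.smul_mul, Matrix.mul_smul]
  rw [Matrix.mul_assoc]

include hι in
theorem exists_desc (g : Cfsg.GU n F q) {e : F} (he : e = 1 ∨ e = -1)
    (hg : (g : GL (Fin n) F).val * (g : GL (Fin n) F).val.map (qAut hF) = e • 1) :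
    ∃ b M, Desc hF ι g e b M := by
  obtain ⟨hk, hd0, hd⟩ := twist_spec hF he
  set κ := (twist hF e).1
  set δ := (twist hF e).2
  have he2 : e * e = 1 := by rcases he with rfl | rfl <;> simp
  have hκ0 : κ ≠ 0 := by
    intro h0
    rw [h0, zero_mul] at hk
    rw [← hk, zero_mul] at he2
    exact zero_ne_one he2
  let g' : GL (Fin n) F := (g : GL (Fin n) F) * scal (Units.mk0 κ hκ0)
  have hg' : g'.val = κ • (g : GL (Fin n) F).val := smul_val' _ _
  have htn : FieldExt.twistNorm (qAut hF) g' 2 = 1 := by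
    refine Units.ext ?_
    rw [show (2 : ℕ) = 0 + 1 + 1 from rfl, FieldExt.twistNorm_succ, FieldExt.twistNorm_succ,
      FieldExt.twistNorm_zero, map_one, mul_one, Units.val_mul, FieldExt.glMap_val, hg', map_smul'',
      Matrix.smul_mul, Matrix.mul_smul, smul_smul, hg, hk, smul_smul, he2, one_smul, Units.val_one]
  obtain ⟨b, hb⟩ := FieldExt.exists_descent (qAut hF) two_pos (orderOf_qAut hF) g' htn
  have hb' : κ • ((g : GL (Fin n) F).val * b.val.map (qAut hF)) = b.val := by
    have := congrArg Units.val hb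
    rwa [Units.val_mul, FieldExt.glMap_val, hg', Matrix.smul_mul] at this
  obtain ⟨M, hM⟩ := exists_preimage hF hι (δ • ((b.val.map (qAut hF))ᵀ * b.val)) (by
    rw [map_smul'', Matrix.map_mul, ← Matrix.transpose_map, map_map_qAut, flip_eq hF he hg hb', hd, smul_smul,
      mul_right_comm, he2, one_mul, Matrix.transpose_map])
  exact ⟨b, M, he, hg, hb', hM⟩

theorem Desc.transpose {g : Cfsg.GU n F q} {e : F} {b : GL (Fin n) F} {M : Matrix (Fin n) (Fin n) F₀}
    (h : Desc hF ι g e b M) {e₀ : F₀} (he₀ : ι e₀ = e) : Mᵀ = e₀ • M := by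
  refine map_inj (ι := ι) ?_
  rw [Matrix.transpose_map, h.hM, map_smul_ι, he₀, h.hM, Matrix.transpose_smul, Matrix.transpose_mul,
    Matrix.transpose_transpose, flip_eq hF h.he h.hg h.hb, smul_comm]

theorem Desc.det_ne_zero {g : Cfsg.GU n F q} {e : F} {b : GL (Fin n) F} {M : Matrix (Fin n) (Fin n) F₀}
    (h : Desc hF ι g e b M) : M.det ≠ 0 := by
  intro h0
  have h1 : ι M.det = (M.map ι).det := RingHom.map_det ι M
  rw [h0, map_zero, h.hM, Matrix.det_smul, Matrix.det_mul, Matrix.det_transpose, ← RingEquiv.mapMatrix_apply,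
    ← RingEquiv.map_det] at h1
  have hb := ((Matrix.isUnit_iff_isUnit_det _).1 b.isUnit).ne_zero
  exact mul_ne_zero (pow_ne_zero _ (twist_spec hF h.he).2.1) (mul_ne_zero ((map_ne_zero (qAut hF)).2 hb) hb) h1.symm

omit [Fintype F] in
theorem desc_cancel (b : GL (Fin n) F) (A : Mn) : (b⁻¹).val * (b.val * A) = A := Units.inv_mul_cancel_left b A

include hι in
/-- Every symmetric or skew matrix over `F₀` occurs. -/
theorem exists_of_matrix (M : Matrix (Fin n) (Fin n) F₀) (hM : M.det ≠ 0) {e₀ : F₀} (he₀ : e₀ = 1 ∨ e₀ = -1)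
    (hT : Mᵀ = e₀ • M) : ∃ (g : Cfsg.GU n F q) (b : GL (Fin n) F), Desc hF ι g (ι e₀) b M := by
  have he : ι e₀ = 1 ∨ ι e₀ = -1 := by rcases he₀ with rfl | rfl <;> simp
  set e := ι e₀ with hedef
  obtain ⟨hk, hd0, hd⟩ := twist_spec hF he
  set κ := (twist hF e).1
  set δ := (twist hF e).2
  have he2 : e * e = 1 := by rcases he with h | h <;> simp [h]
  have hκ0 : κ ≠ 0 := by
    intro h0
    rw [h0, zero_mul] at hk
    rw [← hk, zero_mul] at he2
    exact zero_ne_one he2
  have he0 : e ≠ 0 := fun h => by rw [h, zero_mul] at he2; exact zero_ne_one he2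
  let X : Mn := δ⁻¹ • M.map ι
  have hXdet : X.det ≠ 0 := by
    rw [Matrix.det_smul, ← RingHom.mapMatrix_apply, ← RingHom.map_det]
    exact mul_ne_zero (pow_ne_zero _ (inv_ne_zero hd0)) ((map_ne_zero ι).2 hM)
  obtain ⟨h, hh⟩ := FieldExt.exists_herm_factor (qAut hF) (qAut_qAut hF) (qAut_ne_one hF)
    (Matrix.GeneralLinearGroup.mkOfDetNeZero X hXdet) (by
      show (X.map (qAut hF))ᵀ = X
      rw [map_smul'', qAut_mapι hF hι, Matrix.transpose_smul, ← Matrix.transpose_map, hT, map_smul_ι, map_inv₀, hd,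
        smul_smul, mul_inv, ← hedef, mul_right_comm, inv_mul_cancel₀ he0, one_mul])
  change h.val * (h.val.map (qAut hF))ᵀ = X at hh
  let b : GL (Fin n) F := Matrix.GeneralLinearGroup.mkOfDetNeZero (h.val.map (qAut hF))ᵀ (by
    rw [Matrix.det_transpose, ← RingEquiv.mapMatrix_apply, ← RingEquiv.map_det, map_ne_zero]
    exact ((Matrix.isUnit_iff_isUnit_det _).1 h.isUnit).ne_zero)
  have hbb : (b.val.map (qAut hF))ᵀ * b.val = X := by
    rw [show b.val = (h.val.map (qAut hF))ᵀ from rfl, ← Matrix.transpose_map, Matrix.transpose_transpose,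
      map_map_qAut, hh]
  have hbb' : b.valᵀ * b.val.map (qAut hF) = e • X := by
    rw [← Matrix.transpose_inj, Matrix.transpose_mul, Matrix.transpose_transpose, hbb, Matrix.transpose_smul]
    simp only [X, Matrix.transpose_smul, ← Matrix.transpose_map, hT, map_smul_ι, ← hedef]
    rw [smul_comm e, smul_smul e, he2, one_smul]
  let G : GL (Fin n) F := b * (FieldExt.glMap (qAut hF) b)⁻¹ * scal (Units.mk0 κ hκ0)⁻¹
  have hG : G.val = κ⁻¹ • (b * (FieldExt.glMap (qAut hF) b)⁻¹).val := by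
    rw [smul_val', Units.val_inv_eq_inv_val, Units.val_mk0]
  have hGGb : G.val * G.val.map (qAut hF) = e • 1 := by
    have h1 : FieldExt.glMap (qAut hF) (b * (FieldExt.glMap (qAut hF) b)⁻¹) =
        FieldExt.glMap (qAut hF) b * b⁻¹ := by
      rw [map_mul, map_inv, ← FieldExt.glMap_mul, qAut_sq, FieldExt.glMap_one]
    rw [hG, map_smul'', ← FieldExt.glMap_val, h1, Matrix.smul_mul, Matrix.mul_smul, smul_smul, ← Units.val_mul,
      show b * (FieldExt.glMap (qAut hF) b)⁻¹ * (FieldExt.glMap (qAut hF) b * b⁻¹) = 1 by group,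
      Units.val_one, map_inv₀, ← mul_inv, hk, inv_eq_of_mul_eq_one_right he2]
  have hGU : G ∈ Cfsg.GU n F q := by
    rw [mem_GU_iff hF, hG, Matrix.transpose_smul, map_smul'', Matrix.smul_mul, Matrix.mul_smul, smul_smul,
      map_inv₀, ← mul_inv, hk, inv_eq_of_mul_eq_one_right he2, Units.val_mul, Matrix.transpose_mul,
      Matrix.map_mul]
    set Bi := ((FieldExt.glMap (qAut hF) b)⁻¹ : GL (Fin n) F).val
    have hBi : Bi.map (qAut hF) = (b⁻¹).val := by
      show (FieldExt.glMap (qAut hF) (FieldExt.glMap (qAut hF) b)⁻¹).val = _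
      rw [map_inv, ← FieldExt.glMap_mul, qAut_sq, FieldExt.glMap_one]
    have hB1 : b.val.map (qAut hF) * Bi = 1 := by
      rw [← FieldExt.glMap_val, ← Units.val_mul, mul_inv_cancel, Units.val_one]
    calc e • (Biᵀ * b.valᵀ * (b.val.map (qAut hF) * Bi.map (qAut hF)))
        = e • (Biᵀ * (b.valᵀ * b.val.map (qAut hF)) * (b⁻¹).val) := by rw [hBi]; simp only [Matrix.mul_assoc]
      _ = Biᵀ * ((b.val.map (qAut hF))ᵀ * b.val) * (b⁻¹).val := by
          rw [hbb', hbb, Matrix.mul_smul, Matrix.smul_mul, smul_smul, he2, one_smul]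
      _ = (b.val.map (qAut hF) * Bi)ᵀ * (b.val * (b⁻¹).val) := by
          rw [Matrix.transpose_mul]; simp only [Matrix.mul_assoc]
      _ = 1 := by rw [hB1, Units.mul_inv]; simp
  refine ⟨⟨G, hGU⟩, b, he, hGGb, ?_, ?_⟩
  · show κ • (G.val * b.val.map (qAut hF)) = b.val
    rw [hG, Matrix.smul_mul, smul_smul, mul_inv_cancel₀ hκ0, one_smul, ← FieldExt.glMap_val, ← Units.val_mul,
      inv_mul_cancel_right]
  · show M.map ι = δ • ((b.val.map (qAut hF))ᵀ * b.val)
    rw [hbb, smul_smul, mul_inv_cancel₀ hd0, one_smul]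

include hι in
/-- From an intertwiner to a similitude. -/
theorem sim_of_intertwine {g g' : Cfsg.GU n F q} {e : F} {b b' : GL (Fin n) F}
    {M M' : Matrix (Fin n) (Fin n) F₀} (hD : Desc hF ι g e b M) (hD' : Desc hF ι g' e b' M')
    (h : Cfsg.GU n F q) {c : Fˣ} (hc : (c : F) * qAut hF c = 1)
    (hh : (h : GL (Fin n) F).val * (g : GL (Fin n) F).val =
      (c : F) • ((g' : GL (Fin n) F).val * (h : GL (Fin n) F).val.map (qAut hF))) :
    ∃ (y : Fˣ) (P : GL (Fin n) F₀) (l : F₀ˣ), (c : F) * qAut hF y = y ∧ (y : F) * qAut hF y * ι (l : F₀) = 1 ∧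
      P.valᵀ * M' * P.val = (l : F₀) • M ∧
      (h : GL (Fin n) F).val = (y : F) • (b'.val * P.val.map ι * (b⁻¹).val) := by
  have hd := (twist_spec hF hD.he).2.1
  obtain ⟨y, hy⟩ := FieldExt.exists_div_eq (qAut hF) two_pos (orderOf_qAut hF) c (by
    rw [show (2 : ℕ) = 0 + 1 + 1 from rfl, Finset.prod_range_succ, Finset.prod_range_succ,
      Finset.prod_range_zero, one_mul]
    exact Units.ext (by simpa using hc))
  have hy' : (c : F) * qAut hF y = y := congrArg Units.val hy
  set H := (h : GL (Fin n) F).val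
  set K : GL (Fin n) F := b'⁻¹ * (h : GL (Fin n) F) * b * scal y⁻¹ with hKdef
  have hbK : b'.val * K.val = (y : F)⁻¹ • (H * b.val) := by
    rw [hKdef, smul_val', Units.val_mul, Units.val_mul, Matrix.mul_smul, Matrix.mul_assoc (b'⁻¹).val,
      Units.mul_inv_cancel_left, Units.val_inv_eq_inv_val]
  have hfix : K.val.map (qAut hF) = K.val := by
    have h1 : b'.val.map (qAut hF) * K.val.map (qAut hF) = (qAut hF y)⁻¹ • (H.map (qAut hF) * b.val.map (qAut hF)) := by
      rw [← Matrix.map_mul, hbK, map_smul'', Matrix.map_mul, map_inv₀]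
    have h2 : b'.val * K.val.map (qAut hF) = b'.val * K.val := by
      conv_lhs => rw [← hD'.hb]
      rw [Matrix.smul_mul, Matrix.mul_assoc, h1, Matrix.mul_smul, smul_smul, hbK]
      conv_rhs => rw [← hD.hb, Matrix.mul_smul, ← Matrix.mul_assoc, hh, Matrix.smul_mul, smul_smul, smul_smul]
      rw [Matrix.mul_assoc]
      congr 1
      field_simp
      linear_combination (-(twist hF e).1) * hy'
    have := congrArg (fun A => (b'⁻¹).val * A) h2
    simpa only [desc_cancel] using this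
  obtain ⟨P₀, hP₀⟩ := exists_preimage hF hι K.val hfix
  have hP₀d : P₀.det ≠ 0 := by
    intro h0
    have h1 : ι P₀.det = (P₀.map ι).det := RingHom.map_det ι P₀
    rw [h0, map_zero, hP₀] at h1
    exact ((Matrix.isUnit_iff_isUnit_det _).1 K.isUnit).ne_zero h1.symm
  obtain ⟨l₀, hl₀⟩ : ∃ l₀ : F₀, ι l₀ = ((y : F) * qAut hF y)⁻¹ :=
    (hι _).1 (by rw [map_inv₀, map_mul, qAut_qAut, mul_comm])
  have hl0 : l₀ ≠ 0 := fun h0 => by
    rw [h0, map_zero, eq_comm, inv_eq_zero, mul_eq_zero] at hl₀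
    rcases hl₀ with h' | h'
    · exact y.ne_zero h'
    · exact y.ne_zero ((map_eq_zero _).1 h')
  refine ⟨y, Matrix.GeneralLinearGroup.mkOfDetNeZero P₀ hP₀d, Units.mk0 l₀ hl0, hy', ?_, ?_, ?_⟩
  · rw [Units.val_mk0, hl₀, mul_inv_cancel₀ (mul_ne_zero y.ne_zero ((map_ne_zero _).2 y.ne_zero))]
  · refine map_inj (ι := ι) ?_
    rw [map_smul_ι, Units.val_mk0, hl₀, Matrix.map_mul, Matrix.map_mul,
      show ((Matrix.GeneralLinearGroup.mkOfDetNeZero P₀ hP₀d).val) = P₀ from rfl, Matrix.transpose_map, hP₀]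
    have key : K.valᵀ * ((b'.val.map (qAut hF))ᵀ * b'.val) * K.val =
        ((y : F) * qAut hF y)⁻¹ • ((b.val.map (qAut hF))ᵀ * b.val) := by
      calc K.valᵀ * ((b'.val.map (qAut hF))ᵀ * b'.val) * K.val
          = ((b'.val * K.val).map (qAut hF))ᵀ * (b'.val * K.val) := by
            rw [Matrix.map_mul, hfix, Matrix.transpose_mul]; simp only [Matrix.mul_assoc]
        _ = ((y : F) * qAut hF y)⁻¹ • ((b.val.map (qAut hF))ᵀ * ((H.map (qAut hF))ᵀ * H) * b.val) := by
            rw [hbK, map_smul'', Matrix.transpose_smul, Matrix.smul_mul, Matrix.mul_smul, smul_smul,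
              Matrix.map_mul, Matrix.transpose_mul, map_inv₀, ← mul_inv, mul_comm (qAut hF y)]
            simp only [Matrix.mul_assoc]
        _ = _ := by rw [gu_left hF h, Matrix.mul_one]
    rw [hD'.hM, hD.hM, Matrix.mul_smul, Matrix.smul_mul, key, smul_comm]
  · rw [show (Matrix.GeneralLinearGroup.mkOfDetNeZero P₀ hP₀d).val.map ι = K.val from hP₀, hbK, Matrix.smul_mul,
      smul_smul, mul_inv_cancel₀ y.ne_zero, one_smul, Matrix.mul_assoc, Units.mul_inv, Matrix.mul_one]

include hι in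
/-- From a similitude to an intertwiner. -/
theorem intertwine_of_sim {g g' : Cfsg.GU n F q} {e : F} {b b' : GL (Fin n) F}
    {M M' : Matrix (Fin n) (Fin n) F₀} (hD : Desc hF ι g e b M) (hD' : Desc hF ι g' e b' M')
    (P : GL (Fin n) F₀) (l : F₀ˣ) (hP : P.valᵀ * M' * P.val = (l : F₀) • M) (y : Fˣ)
    (hy : (y : F) * qAut hF y * ι (l : F₀) = 1) :
    ∃ h : Cfsg.GU n F q, (h : GL (Fin n) F).val = (y : F) • (b'.val * P.val.map ι * (b⁻¹).val) ∧
      (h : GL (Fin n) F).val * (g : GL (Fin n) F).val =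
        ((y : F) / qAut hF y) • ((g' : GL (Fin n) F).val * (h : GL (Fin n) F).val.map (qAut hF)) := by
  obtain ⟨hk, hd, -⟩ := twist_spec hF hD.he
  have hκ0 : (twist hF e).1 ≠ 0 := by
    intro h0
    rw [h0, zero_mul] at hk
    have := hD.eps_mul_self hF
    rw [← hk, zero_mul] at this
    exact zero_ne_one this
  let H : GL (Fin n) F := b' * Matrix.GeneralLinearGroup.map ι P * b⁻¹ * scal y
  have hH : H.val = (y : F) • (b'.val * P.val.map ι * (b⁻¹).val) := by
    rw [smul_val']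
    rfl
  have hbi : (b⁻¹).val.map (qAut hF) * b.val.map (qAut hF) = 1 := by
    rw [← Matrix.map_mul, Units.inv_mul, Matrix.map_one _ (map_zero _) (map_one _)]
  have hbi' : b.val.map (qAut hF) * (b⁻¹).val.map (qAut hF) = 1 := by
    rw [← Matrix.map_mul, Units.mul_inv, Matrix.map_one _ (map_zero _) (map_one _)]
  have hHbar : H.val.map (qAut hF) =
      qAut hF y • (b'.val.map (qAut hF) * P.val.map ι * (b⁻¹).val.map (qAut hF)) := by
    rw [hH, map_smul'', Matrix.map_mul, Matrix.map_mul, qAut_mapι hF hι]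
  have hmem : H ∈ Cfsg.GU n F q := by
    rw [mem_GU_iff' hF]
    refine mul_eq_one_comm.1 ?_
    have hP' : (P.val.map ι)ᵀ * ((b'.val.map (qAut hF))ᵀ * b'.val) * P.val.map ι =
        ι (l : F₀) • ((b.val.map (qAut hF))ᵀ * b.val) := by
      refine smul_right_injective _ hd ?_
      show (twist hF e).2 • _ = (twist hF e).2 • _
      rw [smul_comm _ (ι (l : F₀)), ← hD.hM, ← map_smul_ι, ← hP, ← Matrix.smul_mul, ← Matrix.mul_smul, ← hD'.hM,
        ← Matrix.transpose_map, ← Matrix.map_mul, ← Matrix.map_mul]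
    rw [hHbar, hH, Matrix.transpose_smul, Matrix.smul_mul, Matrix.mul_smul, smul_smul, Matrix.transpose_mul,
      Matrix.transpose_mul]
    calc _ = (qAut hF y * (y : F)) • (((b⁻¹).val.map (qAut hF))ᵀ *
          ((P.val.map ι)ᵀ * ((b'.val.map (qAut hF))ᵀ * b'.val) * P.val.map ι) * (b⁻¹).val) := by
            simp only [Matrix.mul_assoc]
      _ = ((y : F) * qAut hF y * ι (l : F₀)) • ((b.val.map (qAut hF) * (b⁻¹).val.map (qAut hF))ᵀ *
            (b.val * (b⁻¹).val)) := by
            rw [hP', Matrix.mul_smul, Matrix.smul_mul, smul_smul, mul_comm (qAut hF y), Matrix.transpose_mul]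
            simp only [Matrix.mul_assoc]
      _ = 1 := by rw [hbi', Units.mul_inv, hy]; simp
  refine ⟨⟨H, hmem⟩, hH, ?_⟩
  show H.val * _ = _ • (_ * H.val.map (qAut hF))
  rw [hHbar, hH, Matrix.smul_mul, Matrix.mul_smul, smul_smul, div_mul_cancel₀ _ ((map_ne_zero _).2 y.ne_zero)]
  congr 1
  refine smul_right_injective _ hκ0 ?_
  show (twist hF e).1 • _ = (twist hF e).1 • _
  have e1 : (twist hF e).1 • ((g' : GL (Fin n) F).val *
      (b'.val.map (qAut hF) * P.val.map ι * (b⁻¹).val.map (qAut hF))) =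
      b'.val * P.val.map ι * (b⁻¹).val.map (qAut hF) := by
    conv_rhs => rw [← hD'.hb, Matrix.smul_mul, Matrix.smul_mul]
    simp only [Matrix.mul_assoc]
  have e2 : (twist hF e).1 • ((b⁻¹).val * (g : GL (Fin n) F).val) = (b⁻¹).val.map (qAut hF) := by
    calc _ = (b⁻¹).val * ((twist hF e).1 • ((g : GL (Fin n) F).val * b.val.map (qAut hF))) *
          (b⁻¹).val.map (qAut hF) := by
          rw [Matrix.mul_smul, Matrix.smul_mul, Matrix.mul_assoc (b⁻¹).val, Matrix.mul_assoc (g : GL (Fin n) F).val,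
            hbi', Matrix.mul_one]
      _ = _ := by rw [hD.hb, Units.inv_mul, Matrix.one_mul]
  rw [e1, Matrix.mul_assoc _ (b⁻¹).val, ← Matrix.mul_smul, e2]

include hι in
theorem exists_y (l : F₀ˣ) : ∃ y : Fˣ, (y : F) * qAut hF y * ι (l : F₀) = 1 := by
  obtain ⟨x, hx0, hx⟩ := Forms.exists_norm_eq hF (c := (ι (l : F₀))⁻¹) (inv_ne_zero ((map_ne_zero ι).2 l.ne_zero))
    (show qAut hF (ι (l : F₀))⁻¹ = _ by rw [map_inv₀, qAut_ι hF hι])
  refine ⟨Units.mk0 x hx0, ?_⟩
  rw [Units.val_mk0, qAut_apply, ← pow_succ', hx, inv_mul_cancel₀ ((map_ne_zero ι).2 l.ne_zero)]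

end Forms

end Cfsg.Agent.AutPSU
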