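import Cfsg.Agent.Lib.AutPSU.Graph

/-!
Classes, centralisers and class splitting of involutory graph automorphisms of `PSU_n(q)`.
-/

set_option autoImplicit false

open Matrix
open scoped MatrixGroups

namespace Cfsg.Agent.AutPSU

variable {n : ℕ} {F : Type*} [Field F] [Fintype F] {q : ℕ} (hF : Fintype.card F = q ^ 2)
variable {F₀ : Type*} [Field F₀] {ι : F₀ →+* F} (hι : ∀ a : F, qAut hF a = a ↔ a ∈ Set.range ι)

local notation "scal" => Matrix.GeneralLinearGroup.scalar (Fin n)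
local notation "Mn" => Matrix (Fin n) (Fin n) F

omit [Fintype F] in
theorem val_ne_zero (hn : 1 ≤ n) (g : GL (Fin n) F) : g.val ≠ 0 := by
  intro h0
  haveI hne : Nonempty (Fin n) := ⟨⟨0, hn⟩⟩
  have := (Matrix.isUnit_iff_isUnit_det _).1 g.isUnit
  rw [h0, Matrix.det_zero] at this
  exact not_isUnit_zero this

theorem mat_ne_zero (hn : 1 ≤ n) {g : Cfsg.GU n F q} {e : F} {b : GL (Fin n) F}
    {M : Matrix (Fin n) (Fin n) F₀} (h : Desc hF ι g e b M) : M ≠ 0 := by
  intro h0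
  haveI hne : Nonempty (Fin n) := ⟨⟨0, hn⟩⟩
  exact h.det_ne_zero hF (by rw [h0, Matrix.det_zero])

theorem Desc.eps {g : Cfsg.GU n F q} {e : F} {b : GL (Fin n) F} {M : Matrix (Fin n) (Fin n) F₀}
    (h : Desc hF ι g e b M) : ∃ e₀ : F₀, (e₀ = 1 ∨ e₀ = -1) ∧ ι e₀ = e ∧ Mᵀ = e₀ • M := by
  obtain ⟨e₀, h1, h2⟩ : ∃ e₀ : F₀, (e₀ = 1 ∨ e₀ = -1) ∧ ι e₀ = e := by
    rcases h.he with he | he
    · exact ⟨1, Or.inl rfl, by rw [map_one, he]⟩
    · exact ⟨-1, Or.inr rfl, by rw [map_neg, map_one, he]⟩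
  exact ⟨e₀, h1, h2, h.transpose hF h2⟩

theorem intertwine_of_eq (hn : 3 ≤ n) {g g' h : Cfsg.GU n F q}
    (e : conjU h * gautU hF g * (conjU h)⁻¹ = gautU hF g') :
    ∃ c : Fˣ, (c : F) * qAut hF c = 1 ∧ (h : GL (Fin n) F).val * (g : GL (Fin n) F).val =
      (c : F) • ((g' : GL (Fin n) F).val * (h : GL (Fin n) F).val.map (qAut hF)) := by
  rw [conj_gautU, gautU_eq_iff hF hn] at e
  obtain ⟨c, hc⟩ := e
  set t := h * g * (guMap (qAut hF) h)⁻¹ with ht
  have hc0 : c ≠ 0 := by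
    intro h0
    rw [h0, zero_smul] at hc
    exact val_ne_zero (by omega) _ hc
  have hmem : scal (Units.mk0 c hc0) ∈ Cfsg.GU n F q := by
    have heq : ((t * g'⁻¹ : Cfsg.GU n F q) : GL (Fin n) F) = scal (Units.mk0 c hc0) := by
      refine Units.ext ?_
      rw [Subgroup.coe_mul, Units.val_mul, hc, Subgroup.coe_inv, Matrix.smul_mul, Units.mul_inv]
      simp [Matrix.GeneralLinearGroup.coe_scalar, Matrix.smul_one_eq_diagonal]
    exact heq ▸ (t * g'⁻¹).2
  rw [scalar_mem_GU hF (by omega), Units.ext_iff, Units.val_pow_eq_pow_val, Units.val_one, pow_succ'] at hmem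
  refine ⟨Units.mk0 c hc0, hmem, ?_⟩
  have : h * g = t * guMap (qAut hF) h := by rw [ht, inv_mul_cancel_right]
  have h1 := congrArg (fun x : Cfsg.GU n F q => (x : GL (Fin n) F).val) this
  simp only [Subgroup.coe_mul, Units.val_mul, guMap_coe, FieldExt.glMap_val] at h1
  rw [h1, hc, Matrix.smul_mul, Units.val_mk0]

theorem eq_of_intertwine (hn : 3 ≤ n) {g g' h : Cfsg.GU n F q} {c : F}
    (hh : (h : GL (Fin n) F).val * (g : GL (Fin n) F).val =
      c • ((g' : GL (Fin n) F).val * (h : GL (Fin n) F).val.map (qAut hF))) :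
    conjU h * gautU hF g * (conjU h)⁻¹ = gautU hF g' := by
  rw [conj_gautU, gautU_eq_iff hF hn]
  refine ⟨c, ?_⟩
  rw [Subgroup.coe_mul, Subgroup.coe_mul, Subgroup.coe_inv, guMap_coe, Units.val_mul, Units.val_mul, hh,
    Matrix.smul_mul, Matrix.mul_assoc, ← FieldExt.glMap_val, ← Units.val_mul, mul_inv_cancel, Units.val_one,
    Matrix.mul_one]

theorem eps_eq_of_intertwine (hn : 1 ≤ n) {g g' h : Cfsg.GU n F q} {e e' : F} {c : Fˣ}
    (hc : (c : F) * qAut hF c = 1)
    (hg : (g : GL (Fin n) F).val * (g : GL (Fin n) F).val.map (qAut hF) = e • 1)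
    (hg' : (g' : GL (Fin n) F).val * (g' : GL (Fin n) F).val.map (qAut hF) = e' • 1)
    (hh : (h : GL (Fin n) F).val * (g : GL (Fin n) F).val =
      (c : F) • ((g' : GL (Fin n) F).val * (h : GL (Fin n) F).val.map (qAut hF))) : e = e' := by
  have h1 : (h : GL (Fin n) F).val.map (qAut hF) * (g : GL (Fin n) F).val.map (qAut hF) =
      qAut hF c • ((g' : GL (Fin n) F).val.map (qAut hF) * (h : GL (Fin n) F).val) := by
    rw [← Matrix.map_mul, hh, map_smul'', Matrix.map_mul, map_map_qAut]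
  have h2 : e • (h : GL (Fin n) F).val = e' • (h : GL (Fin n) F).val := by
    calc e • (h : GL (Fin n) F).val
        = (h : GL (Fin n) F).val * (g : GL (Fin n) F).val * (g : GL (Fin n) F).val.map (qAut hF) := by
          rw [Matrix.mul_assoc, hg, Matrix.mul_smul, Matrix.mul_one]
      _ = ((c : F) * qAut hF c) • ((g' : GL (Fin n) F).val * (g' : GL (Fin n) F).val.map (qAut hF) *
            (h : GL (Fin n) F).val) := by
          rw [hh, Matrix.smul_mul, Matrix.mul_assoc, h1, Matrix.mul_smul, smul_smul, Matrix.mul_assoc]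
      _ = e' • (h : GL (Fin n) F).val := by rw [hc, hg', one_smul, Matrix.smul_mul, Matrix.one_mul]
  exact smul_left_injective F (val_ne_zero hn _) h2

include hι in
theorem matSim_of_conj (hn : 3 ≤ n) {g g' : Cfsg.GU n F q} {e e' : F} {b b' : GL (Fin n) F}
    {M M' : Matrix (Fin n) (Fin n) F₀} (hD : Desc hF ι g e b M) (hD' : Desc hF ι g' e' b' M')
    (h : Cfsg.IsConjUnder (Cfsg.inndiagPSU n F q) (gautU hF g) (gautU hF g')) :
    GraphAut.MatSim M M' := by
  rw [Cfsg.IsConjUnder, inndiagPSU_eq_range] at h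
  obtain ⟨_, ⟨x, rfl⟩, he⟩ := h
  obtain ⟨c, hc, hh⟩ := intertwine_of_eq hF hn he.symm
  obtain rfl := eps_eq_of_intertwine hF (by omega) hc hD.hg hD'.hg hh
  obtain ⟨-, P, l, -, -, hP, -⟩ := sim_of_intertwine hF hι hD hD' x hc hh
  exact (GraphAut.MatSim.of_units P l hP).symm

include hι in
theorem conj_of_matSim (hn : 3 ≤ n) {g g' : Cfsg.GU n F q} {e e' : F} {b b' : GL (Fin n) F}
    {M M' : Matrix (Fin n) (Fin n) F₀} (hD : Desc hF ι g e b M) (hD' : Desc hF ι g' e' b' M')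
    (h : GraphAut.MatSim M M') :
    Cfsg.IsConjUnder (Cfsg.inndiagPSU n F q) (gautU hF g) (gautU hF g') := by
  obtain ⟨e₀, -, rfl, hT⟩ := hD.eps hF
  obtain ⟨e₁, -, rfl, hT'⟩ := hD'.eps hF
  have hee : e₀ = e₁ := smul_left_injective F₀ (mat_ne_zero hF (by omega) hD') ((h.transpose_eq hT).symm.trans hT')
  subst hee
  obtain ⟨P, Q, l, hPQ, hQP, hP⟩ := h.symm
  obtain ⟨y, hy⟩ := exists_y hF hι l
  obtain ⟨x, -, hx⟩ := intertwine_of_sim hF hι hD hD' ⟨P, Q, hPQ, hQP⟩ l hP y hy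
  rw [Cfsg.IsConjUnder, inndiagPSU_eq_range]
  exact ⟨_, ⟨x, rfl⟩, (eq_of_intertwine hF hn hx).symm⟩

/-! ### Centralisers -/

section Centralizer

variable {g : Cfsg.GU n F q} {e : F} {b : GL (Fin n) F} {M : Matrix (Fin n) (Fin n) F₀}

include hι in
theorem exists_simLift (hD : Desc hF ι g e b M) (k : GraphAut.simM M) :
    ∃ h : Cfsg.GU n F q, ∃ y : F, (h : GL (Fin n) F).val =
      y • (b.val * (k : GL (Fin n) F₀).val.map ι * (b⁻¹).val) ∧
      ∃ c : F, (h : GL (Fin n) F).val * (g : GL (Fin n) F).val =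
        c • ((g : GL (Fin n) F).val * (h : GL (Fin n) F).val.map (qAut hF)) := by
  obtain ⟨l, hl⟩ := GraphAut.mem_simM.1 k.2
  obtain ⟨y, hy⟩ := exists_y hF hι l
  obtain ⟨x, hx1, hx2⟩ := intertwine_of_sim hF hι hD hD (k : GL (Fin n) F₀) l hl y hy
  exact ⟨x, y, hx1, _, hx2⟩

/-- The element of `GU` attached to a similitude. -/
noncomputable def liftSim (hD : Desc hF ι g e b M) (k : GraphAut.simM M) : Cfsg.GU n F q :=
  (exists_simLift hF hι hD k).choose

include hι in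
theorem conjU_lift_eq (hn : 3 ≤ n) (hD : Desc hF ι g e b M) (k : GraphAut.simM M) (x : Cfsg.GU n F q) (z : F)
    (hx : (x : GL (Fin n) F).val = z • (b.val * (k : GL (Fin n) F₀).val.map ι * (b⁻¹).val)) :
    (conjU (liftSim hF hι hD k) : MulAut (Cfsg.PSU n F q)) = conjU x := by
  obtain ⟨y, hy, -⟩ := (exists_simLift hF hι hD k).choose_spec
  have hz : z ≠ 0 := fun h0 => val_ne_zero (by omega) (x : GL (Fin n) F) (by rw [hx, h0, zero_smul])
  rw [conjU_eq_conjU_iff hF hn]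
  refine ⟨y / z, ?_⟩
  rw [hx, smul_smul, div_mul_cancel₀ _ hz]
  exact hy

/-- Similitudes to automorphisms commuting with `gautU g`. -/
noncomputable def centU (hn : 3 ≤ n) (hD : Desc hF ι g e b M) : GraphAut.simM M →* MulAut (Cfsg.PSU n F q) :=
  MonoidHom.mk' (fun k => conjU (liftSim hF hι hD k)) (fun k₁ k₂ => by
    rw [← map_mul]
    obtain ⟨y₁, h₁, -⟩ := (exists_simLift hF hι hD k₁).choose_spec
    obtain ⟨y₂, h₂, -⟩ := (exists_simLift hF hι hD k₂).choose_spec
    refine conjU_lift_eq hF hι hn hD _ _ (y₁ * y₂) ?_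
    rw [Subgroup.coe_mul, Units.val_mul]
    show (liftSim hF hι hD k₁ : GL (Fin n) F).val * (liftSim hF hι hD k₂ : GL (Fin n) F).val = _
    rw [show (liftSim hF hι hD k₁ : GL (Fin n) F).val = _ from h₁,
      show (liftSim hF hι hD k₂ : GL (Fin n) F).val = _ from h₂, Matrix.smul_mul, Matrix.mul_smul, smul_smul,
      Subgroup.coe_mul, Units.val_mul, Matrix.map_mul]
    simp only [Matrix.mul_assoc, GraphAut.conjEquiv]
    rw [Units.inv_mul_cancel_left])

include hι in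
theorem range_centU (hn : 3 ≤ n) (hD : Desc hF ι g e b M) :
    (centU hF hι hn hD).range = Cfsg.inndiagPSU n F q ⊓ Subgroup.centralizer {gautU hF g} := by
  rw [inndiagPSU_eq_range]
  ext x
  rw [Subgroup.mem_inf, AutPSL.mem_centralizer_singleton]
  constructor
  · rintro ⟨k, rfl⟩
    obtain ⟨y, -, c, hc⟩ := (exists_simLift hF hι hD k).choose_spec
    exact ⟨⟨_, rfl⟩, eq_of_intertwine hF hn hc⟩
  · rintro ⟨⟨h, rfl⟩, hh⟩
    obtain ⟨c, hc, hx⟩ := intertwine_of_eq hF hn hh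
    obtain ⟨y, P, l, -, -, hP, hval⟩ := sim_of_intertwine hF hι hD hD h hc hx
    exact ⟨⟨P, GraphAut.mem_simM.2 ⟨l, hP⟩⟩, conjU_lift_eq hF hι hn hD _ h y hval⟩

include hι in
theorem ker_centU (hn : 3 ≤ n) (hD : Desc hF ι g e b M) :
    (centU hF hι hn hD).ker = (Cfsg.Geo.scalars (Fin n) F₀).subgroupOf (GraphAut.simM M) := by
  ext k
  rw [MonoidHom.mem_ker, Subgroup.mem_subgroupOf, GraphAut.mem_scalars]
  show conjU (liftSim hF hι hD k) = 1 ↔ _
  obtain ⟨y, hy, -⟩ := (exists_simLift hF hι hD k).choose_spec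
  have hy' : (liftSim hF hι hD k : GL (Fin n) F).val = _ := hy
  have hy0 : y ≠ 0 := fun h0 => val_ne_zero (by omega) (liftSim hF hι hD k : GL (Fin n) F) (by
    rw [hy', h0, zero_smul])
  rw [conjU_eq_one_iff hF hn]
  constructor
  · rintro ⟨c, hc⟩
    have hc' := congrArg Units.val hc
    rw [hy', GraphAut.scalar_transpose] at hc'
    have h2 : (k : GL (Fin n) F₀).val.map ι = (y⁻¹ * (c : F)) • (1 : Mn) := by
      have := congrArg (fun A : Mn => y⁻¹ • ((b⁻¹).val * A * b.val)) hc'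
      simp only [Matrix.mul_smul, Matrix.smul_mul, smul_smul, inv_mul_cancel₀ hy0, one_smul, Matrix.mul_one,
        Units.inv_mul, Matrix.mul_assoc, Units.inv_mul_cancel_left] at this
      exact this
    let i₀ : Fin n := ⟨0, by omega⟩
    have h0 : ι ((k : GL (Fin n) F₀).val i₀ i₀) = y⁻¹ * (c : F) := by
      simpa using congrFun (congrFun h2 i₀) i₀
    have hne : (k : GL (Fin n) F₀).val i₀ i₀ ≠ 0 := fun h => by
      rw [h, map_zero, eq_comm] at h0
      exact mul_ne_zero (inv_ne_zero hy0) c.ne_zero h0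
    refine ⟨Units.mk0 _ hne, Units.ext (map_inj (ι := ι) ?_)⟩
    rw [h2, GraphAut.scalar_transpose, Units.val_mk0, map_smul_ι, h0, Matrix.map_one _ (map_zero ι) (map_one ι)]
  · rintro ⟨c, hc⟩
    have hne : y * ι (c : F₀) ≠ 0 := mul_ne_zero hy0 ((map_ne_zero ι).2 c.ne_zero)
    refine ⟨Units.mk0 _ hne, Units.ext ?_⟩
    rw [hy', ← hc, GraphAut.scalar_transpose, GraphAut.scalar_transpose, map_smul_ι,
      Matrix.map_one _ (map_zero ι) (map_one ι), Matrix.mul_smul, Matrix.mul_one, Matrix.smul_mul, Units.mul_inv,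
      smul_smul, Units.val_mk0]

include hι in
theorem centralizerU_equiv (hn : 3 ≤ n) (hD : Desc hF ι g e b M) {κ : Type} [Fintype κ] [DecidableEq κ]
    {N : Matrix κ κ F₀} (h : GraphAut.MatSim M N) :
    Nonempty (↥(Cfsg.inndiagPSU n F q ⊓ Subgroup.centralizer {gautU hF g}) ≃*
      Cfsg.projQuot (GraphAut.simM N)) :=
  h.projQuot_equiv.map fun φ => ((MulEquiv.subgroupCongr (range_centU hF hι hn hD).symm).trans <|
    (QuotientGroup.quotientKerEquivRange (centU hF hι hn hD)).symm.trans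
      (QuotientGroup.quotientMulEquivOfEq (ker_centU hF hι hn hD))).trans φ

end Centralizer

/-! ### Class splitting -/

/-- The determinant on `GU` with values in the elements of norm one. -/
noncomputable def detU : Cfsg.GU n F q →* ↥((powMonoidHom (q + 1) : Fˣ →* Fˣ).ker) :=
  (Matrix.GeneralLinearGroup.det.comp (Cfsg.GU n F q).subtype).codRestrict _ (fun g => by
    rw [MonoidHom.mem_ker, powMonoidHom_apply]
    exact Units.ext (Forms.det_pow_of_mem_GU hF g.2))

theorem detU_coe (g : Cfsg.GU n F q) :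
    (((detU hF g : (powMonoidHom (q + 1) : Fˣ →* Fˣ).ker) : Fˣ) : F) = (g : GL (Fin n) F).val.det := rfl

theorem detU_surjective (hn : 1 ≤ n) : Function.Surjective (detU (n := n) hF) := by
  rintro ⟨d, hd⟩
  rw [← Forms.range_guDet hF hn] at hd
  obtain ⟨g, hg⟩ := hd
  exact ⟨g, Subtype.ext hg⟩

/-- Determinants of the elements commuting with `gautU g` modulo scalars. -/
noncomputable def detCent (g : Cfsg.GU n F q) : Subgroup ↥((powMonoidHom (q + 1) : Fˣ →* Fˣ).ker) :=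
  ((Cfsg.inndiagPSU n F q ⊓ Subgroup.centralizer {gautU hF g}).comap conjU).map (detU hF)

theorem inndiagPSU_normalizes_inn : (Cfsg.Inn (Cfsg.PSU n F q)).Normal := inferInstance

theorem split_gautU (hn : 1 ≤ n) (g : Cfsg.GU n F q) :
    Cfsg.splitClassCount (Cfsg.inndiagPSU n F q) (Cfsg.Inn (Cfsg.PSU n F q)) (gautU hF g) =
      (detCent hF g).index := by
  haveI : (Cfsg.Inn (Cfsg.PSU n F q)).Normal := inferInstance
  have hle : Cfsg.Inn (Cfsg.PSU n F q) ≤ Cfsg.inndiagPSU n F q := by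
    rintro _ ⟨x, rfl⟩
    obtain ⟨s, rfl⟩ := QuotientGroup.mk_surjective x
    rw [inndiagPSU_eq_range]
    exact ⟨suGU s, conjU_suGU s⟩
  rw [AutPSL.splitClassCount_eq _ _ hle]
  set C := Cfsg.inndiagPSU n F q ⊓ Subgroup.centralizer {gautU hF g} with hC
  conv_rhs => rw [← Subgroup.index_comap_of_surjective _ (detU_surjective hF hn)]
  rw [inndiagPSU_eq_range, ← Subgroup.index_comap]
  congr 1
  ext h
  rw [Subgroup.mem_comap, Subgroup.mem_comap, Subgroup.mem_sup_of_normal_left]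
  constructor
  · rintro ⟨i, hi, x, hx, he⟩
    obtain ⟨y, rfl⟩ := hi
    obtain ⟨s, rfl⟩ := QuotientGroup.mk_surjective y
    rw [← conjU_suGU] at he
    have hx' : (suGU s)⁻¹ * h ∈ C.comap conjU := by
      rw [Subgroup.mem_comap, map_mul, map_inv, ← he, inv_mul_cancel_left]
      exact hx
    refine ⟨_, hx', ?_⟩
    rw [map_mul, map_inv, show detU hF (suGU s) = 1 from Subtype.ext (Units.ext (det_suGU s)), inv_one, one_mul]
  · rintro ⟨x, hx, he⟩
    have hdet : ((h * x⁻¹ : Cfsg.GU n F q) : GL (Fin n) F).val.det = 1 := by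
      rw [← detU_coe hF, map_mul, map_inv, he, mul_inv_cancel]
      rfl
    refine ⟨conjU (suGU (toSU (h * x⁻¹) hdet)), ⟨QuotientGroup.mk (toSU (h * x⁻¹) hdet),
      (conjU_suGU _).symm⟩, conjU x, hx, ?_⟩
    rw [show suGU (toSU (h * x⁻¹) hdet) = h * x⁻¹ from Subtype.ext (Units.ext rfl), ← map_mul,
      inv_mul_cancel_right]

theorem range_pow_le_detCent (hn : 1 ≤ n) (g : Cfsg.GU n F q) :
    (powMonoidHom n : ↥((powMonoidHom (q + 1) : Fˣ →* Fˣ).ker) →* _).range ≤ detCent hF g := by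
  rintro _ ⟨c, rfl⟩
  have hm : scal (c : Fˣ) ∈ Cfsg.GU n F q := (scalar_mem_GU hF hn _).2 c.2
  refine ⟨⟨_, hm⟩, ?_, Subtype.ext (Units.ext ?_)⟩
  · refine Subgroup.mem_comap.2 ?_
    rw [conjU_of_scalar (⟨_, hm⟩ : Cfsg.GU n F q) (c := (c : Fˣ)) rfl]
    exact one_mem _
  · rw [detU_coe]
    simp [Matrix.GeneralLinearGroup.coe_scalar]

section Split

variable {g : Cfsg.GU n F q} {e : F} {b : GL (Fin n) F} {M : Matrix (Fin n) (Fin n) F₀}

theorem det_conj_map (b : GL (Fin n) F) (P : Matrix (Fin n) (Fin n) F₀) (y : F) (ι : F₀ →+* F) :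
    (y • (b.val * P.map ι * (b⁻¹).val)).det = y ^ n * ι P.det := by
  rw [Matrix.det_smul, Fintype.card_fin, Matrix.det_units_conj, RingHom.map_det]
  rfl

include hι in
theorem mem_detCent_iff (hn : 3 ≤ n) (hD : Desc hF ι g e b M) (d : (powMonoidHom (q + 1) : Fˣ →* Fˣ).ker) :
    d ∈ detCent hF g ↔ ∃ (k : GL (Fin n) F₀) (l : F₀ˣ) (y : Fˣ), k.valᵀ * M * k.val = (l : F₀) • M ∧
      (y : F) * qAut hF y * ι (l : F₀) = 1 ∧ ((d : Fˣ) : F) = (y : F) ^ n * ι k.val.det := by
  constructor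
  · rintro ⟨h, hh, rfl⟩
    obtain ⟨-, hcen⟩ := hh
    obtain ⟨c, hc, hx⟩ := intertwine_of_eq hF hn (AutPSL.mem_centralizer_singleton.1 hcen)
    obtain ⟨y, P, l, -, hy, hP, hval⟩ := sim_of_intertwine hF hι hD hD h hc hx
    exact ⟨P, l, y, hP, hy, by rw [detU_coe, hval, det_conj_map]⟩
  · rintro ⟨k, l, y, hk, hy, hd⟩
    obtain ⟨x, hx1, hx2⟩ := intertwine_of_sim hF hι hD hD k l hk y hy
    refine ⟨x, ⟨?_, AutPSL.mem_centralizer_singleton.2 (eq_of_intertwine hF hn hx2)⟩,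
      Subtype.ext (Units.ext ?_)⟩
    · rw [inndiagPSU_eq_range]; exact ⟨x, rfl⟩
    · rw [detU_coe, hx1, det_conj_map, hd]

include hι in
theorem detCent_sq (hn : 3 ≤ n) (hD : Desc hF ι g e b M) {d : (powMonoidHom (q + 1) : Fˣ →* Fˣ).ker}
    (hd : d ∈ detCent hF g) : ∃ c : (powMonoidHom (q + 1) : Fˣ →* Fˣ).ker, d * d = c ^ n := by
  obtain ⟨k, l, y, -, -, hdy⟩ := (mem_detCent_iff hF hι hn hD d).1 hd
  let c : Fˣ := y * (Units.map (qAut hF : F →* F) y)⁻¹
  have hc : c ∈ (powMonoidHom (q + 1) : Fˣ →* Fˣ).ker := by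
    rw [MonoidHom.mem_ker, powMonoidHom_apply]
    refine Units.ext ?_
    rw [Units.val_pow_eq_pow_val, pow_succ', ← qAut_apply hF, Units.val_one]
    simp only [c, Units.val_mul, Units.val_inv_eq_inv_val, Units.coe_map, MonoidHom.coe_coe, map_mul, map_inv₀,
      qAut_qAut]
    field_simp [(map_ne_zero (qAut hF)).2 y.ne_zero]
  refine ⟨⟨c, hc⟩, Subtype.ext (Units.ext ?_)⟩
  have hd1 : ((d : Fˣ) : F) * qAut hF ((d : Fˣ) : F) = 1 := by
    rw [qAut_apply, ← pow_succ']
    exact congrArg Units.val d.2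
  have hk0 : ι k.val.det ≠ 0 :=
    (map_ne_zero ι).2 ((Matrix.isUnit_iff_isUnit_det _).1 k.isUnit).ne_zero
  simp only [Subgroup.coe_mul, Subgroup.coe_pow, Units.val_mul, Units.val_pow_eq_pow_val, c,
    Units.val_inv_eq_inv_val, Units.coe_map, MonoidHom.coe_coe]
  rw [hdy, map_mul, map_pow, qAut_ι hF hι] at hd1
  rw [hdy, mul_pow, inv_pow]
  field_simp [(map_ne_zero (qAut hF)).2 y.ne_zero, hk0]
  linear_combination hd1

theorem u_mul_self_eq {a b : (powMonoidHom (q + 1) : Fˣ →* Fˣ).ker} (h : a * a = b * b) :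
    (a : Fˣ) = b ∨ (a : Fˣ) = -b :=
  GraphAut.units_mul_self_eq (by simpa using congrArg Subtype.val h)

include hι in
theorem detCent_odd (hn : 3 ≤ n) (hD : Desc hF ι g e b M) {r : ℕ} (hr : n = 2 * r + 1) :
    detCent hF g = (powMonoidHom n : ↥((powMonoidHom (q + 1) : Fˣ →* Fˣ).ker) →* _).range := by
  refine le_antisymm (fun d hd => ?_) (range_pow_le_detCent hF (by omega) g)
  obtain ⟨c, hc⟩ := detCent_sq hF hι hn hD hd
  let s := d * (c ^ r)⁻¹
  have hs : s * s = c := by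
    simp only [s]
    rw [mul_mul_mul_comm, hc, hr, ← mul_inv, ← pow_add, ← two_mul, pow_succ', mul_inv_cancel_right]
  have h2 : d * d = s ^ n * s ^ n := by rw [hc, ← hs, mul_pow]
  rcases u_mul_self_eq h2 with h | h
  · exact ⟨s, Subtype.ext h.symm⟩
  · have hneg : -(s : Fˣ) ∈ (powMonoidHom (q + 1) : Fˣ →* Fˣ).ker := by
      rw [MonoidHom.mem_ker, powMonoidHom_apply]
      refine Units.ext ?_
      rw [Units.val_pow_eq_pow_val, pow_succ', ← qAut_apply hF, Units.val_neg, map_neg, neg_mul_neg,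
        qAut_apply, ← pow_succ']
      exact congrArg Units.val s.2
    refine ⟨⟨_, hneg⟩, Subtype.ext ?_⟩
    show (-(s : Fˣ)) ^ n = d
    rw [h, Odd.neg_pow ⟨r, hr⟩, Subgroup.coe_pow]

include hι in
theorem detCent_char2 [CharP F 2] (hn : 3 ≤ n) (hD : Desc hF ι g e b M) :
    detCent hF g = (powMonoidHom n : ↥((powMonoidHom (q + 1) : Fˣ →* Fˣ).ker) →* _).range := by
  refine le_antisymm (fun d hd => ?_) (range_pow_le_detCent hF (by omega) g)
  obtain ⟨c, hc⟩ := detCent_sq hF hι hn hD hd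
  obtain ⟨s, hs⟩ := GraphAut.exists_unit_sqrt (c : Fˣ)
  have hsU : s ∈ (powMonoidHom (q + 1) : Fˣ →* Fˣ).ker := by
    rw [MonoidHom.mem_ker, powMonoidHom_apply]
    refine Units.ext (GraphAut.eq_one_of_mul_self ?_)
    rw [← Units.val_mul, ← mul_pow, hs]
    exact congrArg Units.val c.2
  have h2 : d * d = (⟨s, hsU⟩ : (powMonoidHom (q + 1) : Fˣ →* Fˣ).ker) ^ n *
      (⟨s, hsU⟩ : (powMonoidHom (q + 1) : Fˣ →* Fˣ).ker) ^ n := by
    rw [hc, ← mul_pow]
    congr 1
    exact Subtype.ext hs.symm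
  rcases u_mul_self_eq h2 with h | h
  · exact ⟨⟨s, hsU⟩, Subtype.ext h.symm⟩
  · refine ⟨⟨s, hsU⟩, Subtype.ext (Units.ext ?_)⟩
    rw [h, Units.val_neg, CharTwo.neg_eq]
    rfl

include hF in
theorem index_range_powU (d : ℕ) :
    (powMonoidHom d : ↥((powMonoidHom (q + 1) : Fˣ →* Fˣ).ker) →* _).range.index = Nat.gcd d (q + 1) := by
  haveI : IsCyclic ↥((powMonoidHom (q + 1) : Fˣ →* Fˣ).ker) := inferInstance
  rw [IsCyclic.index_powMonoidHom_range, Forms.card_norm_kernel hF, Nat.gcd_comm]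

omit [Fintype F] in
/-- A similitude moved along a congruence. -/
theorem exists_sim_transport {κ : Type} [Fintype κ] [DecidableEq κ] {N : Matrix κ κ F₀}
    (h : GraphAut.MatSim M N) (k : GL (Fin n) F₀) {l : F₀} (hk : k.valᵀ * M * k.val = l • M) :
    ∃ k' : GL κ F₀, k'.valᵀ * N * k'.val = l • N ∧ k'.val.det = k.val.det := by
  obtain ⟨P, Q, c, h1, h2, h3⟩ := h
  refine ⟨GraphAut.conjEquiv P Q h1 h2 k, ?_, ?_⟩
  · rw [GraphAut.conjEquiv_val]
    refine smul_right_injective _ c.ne_zero ?_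
    show (c : F₀) • _ = (c : F₀) • _
    rw [smul_comm (c : F₀) l, ← h3, ← Matrix.smul_mul, ← Matrix.mul_smul, ← h3]
    calc _ = Pᵀ * k.valᵀ * (P * Q)ᵀ * M * (P * Q) * k.val * P := by
          simp only [Matrix.transpose_mul, Matrix.mul_assoc]
      _ = Pᵀ * (k.valᵀ * M * k.val) * P := by rw [h1]; simp [Matrix.mul_assoc]
      _ = _ := by rw [hk, Matrix.mul_smul, Matrix.smul_mul]
  · rw [GraphAut.conjEquiv_val]
    exact Matrix.det_conj_of_mul_eq_one h2 h1

omit [Fintype F] in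
theorem exists_sim_transport' {κ : Type} [Fintype κ] [DecidableEq κ] {N : Matrix κ κ F₀}
    (h : GraphAut.MatSim M N) (k : GL κ F₀) {l : F₀} (hk : k.valᵀ * N * k.val = l • N) :
    ∃ k' : GL (Fin n) F₀, k'.valᵀ * M * k'.val = l • M ∧ k'.val.det = k.val.det := by
  obtain ⟨P, Q, c, h1, h2, h3⟩ := h.symm
  refine ⟨GraphAut.conjEquiv P Q h1 h2 k, ?_, ?_⟩
  · rw [GraphAut.conjEquiv_val]
    refine smul_right_injective _ c.ne_zero ?_
    show (c : F₀) • _ = (c : F₀) • _
    rw [smul_comm (c : F₀) l, ← h3, ← Matrix.smul_mul, ← Matrix.mul_smul, ← h3]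
    calc _ = Pᵀ * k.valᵀ * (P * Q)ᵀ * N * (P * Q) * k.val * P := by
          simp only [Matrix.transpose_mul, Matrix.mul_assoc]
      _ = Pᵀ * (k.valᵀ * N * k.val) * P := by rw [h1]; simp [Matrix.mul_assoc]
      _ = _ := by rw [hk, Matrix.mul_smul, Matrix.smul_mul]
  · rw [GraphAut.conjEquiv_val]
    exact Matrix.det_conj_of_mul_eq_one h2 h1

omit [Fintype F] in
theorem det_sim_J {k : ℕ} (p : GL (Fin k ⊕ Fin k) F₀) {l : F₀ˣ}
    (hp : p.valᵀ * Matrix.J (Fin k) F₀ * p.val = (l : F₀) • Matrix.J (Fin k) F₀) :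
    p.val.det = (l : F₀) ^ k := by
  let h : GL (Fin k ⊕ Fin k) F₀ := (GraphAut.symSim k l)⁻¹ * p
  have hh : h.valᵀ * Matrix.J (Fin k) F₀ * h.val = Matrix.J (Fin k) F₀ := by
    refine smul_right_injective _ l.ne_zero ?_
    show (l : F₀) • _ = (l : F₀) • _
    rw [← hp, ← Matrix.smul_mul, ← Matrix.mul_smul, ← GraphAut.symSim_spec k l]
    calc _ = ((GraphAut.symSim k l).val * h.val)ᵀ * Matrix.J (Fin k) F₀ *
          ((GraphAut.symSim k l).val * h.val) := by
          rw [Matrix.transpose_mul]; simp only [Matrix.mul_assoc]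
      _ = _ := by rw [← Units.val_mul, mul_inv_cancel_left]
  have hd : p = GraphAut.symSim k l * h := (mul_inv_cancel_left _ _).symm
  rw [hd, Units.val_mul, Matrix.det_mul, SymplecticGroup.det_eq_one (SymplecticGroup.mem_iff'.2 hh), mul_one]
  have := congrArg Units.val (GraphAut.symSim_det k l)
  rwa [Units.val_pow_eq_pow_val] at this

include hι in
theorem exists_div_norm (c : (powMonoidHom (q + 1) : Fˣ →* Fˣ).ker) :
    ∃ (y : Fˣ) (l : F₀ˣ), (y : F) * qAut hF y * ι (l : F₀) = 1 ∧ ((c : Fˣ) : F) * qAut hF y = y := by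
  obtain ⟨y, hy⟩ := FieldExt.exists_div_eq (qAut hF) two_pos (orderOf_qAut hF) (c : Fˣ) (by
    rw [show (2 : ℕ) = 0 + 1 + 1 from rfl, Finset.prod_range_succ, Finset.prod_range_succ,
      Finset.prod_range_zero, one_mul]
    refine Units.ext ?_
    simp only [Units.val_mul, Units.coe_map, MonoidHom.coe_coe, pow_zero, zero_add, pow_one, RingAut.one_apply,
      qAut_apply, Units.val_one]
    rw [← pow_succ']
    exact congrArg Units.val c.2)
  obtain ⟨l₀, hl₀⟩ : ∃ l₀ : F₀, ι l₀ = ((y : F) * qAut hF y)⁻¹ :=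
    (hι _).1 (by rw [map_inv₀, map_mul, qAut_qAut, mul_comm])
  have hne : (y : F) * qAut hF y ≠ 0 := mul_ne_zero y.ne_zero ((map_ne_zero _).2 y.ne_zero)
  have hl0 : l₀ ≠ 0 := fun h0 => by rw [h0, map_zero, eq_comm, inv_eq_zero] at hl₀; exact hne hl₀
  exact ⟨y, Units.mk0 l₀ hl0, by rw [Units.val_mk0, hl₀, mul_inv_cancel₀ hne], congrArg Units.val hy⟩

include hι in
theorem detCent_alt (hn : 3 ≤ n) (hD : Desc hF ι g e b M) {k : ℕ} (hk : n = 2 * k)
    (hJ : GraphAut.MatSim M (Matrix.J (Fin k) F₀)) :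
    detCent hF g = (powMonoidHom k : ↥((powMonoidHom (q + 1) : Fˣ →* Fˣ).ker) →* _).range := by
  refine le_antisymm (fun d hd => ?_) ?_
  · obtain ⟨p, l, y, hp, hy, hdy⟩ := (mem_detCent_iff hF hι hn hD d).1 hd
    obtain ⟨p', hp', hdet⟩ := exists_sim_transport hJ p hp
    rw [← hdet, det_sim_J p' hp', map_pow, hk, pow_mul, ← mul_pow] at hdy
    let c : Fˣ := y * (Units.map (qAut hF : F →* F) y)⁻¹
    have hcval : (c : F) = (y : F) ^ 2 * ι (l : F₀) := by
      simp only [c, Units.val_mul, Units.val_inv_eq_inv_val, Units.coe_map, MonoidHom.coe_coe]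
      rw [← div_eq_mul_inv, div_eq_iff ((map_ne_zero _).2 y.ne_zero)]
      linear_combination -(y : F) * hy
    have hc : c ∈ (powMonoidHom (q + 1) : Fˣ →* Fˣ).ker := by
      rw [MonoidHom.mem_ker, powMonoidHom_apply]
      refine Units.ext ?_
      rw [Units.val_pow_eq_pow_val, pow_succ', ← qAut_apply hF, Units.val_one]
      simp only [c, Units.val_mul, Units.val_inv_eq_inv_val, Units.coe_map, MonoidHom.coe_coe, map_mul, map_inv₀,
        qAut_qAut]
      field_simp [(map_ne_zero (qAut hF)).2 y.ne_zero]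
    exact ⟨⟨c, hc⟩, Subtype.ext (Units.ext (by
      rw [powMonoidHom_apply, Subgroup.coe_pow, Units.val_pow_eq_pow_val, hcval, hdy]))⟩
  · rintro _ ⟨c, rfl⟩
    obtain ⟨y, l, hy, hcy⟩ := exists_div_norm hF hι c
    obtain ⟨p, hp, hdet⟩ := exists_sim_transport' hJ (GraphAut.symSim k l) (GraphAut.symSim_spec k l)
    refine (mem_detCent_iff hF hι hn hD _).2 ⟨p, l, y, hp, hy, ?_⟩
    rw [powMonoidHom_apply, Subgroup.coe_pow, Units.val_pow_eq_pow_val, hdet, det_sim_J _ (GraphAut.symSim_spec k l),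
      map_pow, hk, pow_mul, ← mul_pow]
    congr 1
    linear_combination (y : F) * ι (l : F₀) * hcy - ((c : Fˣ) : F) * hy

include hι in
theorem index_detCent_sym [Fintype F₀] {m : ℕ} {g : Cfsg.GU (m + 1) F q} {e : F} {b : GL (Fin (m + 1)) F}
    {M : Matrix (Fin (m + 1)) (Fin (m + 1)) F₀} (hn : 3 ≤ m + 1) (hD : Desc hF ι g e b M) (hodd : Odd q)
    (h2 : (2 : F₀) ≠ 0) {k : ℕ} (hk : m + 1 = 2 * k) (hs : Mᵀ = M) :
    2 * (detCent hF g).index = Nat.gcd (m + 1) (q + 1) := by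
  let Mu : GL (Fin (m + 1)) F₀ := Matrix.GeneralLinearGroup.mkOfDetNeZero M (hD.det_ne_zero hF)
  set U := ↥((powMonoidHom (q + 1) : Fˣ →* Fˣ).ker)
  set N := (powMonoidHom (m + 1) : U →* U).range with hN
  set T := (powMonoidHom 2 : U →* U).range with hT
  have hEq : detCent hF g = N.comap (powMonoidHom 2) := by
    ext d
    rw [Subgroup.mem_comap, powMonoidHom_apply, sq]
    constructor
    · intro hd
      obtain ⟨c, hc⟩ := detCent_sq hF hι hn hD hd
      exact ⟨c, hc.symm⟩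
    · rintro ⟨c, hc⟩
      have hc' : c ^ (m + 1) = d * d := hc
      obtain ⟨y, l, hy, hcy⟩ := exists_div_norm hF hι c
      obtain ⟨P, hP⟩ := GraphAut.exists_sim_of_sym h2 hk Mu hs l
      obtain ⟨r, hr, hrd⟩ := GraphAut.exists_reflection h2 Mu hs
      obtain ⟨x, hx1, hx2⟩ := intertwine_of_sim hF hι hD hD P l hP y hy
      have hd' : detU hF x ∈ detCent hF g :=
        ⟨x, ⟨by rw [inndiagPSU_eq_range]; exact ⟨x, rfl⟩,
          AutPSL.mem_centralizer_singleton.2 (eq_of_intertwine hF hn hx2)⟩, rfl⟩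
      have hsq : detU hF x * detU hF x = c ^ (m + 1) := by
        refine Subtype.ext (Units.ext ?_)
        rw [Subgroup.coe_mul, Units.val_mul, Subgroup.coe_pow, Units.val_pow_eq_pow_val, detU_coe, hx1,
          det_conj_map]
        have hds := congrArg (fun u : F₀ˣ => ι (u : F₀)) (GraphAut.det_sim_sq (g := Mu) hP)
        simp only [Units.val_mul, Units.val_pow_eq_pow_val, Matrix.GeneralLinearGroup.val_det_apply, map_mul,
          map_pow] at hds
        have hcl : ((c : Fˣ) : F) = (y : F) * y * ι (l : F₀) := by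
          linear_combination (y : F) * ι (l : F₀) * hcy - ((c : Fˣ) : F) * hy
        rw [mul_mul_mul_comm, hds, ← mul_pow, ← mul_pow, hcl]
      rcases u_mul_self_eq (hc'.symm.trans hsq.symm) with h | h
      · exact (Subtype.ext h : d = detU hF x) ▸ hd'
      · obtain ⟨x₁, hy1, hy2⟩ := intertwine_of_sim hF hι hD hD r 1
          (show r.valᵀ * M * r.val = ((1 : F₀ˣ) : F₀) • M by rw [Units.val_one, one_smul]; exact hr) 1 (by simp)
        have hmem : detU hF x₁ * detU hF x ∈ detCent hF g :=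
          mul_mem ⟨x₁, ⟨by rw [inndiagPSU_eq_range]; exact ⟨x₁, rfl⟩,
            AutPSL.mem_centralizer_singleton.2 (eq_of_intertwine hF hn hy2)⟩, rfl⟩ hd'
        have hdd : d = detU hF x₁ * detU hF x := by
          refine Subtype.ext (Units.ext ?_)
          rw [h, Subgroup.coe_mul, Units.val_mul, Units.val_neg, detU_coe hF x₁, hy1, det_conj_map, Units.val_one,
            one_pow, one_mul]
          have : r.val.det = -1 := by
            have := congrArg Units.val hrd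
            rwa [Matrix.GeneralLinearGroup.val_det_apply, Units.val_neg, Units.val_one] at this
          rw [this, map_neg, map_one, neg_one_mul]
        exact hdd ▸ hmem
  have hle : N ≤ T := by
    rintro _ ⟨c, rfl⟩
    exact ⟨c ^ k, by rw [powMonoidHom_apply, powMonoidHom_apply, ← pow_mul, hk, mul_comm k 2]⟩
  have hT2 : T.index = 2 := by
    rw [hT, index_range_powU hF]
    obtain ⟨a, rfl⟩ := hodd
    exact Nat.gcd_eq_left ⟨a + 1, by ring⟩
  have h1 := Subgroup.relIndex_mul_index hle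
  rw [hT2, hN, index_range_powU hF] at h1
  rw [hEq, Subgroup.index_comap, ← h1, mul_comm]

end Split

/-- A field with `q` elements as the fixed field. -/
theorem exists_iota {F₁ : Type*} [Field F₁] [Fintype F₁] (h : Fintype.card F₁ = q) :
    ∃ ι : F₁ →+* F, ∀ a : F, qAut hF a = a ↔ a ∈ Set.range ι := by
  refine FieldExt.exists_ringHom_range (qAut hF) (h.trans ?_)
  have := FieldExt.card_fixedField_pow (qAut hF)
  rw [orderOf_qAut, hF] at this
  exact (Nat.pow_left_injective two_ne_zero this).symm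

end Cfsg.Agent.AutPSU
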