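import Cfsg.Agent.Lib.AutPSU.Main
import Cfsg.Agent.Lib.AutPSU.GraphClasses

/-!
The group structure of `Aut PSU_n(q)`: normality of the inner-diagonal part, powers in a coset, class
splitting through the determinant, transport along conjugation.
-/

set_option autoImplicit false

open Matrix
open scoped MatrixGroups

namespace Cfsg.Agent.AutPSU

variable {n : ℕ} {F : Type*} [Field F] {q : ℕ}

theorem guMap_one (g : Cfsg.GU n F q) : guMap (1 : F ≃+* F) g = g :=
  Subtype.ext (FieldExt.glMap_one (g : GL (Fin n) F))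

theorem guMap_comp (σ τ : F ≃+* F) (g : Cfsg.GU n F q) :
    guMap (σ * τ) g = guMap σ (guMap τ g) :=
  Subtype.ext (FieldExt.glMap_mul σ τ (g : GL (Fin n) F))

/-- The twisted norm inside `GU`. -/
def tnU (σ : F ≃+* F) (g : Cfsg.GU n F q) : ℕ → Cfsg.GU n F q
  | 0 => 1
  | k + 1 => g * guMap σ (tnU σ g k)

theorem tnU_coe (σ : F ≃+* F) (g : Cfsg.GU n F q) (k : ℕ) :
    ((tnU σ g k : Cfsg.GU n F q) : GL (Fin n) F) = FieldExt.twistNorm σ (g : GL (Fin n) F) k := by
  induction k with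
  | zero => rfl
  | succ k ih => rw [tnU, Subgroup.coe_mul, guMap_coe, ih, FieldExt.twistNorm_succ]

theorem conjU_mul_fieldU_pow (σ : F ≃+* F) (g : Cfsg.GU n F q) (k : ℕ) :
    (conjU g * fieldU σ : MulAut (Cfsg.PSU n F q)) ^ k = conjU (tnU σ g k) * fieldU (σ ^ k) := by
  induction k with
  | zero => rw [pow_zero, pow_zero, tnU, map_one, map_one, one_mul]
  | succ k ih =>
    rw [pow_succ', ih, mul_assoc, ← mul_assoc (fieldU σ), fieldU_mul_conjU, mul_assoc, ← map_mul,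
      ← mul_assoc, ← map_mul, ← pow_succ', tnU]

theorem inn_le_inndiag : Cfsg.Inn (Cfsg.PSU n F q) ≤ Cfsg.inndiagPSU n F q := by
  rintro _ ⟨x, rfl⟩
  obtain ⟨s, rfl⟩ := QuotientGroup.mk_surjective x
  rw [inndiagPSU_eq_range]
  exact ⟨suGU s, conjU_suGU s⟩

section Finite

variable [Fintype F] (hF : Fintype.card F = q ^ 2) (hn : 3 ≤ n)
include hF hn

theorem fieldU_injective : Function.Injective (fieldU (n := n) (F := F) (q := q)) := by
  rw [injective_iff_map_eq_one]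
  intro σ hσ
  exact (eq_one_of_fix hF hn 1 σ (by rw [map_one, one_mul, hσ])).1

theorem orderOf_fieldU (σ : F ≃+* F) : orderOf (fieldU (n := n) (q := q) σ) = orderOf σ :=
  orderOf_injective _ (fieldU_injective hF hn) σ

theorem inndiag_normal (hs : ¬ (n = 3 ∧ q = 2)) : (Cfsg.inndiagPSU n F q).Normal := by
  rw [inndiagPSU_eq_range]
  refine ⟨?_⟩
  rintro _ ⟨g, rfl⟩ a
  obtain ⟨h, τ, rfl⟩ := exists_decomposition hF hn hs a
  refine ⟨h * guMap τ g * h⁻¹, ?_⟩
  rw [map_mul, map_mul, map_inv, _root_.mul_inv_rev, mul_assoc (conjU h) (fieldU τ),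
    fieldU_mul_conjU]
  group

/-- The split count through the determinants of the elements commuting with `x`. -/
theorem split_eq_index (x : MulAut (Cfsg.PSU n F q)) :
    Cfsg.splitClassCount (Cfsg.inndiagPSU n F q) (Cfsg.Inn (Cfsg.PSU n F q)) x =
      (((Cfsg.inndiagPSU n F q ⊓ Subgroup.centralizer {x}).comap conjU).map (detU hF)).index := by
  rw [AutPSL.splitClassCount_eq _ _ inn_le_inndiag]
  set C := Cfsg.inndiagPSU n F q ⊓ Subgroup.centralizer {x} with hC
  conv_rhs => rw [← Subgroup.index_comap_of_surjective _ (detU_surjective hF (by omega : 1 ≤ n))]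
  rw [inndiagPSU_eq_range, ← Subgroup.index_comap]
  congr 1
  ext h
  rw [Subgroup.mem_comap, Subgroup.mem_comap, Subgroup.mem_sup_of_normal_left]
  constructor
  · rintro ⟨i, hi, y, hy, he⟩
    obtain ⟨z, rfl⟩ := hi
    obtain ⟨s, rfl⟩ := QuotientGroup.mk_surjective z
    rw [← conjU_suGU] at he
    have hy' : (suGU s)⁻¹ * h ∈ C.comap conjU := by
      rw [Subgroup.mem_comap, map_mul, map_inv, ← he, inv_mul_cancel_left]
      exact hy
    refine ⟨_, hy', ?_⟩
    rw [map_mul, map_inv, show detU hF (suGU s) = 1 from Subtype.ext (Units.ext (det_suGU s)), inv_one,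
      one_mul]
  · rintro ⟨y, hy, he⟩
    have hdet : ((h * y⁻¹ : Cfsg.GU n F q) : GL (Fin n) F).val.det = 1 := by
      rw [← detU_coe hF, map_mul, map_inv, he, mul_inv_cancel]
      rfl
    refine ⟨conjU (suGU (toSU (h * y⁻¹) hdet)), ⟨QuotientGroup.mk (toSU (h * y⁻¹) hdet),
      (conjU_suGU _).symm⟩, conjU y, hy, ?_⟩
    rw [show suGU (toSU (h * y⁻¹) hdet) = h * y⁻¹ from Subtype.ext (Units.ext rfl), ← map_mul,
      inv_mul_cancel_right]

omit [Fintype F] hF hn in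
/-- An element conjugate to a standard field automorphism. -/
theorem exists_std_of_fieldClass {x : MulAut (Cfsg.PSU n F q)} (hx : Cfsg.IsFieldAutClassPSU x) :
    ∃ (α : MulAut (Cfsg.PSU n F q)) (σ : F ≃+* F), σ ≠ 1 ∧ Odd (orderOf σ) ∧
      x = α * fieldU σ * α⁻¹ := by
  obtain ⟨α, φ, σ, hσ, ho, hφ, he⟩ := hx
  refine ⟨α⁻¹, σ, hσ, ho, ?_⟩
  rw [← eq_fieldU hφ, ← he]
  group

omit [Fintype F] hF hn in
theorem orderOf_conj_mul (a y : MulAut (Cfsg.PSU n F q)) : orderOf (a * y * a⁻¹) = orderOf y :=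
  (MulAut.conj a).orderOf_eq y

/-- Conjugacy of elements of the right order is preserved under transport. -/
theorem orderOf_iff_conj_transport (hs : ¬ (n = 3 ∧ q = 2)) (α x₀ : MulAut (Cfsg.PSU n F q)) {r : ℕ}
    (hr : orderOf x₀ = r)
    (h0 : ∀ g : Cfsg.GU n F q, (conjU g * x₀ : MulAut (Cfsg.PSU n F q)) ^ r = 1 →
      ∃ k : Cfsg.GU n F q, (conjU g * x₀ : MulAut (Cfsg.PSU n F q)) = conjU k * x₀ * (conjU k)⁻¹)
    (δ : MulAut (Cfsg.PSU n F q)) (hδ : δ ∈ Cfsg.inndiagPSU n F q) :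
    orderOf (δ * (α * x₀ * α⁻¹)) = r ↔
      Cfsg.IsConjUnder (Cfsg.inndiagPSU n F q) (α * x₀ * α⁻¹) (δ * (α * x₀ * α⁻¹)) := by
  haveI := inndiag_normal hF hn hs
  constructor
  · intro ho
    have hδ' : α⁻¹ * δ * α ∈ Cfsg.inndiagPSU n F q := by
      simpa using Subgroup.Normal.conj_mem inferInstance δ hδ α⁻¹
    rw [inndiagPSU_eq_range] at hδ'
    obtain ⟨g, hg⟩ := hδ'
    have e : δ * (α * x₀ * α⁻¹) = α * (conjU g * x₀) * α⁻¹ := by rw [hg]; group
    have hpow : (conjU g * x₀ : MulAut (Cfsg.PSU n F q)) ^ r = 1 := by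
      rw [← ho, e, orderOf_conj_mul, pow_orderOf_eq_one]
    obtain ⟨k, hk⟩ := h0 g hpow
    refine ⟨α * conjU k * α⁻¹, Subgroup.Normal.conj_mem inferInstance _ ?_ α, ?_⟩
    · rw [inndiagPSU_eq_range]; exact ⟨k, rfl⟩
    · rw [e, hk]; group
  · rintro ⟨h, -, e⟩
    rw [e, orderOf_conj_mul, orderOf_conj_mul, hr]

end Finite

end Cfsg.Agent.AutPSU
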