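import Cfsg.Agent.Lib.ClassicalSimple.UnitarySimple

/-!
A hyperbolic pair `e, f` of a unitary space over a finite field: the root group of `e`, the Levi
subgroup fixing both lines, and the rigidity facts about its action on the orthogonal of the pair
used for the automorphisms of `PSU_n`.
-/

set_option autoImplicit false
set_option linter.unusedSectionVars false

namespace Cfsg.Agent.AutPSU

open Cfsg.Agent.ClassicalSimple

variable {F V : Type*} [Field F] [AddCommGroup V] [Module F V]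
variable {σ : F →+* F} {h : V →ₛₗ[σ] V →ₗ[F] F}

/-- A hyperbolic pair. -/
structure Pair (h : V →ₛₗ[σ] V →ₗ[F] F) (e f : V) : Prop where
  ee : h e e = 0
  ff : h f f = 0
  ef : h e f = 1

/-- Orthogonality to both vectors of a pair. -/
def Perp (h : V →ₛₗ[σ] V →ₗ[F] F) (e f w : V) : Prop := h e w = 0 ∧ h f w = 0

/-- The component in the orthogonal of the pair. -/
def proj (h : V →ₛₗ[σ] V →ₗ[F] F) (e f : V) : V →ₗ[F] V :=
  LinearMap.id - (h f).smulRight e - (h e).smulRight f

theorem proj_apply (e f x : V) : proj h e f x = x - h f x • e - h e x • f := rfl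

theorem Perp.zero (e f : V) : Perp h e f 0 := ⟨map_zero _, map_zero _⟩

theorem Perp.add {e f w w' : V} (a : Perp h e f w) (b : Perp h e f w') : Perp h e f (w + w') :=
  ⟨by rw [map_add, a.1, b.1, add_zero], by rw [map_add, a.2, b.2, add_zero]⟩

theorem Perp.neg {e f w : V} (a : Perp h e f w) : Perp h e f (-w) :=
  ⟨by rw [map_neg, a.1, neg_zero], by rw [map_neg, a.2, neg_zero]⟩

theorem Perp.sub {e f w w' : V} (a : Perp h e f w) (b : Perp h e f w') : Perp h e f (w - w') := by
  rw [sub_eq_add_neg]; exact a.add b.neg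

theorem Perp.smul {e f w : V} (c : F) (a : Perp h e f w) : Perp h e f (c • w) :=
  ⟨by rw [map_smul, a.1, smul_zero], by rw [map_smul, a.2, smul_zero]⟩

/-- The elements fixing both lines of a pair, with their factor on the first. -/
def IsLevi (e f : V) (g : SUH h) (l : F) : Prop := g • e = l • e ∧ g • f = (σ l)⁻¹ • f

theorem suh_smul_smul (g : SUH h) (x y : V) : h (g • x) (g • y) = h x y :=
  uh_smul_smul (g : UH h) x y

theorem SUH.ext' {g k : SUH h} (e : ∀ x : V, g • x = k • x) : g = k :=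
  Subtype.ext (UH.ext' e)

variable (hh : IsUnitaryForm σ h) [FiniteDimensional F V]
include hh

namespace Pair

variable {e f : V} (hp : Pair h e f)
include hp

theorem fe : h f e = 1 := by rw [hh.swap, hp.ef, map_one]

omit [FiniteDimensional F V] hh in
theorem e_ne : e ≠ 0 := by
  rintro rfl
  simpa using hp.ef

omit [FiniteDimensional F V] hh in
theorem f_ne : f ≠ 0 := by
  rintro rfl
  simpa using hp.ef

theorem perp_proj (x : V) : Perp h e f (proj h e f x) := by
  constructor <;> simp [proj_apply, hp.ee, hp.ef, hp.ff, fe hh hp]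

omit [FiniteDimensional F V] hh hp in
theorem proj_of_perp {w : V} (hw : Perp h e f w) : proj h e f w = w := by
  simp [proj_apply, hw.1, hw.2]

omit [FiniteDimensional F V] hh hp in
theorem decomp (x : V) : x = h f x • e + h e x • f + proj h e f x := by
  rw [proj_apply]; module

/-- Elements agreeing on the pair and its orthogonal are equal. -/
theorem ext {g k : SUH h} (he : g • e = k • e) (hf : g • f = k • f)
    (hw : ∀ w, Perp h e f w → g • w = k • w) : g = k := by
  refine SUH.ext' fun x => ?_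
  rw [decomp (h := h) (e := e) (f := f) x]
  simp only [smul_add, smul_comm g, smul_comm k, he, hf, hw _ (hp.perp_proj hh x)]

/-- A stabiliser of the line of `e`: the factor is `(σ μ)⁻¹` on a vector pairing to one. -/
theorem ne_zero_of_smul {g : SUH h} {l : F} (hl : g • e = l • e) : l ≠ 0 := by
  rintro rfl
  rw [zero_smul] at hl
  exact hp.e_ne ((smul_eq_zero_iff_eq g).1 hl)

theorem isLevi_iff {g : SUH h} :
    (∃ l : F, IsLevi e f g l) ↔ (∃ l : F, g • e = l • e) ∧ ∃ m : F, g • f = m • f := by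
  constructor
  · rintro ⟨l, h1, h2⟩; exact ⟨⟨l, h1⟩, ⟨_, h2⟩⟩
  · rintro ⟨⟨l, h1⟩, ⟨m, h2⟩⟩
    refine ⟨l, h1, ?_⟩
    have := suh_smul_smul g e f
    rw [h1, h2, hp.ef] at this
    simp [hp.ef] at this
    rw [h2, eq_inv_of_mul_eq_one_left this]

omit [FiniteDimensional F V] hh hp in
theorem _root_.Cfsg.Agent.AutPSU.IsLevi.perp {g : SUH h} {l : F} (hg : IsLevi e f g l)
    (hl : l ≠ 0) {w : V} (hw : Perp h e f w) : Perp h e f (g • w) := by
  have a := suh_smul_smul g e w
  have b := suh_smul_smul g f w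
  rw [hg.1, hw.1] at a
  rw [hg.2, hw.2] at b
  exact ⟨by simpa [hl] using a, by simpa [hl] using b⟩

/-! ### The root group of `e` -/

/-- The root element with components `w` and `a`. -/
noncomputable def rq (w : V) (a : F) (hw : Perp h e f w) (ha : a + σ a + h w w = 0) : SUH h :=
  ⟨uRootElt hh e w a hp.ee hw.1 ha, uRootElt_det hh hp.ee hw.1 ha⟩

theorem rq_smul {w : V} {a : F} (hw : Perp h e f w) (ha : a + σ a + h w w = 0) (x : V) :
    hp.rq hh w a hw ha • x = x + h e x • w + (a * h e x - h w x) • e :=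
  uRootElt_smul hh hp.ee hw.1 ha x

theorem rq_e {w : V} {a : F} (hw : Perp h e f w) (ha : a + σ a + h w w = 0) :
    hp.rq hh w a hw ha • e = e := by
  simp [rq_smul, hp.ee, hh.comm_zero hw.1]

theorem rq_f {w : V} {a : F} (hw : Perp h e f w) (ha : a + σ a + h w w = 0) :
    hp.rq hh w a hw ha • f = f + w + a • e := by
  simp [rq_smul, hp.ef, hh.comm_zero hw.2]

theorem rq_perp {w : V} {a : F} (hw : Perp h e f w) (ha : a + σ a + h w w = 0) {x : V}
    (hx : Perp h e f x) : hp.rq hh w a hw ha • x = x - h w x • e := by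
  simp [rq_smul, hx.1, sub_eq_add_neg]

theorem rq_inj {w w' : V} {a a' : F} {hw : Perp h e f w} {ha : a + σ a + h w w = 0}
    {hw' : Perp h e f w'} {ha' : a' + σ a' + h w' w' = 0}
    (he : hp.rq hh w a hw ha = hp.rq hh w' a' hw' ha') : w = w' ∧ a = a' := by
  have h1 := congrArg (fun g : SUH h => g • f) he
  simp only [rq_f, add_assoc, add_right_inj] at h1
  have h2 := congrArg (h f) h1
  simp [hw.2, hw'.2, fe hh hp] at h2
  exact ⟨by simpa [h2] using h1, h2⟩

theorem rq_congr {w w' : V} {a a' : F} {hw : Perp h e f w} {ha : a + σ a + h w w = 0}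
    {hw' : Perp h e f w'} {ha' : a' + σ a' + h w' w' = 0} (e₁ : w = w') (e₂ : a = a') :
    hp.rq hh w a hw ha = hp.rq hh w' a' hw' ha' := by
  subst e₁ e₂; rfl

theorem rq_mul_eq {w w' : V} {a a' : F} (hw : Perp h e f w) (ha : a + σ a + h w w = 0)
    (hw' : Perp h e f w') (ha' : a' + σ a' + h w' w' = 0) :
    ∃ hc, hp.rq hh w a hw ha * hp.rq hh w' a' hw' ha' =
      hp.rq hh (w + w') (a + a' - h w w') (hw.add hw') hc :=
  ⟨by simp [← hh.swap]; linear_combination ha + ha',
    Subtype.ext (uRootElt_mul hh hp.ee hw.1 ha hw'.1 ha')⟩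

theorem skew_iff {c : F} : c + σ c + h (0 : V) 0 = 0 ↔ c + σ c = 0 := by simp

/-- Components of a commuting pair. -/
theorem rq_commute_iff {w w' : V} {a a' : F} (hw : Perp h e f w) (ha : a + σ a + h w w = 0)
    (hw' : Perp h e f w') (ha' : a' + σ a' + h w' w' = 0) :
    Commute (hp.rq hh w a hw ha) (hp.rq hh w' a' hw' ha') ↔ σ (h w w') = h w w' := by
  obtain ⟨c1, e1⟩ := rq_mul_eq hh hp hw ha hw' ha'
  obtain ⟨c2, e2⟩ := rq_mul_eq hh hp hw' ha' hw ha
  rw [commute_iff_eq, e1, e2, ← hh.swap]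
  constructor
  · intro he
    linear_combination (rq_inj hh hp he).2
  · intro he
    exact rq_congr hh hp (add_comm _ _) (by linear_combination he)

/-- Membership in the root group of `e`. -/
theorem exists_rq {g : SUH h} (he : g • e = e)
    (hw : ∀ x, h e x = 0 → ∃ c : F, g • x = x + c • e) :
    ∃ (w : V) (a : F) (hw' : Perp h e f w) (ha : a + σ a + h w w = 0),
      g = hp.rq hh w a hw' ha := by
  obtain ⟨y, hy⟩ : ∃ y, y = g • f := ⟨_, rfl⟩
  have hey : h e y = 1 := by rw [hy, ← he, suh_smul_smul, hp.ef]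
  have hyy : h y y = 0 := by rw [hy, suh_smul_smul, hp.ff]
  have hyd : y = h f y • e + f + proj h e f y := by
    conv_lhs => rw [decomp (h := h) (e := e) (f := f) y]
    rw [hey, one_smul]
  have hW := hp.perp_proj hh y
  set w := proj h e f y
  have ha : h f y + σ (h f y) + h w w = 0 := by
    have := hyy
    rw [hyd] at this
    simp [hp.ee, hp.ff, hp.ef, fe hh hp, hW.1, hW.2, hh.comm_zero hW.1, hh.comm_zero hW.2] at this
    linear_combination this
  refine ⟨w, h f y, hW, ha, ext hh hp (by rw [he, rq_e]) ?_ fun x hx => ?_⟩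
  · rw [rq_f, ← hy]
    conv_lhs => rw [hyd]
    abel
  · obtain ⟨c, hc⟩ := hw x hx.1
    rw [rq_perp hh hp hW ha hx, hc]
    have h1 : h y (g • x) = 0 := by rw [hy, suh_smul_smul, hx.2]
    rw [hc, map_add, map_smul, smul_eq_mul, hh.swap e y, hey, map_one, mul_one] at h1
    have h2 : h y x = h w x := by
      conv_lhs => rw [hyd]
      simp [hx.1, hx.2]
    rw [h2] at h1
    rw [eq_neg_of_add_eq_zero_right h1]
    module

/-- Conjugation by a Levi element. -/
theorem conj_rq {g : SUH h} {l : F} (hg : IsLevi e f g l) (hl : l ≠ 0) {w : V} {a : F}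
    (hw : Perp h e f w) (ha : a + σ a + h w w = 0) :
    ∃ ha', g * hp.rq hh w a hw ha * g⁻¹ =
      hp.rq hh (σ l • g • w) (σ l * l * a) ((hg.perp hl hw).smul _) ha' := by
  have hee : h (l • e) (l • e) = 0 := by simp [hp.ee]
  have hlw : h (l • e) (g • w) = 0 := by rw [← hg.1, suh_smul_smul, hw.1]
  have haw : a + σ a + h (g • w) (g • w) = 0 := by rwa [suh_smul_smul]
  have ha' : σ l * l * a + σ (σ l * l * a) + h (σ l • g • w) (σ l • g • w) = 0 := by
    simp only [map_smulₛₗ, LinearMap.smul_apply, smul_eq_mul, RingHom.id_apply, map_mul, hh.invol,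
      suh_smul_smul]
    linear_combination σ l * l * ha
  refine ⟨ha', Subtype.ext ?_⟩
  have key := uRootElt_conj hh (g : UH h) hp.ee hw.1 ha
  refine key.trans ?_
  have hge : (g : UH h) • e = l • e := hg.1
  exact (uRootElt_congr hh _ _ _ hee hlw haw hge rfl rfl).trans
    (uRootElt_scale hh hee hlw haw hp.ee ((hg.perp hl hw).smul _).1 ha')

/-! ### Torus elements -/

/-- The torus element of a pair in the isometry group. -/
noncomputable def tor (l : F) (hl : l ≠ 0) : UH h :=
  uMk hh ((LinearMap.transvection ((l - 1) • h f) e).comp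
      (LinearMap.transvection (((σ l)⁻¹ - 1) • h e) f)) fun x y => by
    have hσl : σ l ≠ 0 := (map_ne_zero σ).2 hl
    simp only [LinearMap.comp_apply, LinearMap.transvection.apply, LinearMap.smul_apply, map_add,
      LinearMap.add_apply, map_smulₛₗ, smul_eq_mul, RingHom.id_apply, hp.ee, hp.ff, hp.ef,
      fe hh hp, map_mul, map_sub, map_one, map_inv₀, hh.invol, hh.swap e x, hh.swap f x,
      map_zero, mul_zero, zero_mul, add_zero]
    field_simp
    ring

theorem tor_smul {l : F} (hl : l ≠ 0) (x : V) :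
    hp.tor hh l hl • x = x + ((l - 1) * h f x) • e + (((σ l)⁻¹ - 1) * h e x) • f := by
  simp [tor, uMk_smul, LinearMap.transvection.apply, hp.ff]
  module

theorem tor_e {l : F} (hl : l ≠ 0) : hp.tor hh l hl • e = l • e := by
  rw [tor_smul, hp.ee, fe hh hp]; module

theorem tor_f {l : F} (hl : l ≠ 0) : hp.tor hh l hl • f = (σ l)⁻¹ • f := by
  rw [tor_smul, hp.ef, hp.ff]; module

theorem tor_perp {l : F} (hl : l ≠ 0) {x : V} (hx : Perp h e f x) :
    hp.tor hh l hl • x = x := by
  simp [tor_smul, hx.1, hx.2]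

theorem tor_det {l : F} (hl : l ≠ 0) :
    LinearMap.det ((hp.tor hh l hl : V ≃ₗ[F] V) : V →ₗ[F] V) = l / σ l := by
  change LinearMap.det ((LinearMap.transvection ((l - 1) • h f) e).comp
      (LinearMap.transvection (((σ l)⁻¹ - 1) • h e) f)) = _
  rw [LinearMap.det_comp, LinearMap.transvection.det, LinearMap.transvection.det]
  simp [hp.ef, fe hh hp]
  field_simp

/-- A torus element times a compatible isometry fixing the pair lies in the Levi subgroup. -/
theorem exists_levi {A : UH h} {l : F} (hl : l ≠ 0) (hAe : A • e = e) (hAf : A • f = f)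
    (hdet : LinearMap.det ((A : V ≃ₗ[F] V) : V →ₗ[F] V) = σ l / l) :
    ∃ g : SUH h, IsLevi e f g l ∧ ∀ w, Perp h e f w → g • w = A • w := by
  have hσl : σ l ≠ 0 := (map_ne_zero σ).2 hl
  have hmem : A * hp.tor hh l hl ∈ SUH h := by
    rw [mem_SUH]
    change LinearMap.det (((A : V ≃ₗ[F] V) : V →ₗ[F] V) ∘ₗ
      ((hp.tor hh l hl : V ≃ₗ[F] V) : V →ₗ[F] V)) = 1
    rw [LinearMap.det_comp, tor_det, hdet]
    field_simp
  refine ⟨⟨_, hmem⟩, ⟨?_, ?_⟩, fun w hw => ?_⟩
  · change (A * hp.tor hh l hl) • e = _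
    rw [mul_smul, tor_e, smul_comm A, hAe]
  · change (A * hp.tor hh l hl) • f = _
    rw [mul_smul, tor_f, smul_comm A, hAf]
  · change (A * hp.tor hh l hl) • w = _
    rw [mul_smul, tor_perp hh hp hl hw]

/-- Dilatransvections along a vector orthogonal to the pair fix it. -/
theorem dil_fix {b : V} (hb : Perp h e f b) {c : F} (hc : c + σ c + c * σ c * h b b = 0) :
    uDil hh b c hc • e = e ∧ uDil hh b c hc • f = f := by
  simp [uDil_smul, hh.comm_zero hb.1, hh.comm_zero hb.2]

/-- Every dilatransvection of the orthogonal of the pair extends to a Levi element. -/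
theorem exists_levi_dil {b : V} (hb : Perp h e f b) {c : F}
    (hc : c + σ c + c * σ c * h b b = 0) :
    ∃ (g : SUH h) (l : F), l ≠ 0 ∧ IsLevi e f g l ∧
      ∀ w, Perp h e f w → g • w = w + (c * h b w) • b := by
  set δ := 1 + c * h b b with hδ
  have hnorm : δ * σ δ = 1 := by
    rw [hδ, map_add, map_one, map_mul, hh.σ_self]
    linear_combination h b b * hc
  obtain ⟨l, hl, hlδ⟩ : ∃ l : F, l ≠ 0 ∧ σ l = δ * l := by
    by_cases hd : δ = -1
    · obtain ⟨t, ht, hts⟩ := hh.exists_skew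
      exact ⟨t, ht, by rw [hd, eq_neg_of_add_eq_zero_right hts]; ring⟩
    · refine ⟨1 + σ δ, fun e0 => hd ?_, ?_⟩
      · linear_combination -hnorm + δ * e0
      · rw [map_add, map_one, hh.invol]; linear_combination -hnorm
  obtain ⟨g, hg, hgw⟩ := exists_levi hh hp (A := uDil hh b c hc) hl (dil_fix hh hp hb hc).1
    (dil_fix hh hp hb hc).2 (by rw [uDil_det, hlδ, mul_div_cancel_right₀ _ hl, hδ])
  exact ⟨g, l, hl, hg, fun w hw => by rw [hgw w hw, uDil_smul]⟩

end Pair

/-! ### The orthogonal of the pair -/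

namespace Pair

variable {e f : V} (hp : Pair h e f) (h3 : 3 ≤ Module.finrank F V)
include hp h3

/-- Two independent vectors leave room for an orthogonal pair. -/
theorem exists_perp_ne_zero : ∃ w, Perp h e f w ∧ h w w ≠ 0 := by
  obtain ⟨w, hw⟩ := exists_aniso_perp_pair hh h3 hp.ee hp.ff (by rw [hp.ef]; exact one_ne_zero)
  exact ⟨w, ⟨hw.1, hw.2.1⟩, hw.2.2⟩

theorem perp_span_single (hn : Module.finrank F V = 3) {w₀ : V} (hw₀ : Perp h e f w₀)
    (hne : h w₀ w₀ ≠ 0) {w : V} (hw : Perp h e f w) : ∃ s : F, w = s • w₀ := by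
  refine ⟨h w₀ w / h w₀ w₀, sub_eq_zero.1 ?_⟩
  set y := w - (h w₀ w / h w₀ w₀) • w₀ with hy
  have h0 : h w₀ y = 0 := by simp [hy, hne]
  have hye := hw.sub (hw₀.smul (h w₀ w / h w₀ w₀))
  rw [← hy] at hye
  have hi : LinearIndependent F ![e, f, w₀] := by
    rw [Fintype.linearIndependent_iff]
    intro k hk
    have e1 := congrArg (h e) hk
    have e2 := congrArg (h f) hk
    have e3 := congrArg (h w₀) hk
    simp [Fin.sum_univ_three, hp.ee, hp.ff, hp.ef, fe hh hp, hw₀.1, hw₀.2, hh.comm_zero hw₀.1,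
      hh.comm_zero hw₀.2, hne] at e1 e2 e3
    simp [Fin.forall_fin_succ, e1, e2, e3]
  have hsp := hi.span_eq_top_of_card_eq_finrank (by simp [hn])
  refine hh.sep _ fun x => ?_
  have hx : x ∈ Submodule.span F (Set.range ![e, f, w₀]) := hsp ▸ Submodule.mem_top
  obtain ⟨k, rfl⟩ := Submodule.mem_span_range_iff_exists_fun F |>.1 hx
  simp [Fin.sum_univ_three, hh.comm_zero hye.1, hh.comm_zero hye.2, hh.comm_zero h0]

variable [Finite F] (h4 : 4 ≤ Module.finrank F V)
include h4

/-- A hyperbolic pair inside the orthogonal of the pair. -/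
theorem exists_perp_pair : ∃ b₁ b₂, Perp h e f b₁ ∧ Perp h e f b₂ ∧ Pair h b₁ b₂ := by
  obtain ⟨a, haP, ha⟩ := exists_perp_ne_zero hh hp h3
  obtain ⟨y, hy, hy0⟩ := exists_forall_eq_zero_notMem ![h e, h f, h a] (⊥ : Submodule F V)
    (by rw [finrank_bot, Fintype.card_fin]; omega)
  rw [Submodule.mem_bot] at hy0
  have hyP : Perp h e f y := ⟨hy 0, hy 1⟩
  have hay : h a y = 0 := hy 2
  obtain ⟨b₁, hb₁P, hb₁, hb₁0⟩ : ∃ b, Perp h e f b ∧ h b b = 0 ∧ b ≠ 0 := by
    by_cases hyy : h y y = 0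
    · exact ⟨y, hyP, hyy, hy0⟩
    obtain ⟨r, hr⟩ := hh.exists_norm_eq (c := -h a a / h y y) (by
      rw [map_div₀, map_neg, hh.σ_self, hh.σ_self])
    refine ⟨a + r • y, haP.add (hyP.smul r), ?_, fun e0 => ha ?_⟩
    · simp [hay, hh.comm_zero hay]
      rw [← mul_assoc, hr, div_mul_cancel₀ _ hyy, add_neg_cancel]
    · have := congrArg (h a) e0
      simpa [hay] using this
  obtain ⟨z, hzP, hz⟩ : ∃ z, Perp h e f z ∧ h b₁ z = 1 := by
    obtain ⟨u, hu⟩ := exists_h_ne_zero hh hb₁0
    refine ⟨proj h e f ((h b₁ u)⁻¹ • u), hp.perp_proj hh _, ?_⟩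
    simp [proj_apply, hh.comm_zero hb₁P.1, hh.comm_zero hb₁P.2, hu]
  obtain ⟨d, hd⟩ := hh.exists_trace_one
  refine ⟨b₁, z + (-(d * h z z)) • b₁, hb₁P, hzP.add (hb₁P.smul _), hb₁, ?_, by simp [hz, hb₁]⟩
  simp [hb₁, hz, hh.swap b₁ z, hh.σ_self]
  linear_combination -(h z z) * hd

/-- The orthogonal of the pair is additively generated by its isotropic vectors. -/
theorem perp_isotropic_induction {P : V → Prop} (hadd : ∀ x y, P x → P y → P (x + y))
    (hiso : ∀ b (s : F), Perp h e f b → h b b = 0 → P (s • b)) {w : V} (hw : Perp h e f w) :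
    P w := by
  obtain ⟨b₁, b₂, hb₁, hb₂, hb⟩ := exists_perp_pair hh hp h3 h4
  obtain ⟨d, hd⟩ := hh.exists_trace_one
  set u := proj h b₁ b₂ w
  have hu : Perp h e f u := by
    simp only [u, proj_apply]
    exact (hw.sub (hb₁.smul _)).sub (hb₂.smul _)
  have hu' : Perp h b₁ b₂ u := hb.perp_proj hh w
  set b₄ := b₂ + u + (-(d * h u u)) • b₁
  have hb₄ : Perp h e f b₄ := (hb₂.add hu).add (hb₁.smul _)
  have h44 : h b₄ b₄ = 0 := by
    simp [b₄, hb.ee, hb.ff, hb.ef, fe hh hb, hu'.1, hu'.2, hh.comm_zero hu'.1,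
      hh.comm_zero hu'.2, hh.σ_self]
    linear_combination -(h u u) * hd
  have : w = (1 : F) • b₄ + (h b₂ w + d * h u u) • b₁ + (h b₁ w - 1) • b₂ := by
    rw [Pair.decomp (h := h) (e := b₁) (f := b₂) w]
    simp only [b₄, u, hb.ee, hb.ff, hb.ef, fe hh hb, (hb.perp_proj hh w).1, (hb.perp_proj hh w).2,
      map_add, map_smul, smul_eq_mul, mul_zero, mul_one, add_zero, zero_add]
    module
  rw [this]
  exact hadd _ _ (hadd _ _ (hiso _ _ hb₄ h44) (hiso _ _ hb₁ hb.ee)) (hiso _ _ hb₂ hb.ff)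

end Pair

end Cfsg.Agent.AutPSU
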