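import Cfsg.Agent.Lib.AutPSU.Levi

/-!
The Levi subgroup of a hyperbolic pair acting on the orthogonal `W` of the pair through
`w ↦ σ l • g • w`: its commutant is the field, and it has no equivariant additive map to the centre
of the root group.
-/

set_option autoImplicit false
set_option linter.unusedSectionVars false

namespace Cfsg.Agent.AutPSU

open Cfsg.Agent.ClassicalSimple

variable {F V : Type*} [Field F] [Fintype F] [AddCommGroup V] [Module F V]
variable {σ : F →+* F} {h : V →ₛₗ[σ] V →ₗ[F] F}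

/-- A subring containing a large enough set of powers is everything. -/
theorem subring_eq_top_of_pow {q : ℕ} (hF : Fintype.card F = q ^ 2) (R : Subring F) (m : ℕ)
    (hk : Nat.card (powMonoidHom (α := Fˣ) m).ker < q + 1) (hR : ∀ l : Fˣ, (l : F) ^ m ∈ R) :
    R = ⊤ := by
  have hinv : ∀ x ∈ R, x⁻¹ ∈ R := by
    intro x hx
    rcases eq_or_ne x 0 with rfl | hx0
    · simp
    · have h2 : 2 ≤ Fintype.card F := Fintype.one_lt_card
      have e : x⁻¹ = x ^ (Fintype.card F - 2) := by
        refine inv_eq_of_mul_eq_one_right ?_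
        rw [← pow_succ', show Fintype.card F - 2 + 1 = Fintype.card F - 1 by omega,
          FiniteField.pow_card_sub_one_eq_one x hx0]
      rw [e]
      exact pow_mem hx _
  let K : Subfield F := { R with inv_mem' := hinv }
  have hq1 : 1 < Nat.card K := Finite.one_lt_card
  have hpow : q ^ 2 = Nat.card K ^ Module.finrank K F := by
    rw [← Module.natCard_eq_pow_finrank, Nat.card_eq_fintype_card, hF]
  rcases le_or_gt (Module.finrank K F) 1 with h1 | h1
  · have hd : Module.finrank K F = 1 := le_antisymm h1 Module.finrank_pos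
    rw [hd, pow_one, ← hF, ← Nat.card_eq_fintype_card] at hpow
    refine eq_top_iff.2 fun x _ => ?_
    obtain ⟨y, hy⟩ := ((Nat.bijective_iff_injective_and_card
      (fun y : K => (y : F))).2 ⟨Subtype.val_injective, hpow.symm⟩).2 x
    exact hy ▸ y.2
  · exfalso
    have hK : Nat.card K ≤ q := by
      by_contra hlt
      have h3 : Nat.card K ^ 2 ≤ Nat.card K ^ Module.finrank K F :=
        Nat.pow_le_pow_right (by omega) h1
      rw [← hpow] at h3
      nlinarith
    let ψ : (powMonoidHom (α := Fˣ) m).range → Kˣ := fun x =>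
      Units.mk0 ⟨((x : Fˣ) : F), by
        obtain ⟨l, hl⟩ := x.2
        rw [← hl, powMonoidHom_apply, Units.val_pow_eq_pow_val]
        exact hR l⟩ fun e => (x : Fˣ).ne_zero (congrArg Subtype.val e)
    have hψ : Function.Injective ψ := fun x y e =>
      Subtype.ext (Units.ext (congrArg (fun z : Kˣ => ((z : K) : F)) e))
    have h4 := Nat.card_le_card_of_injective ψ hψ
    rw [Nat.card_units K] at h4
    have h5 := (powMonoidHom (α := Fˣ) m).ker.card_mul_index
    rw [Subgroup.index_ker, Nat.card_units, Nat.card_eq_fintype_card (α := F), hF] at h5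
    have h6 : Nat.card (powMonoidHom (α := Fˣ) m).ker * Nat.card (powMonoidHom (α := Fˣ) m).range
        ≤ q * (q - 1) := Nat.mul_le_mul (by omega) (by omega)
    rw [h5] at h6
    obtain ⟨k, rfl⟩ : ∃ k, q = k + 2 := ⟨q - 2, by omega⟩
    have : (k + 2) * (k + 2 - 1) + 1 < (k + 2) ^ 2 := by
      simp only [Nat.add_one_sub_one]
      nlinarith
    omega

/-- The squares generate the field. -/
theorem subring_eq_top_of_sq {q : ℕ} (hF : Fintype.card F = q ^ 2) (R : Subring F)
    (hR : ∀ l : Fˣ, (l : F) ^ 2 ∈ R) : R = ⊤ := by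
  have hq : 2 ≤ q := by
    by_contra hq
    have := Fintype.one_lt_card (α := F)
    interval_cases q <;> omega
  refine subring_eq_top_of_pow hF R 2 (lt_of_le_of_lt ?_ (Nat.lt_succ_of_le hq)) hR
  classical
  have hsub : ∀ x : (powMonoidHom (α := Fˣ) 2).ker, (x : Fˣ) = 1 ∨ (x : Fˣ) = -1 := fun x => by
    have := congrArg Units.val (MonoidHom.mem_ker.1 x.2)
    rw [powMonoidHom_apply, Units.val_pow_eq_pow_val, Units.val_one, sq_eq_one_iff] at this
    exact this.imp (fun e => Units.ext e) (fun e => Units.ext (by simp [e]))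
  refine le_trans (Nat.card_le_card_of_injective
    (fun x : (powMonoidHom (α := Fˣ) 2).ker => decide ((x : Fˣ) = 1)) fun x y e => ?_) (by simp)
  simp only [decide_eq_decide] at e
  refine Subtype.ext ?_
  rcases hsub x with hx | hx
  · rw [hx, e.1 hx]
  · rcases hsub y with hy | hy
    · rw [hy, e.2 hy]
    · rw [hx, hy]

/-- For `q ≠ 2` the powers `l ^ (2 q - 1)` generate the field. -/
theorem subring_eq_top_of_levi {q : ℕ} (hF : Fintype.card F = q ^ 2) (hq : q ≠ 2) (R : Subring F)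
    (hR : ∀ l : Fˣ, (l : F) ^ (2 * q - 1) ∈ R) : R = ⊤ := by
  classical
  have hq3 : 3 ≤ q := by
    have := Fintype.one_lt_card (α := F)
    by_contra hlt
    interval_cases q <;> omega
  refine subring_eq_top_of_pow hF R _ (lt_of_le_of_lt ?_ (Nat.lt_succ_of_le hq3)) hR
  have h3 : ∀ x : (powMonoidHom (α := Fˣ) (2 * q - 1)).ker, ((x : Fˣ) : F) ^ 3 = 1 := by
    intro x
    have h1 := congrArg Units.val (MonoidHom.mem_ker.1 x.2)
    rw [powMonoidHom_apply, Units.val_pow_eq_pow_val, Units.val_one] at h1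
    have h2 := FiniteField.pow_card_sub_one_eq_one ((x : Fˣ) : F) (x : Fˣ).ne_zero
    rw [hF] at h2
    generalize ((x : Fˣ) : F) = y at h1 h2 ⊢
    obtain ⟨k, hk⟩ : ∃ k, q = k + 1 := ⟨q - 1, by omega⟩
    rw [show 2 * q - 1 = 2 * k + 1 by omega] at h1
    rw [show q ^ 2 - 1 = k ^ 2 + 2 * k by subst hk; ring_nf; omega] at h2
    have e1 : y ^ ((2 * k + 1) * (2 * k + 3)) = 1 := by rw [pow_mul, h1, one_pow]
    rw [show (2 * k + 1) * (2 * k + 3) = (k ^ 2 + 2 * k) * 4 + 3 by ring, pow_add, pow_mul, h2,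
      one_pow, one_mul] at e1
    exact e1
  have hroot : ∀ x : (powMonoidHom (α := Fˣ) (2 * q - 1)).ker,
      ((x : Fˣ) : F) ∈ Polynomial.nthRootsFinset 3 (1 : F) := fun x =>
    (Polynomial.mem_nthRootsFinset (by norm_num) _).2 (h3 x)
  refine le_trans (Nat.card_le_card_of_injective
    (fun x => (⟨_, hroot x⟩ : Polynomial.nthRootsFinset 3 (1 : F)))
    fun x y e => Subtype.ext (Units.ext (congrArg Subtype.val e))) ?_
  rw [Nat.card_eq_fintype_card, Fintype.card_coe, Polynomial.nthRootsFinset_def]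
  exact le_trans (Multiset.toFinset_card_le _) (Polynomial.card_nthRoots 3 1)

variable (hh : IsUnitaryForm σ h) [FiniteDimensional F V] {q : ℕ}
  (hF : Fintype.card F = q ^ 2) (hσ : ∀ a : F, σ a = a ^ q)
  (h3 : 3 ≤ Module.finrank F V) (hsmall : ¬ (Module.finrank F V = 3 ∧ q = 2))
variable {e f : V} (hp : Pair h e f)

/-- The scalar `s` with `σ l • g • w = s • w` on the orthogonal of the pair in dimension three. -/
theorem exists_levi_scalar (hd : Module.finrank F V = 3) {w₀ : V} (hw₀ : Perp h e f w₀)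
    (hne : h w₀ w₀ ≠ 0) {l : F} (hl : l ≠ 0) (hh : IsUnitaryForm σ h) (hp : Pair h e f)
    (hσ : ∀ a : F, σ a = a ^ q) (hq : 1 ≤ q) :
    ∃ g : SUH h, IsLevi e f g l ∧
      ∀ w, Perp h e f w → σ l • g • w = l ^ (2 * q - 1) • w := by
  have h3 : 3 ≤ Module.finrank F V := le_of_eq hd.symm
  set c := (σ l / l - 1) / h w₀ w₀ with hc'
  have hσl : σ l ≠ 0 := (map_ne_zero σ).2 hl
  have hc : c + σ c + c * σ c * h w₀ w₀ = 0 := by
    rw [hc', map_div₀, map_sub, map_div₀, map_one, hh.invol, hh.σ_self]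
    field_simp
    ring
  obtain ⟨g, hg, hgw⟩ := hp.exists_levi hh (A := uDil hh w₀ c hc) hl (hp.dil_fix hh hw₀ hc).1
    (hp.dil_fix hh hw₀ hc).2 (by rw [uDil_det, hc', div_mul_cancel₀ _ hne]; ring)
  refine ⟨g, hg, fun w hw => ?_⟩
  obtain ⟨s, rfl⟩ := hp.perp_span_single hh h3 hd hw₀ hne hw
  rw [hgw _ hw, uDil_smul, map_smul, smul_eq_mul, hc',
    show l ^ (2 * q - 1) = σ l * (σ l / l) from ?_]
  · match_scalars
    field_simp
    ring
  · rw [hσ, mul_div_assoc', eq_div_iff hl, ← pow_succ, ← pow_add]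
    congr 1
    omega

include hh hF hσ h3 hsmall hp

/-- An additive endomorphism of `W` commuting with the Levi action is a scalar. -/
theorem commutant_scalar {T : V → V}
    (hadd : ∀ w w', Perp h e f w → Perp h e f w' → T (w + w') = T w + T w')
    (hmap : ∀ w, Perp h e f w → Perp h e f (T w))
    (hcomm : ∀ (g : SUH h) (l : F), l ≠ 0 → IsLevi e f g l → ∀ w, Perp h e f w →
      T (σ l • g • w) = σ l • g • T w) :
    ∃ α : F, ∀ w, Perp h e f w → T w = α • w := by
  have hT0 : T 0 = 0 := by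
    have := hadd 0 0 (Perp.zero e f) (Perp.zero e f)
    rw [add_zero] at this
    simpa using this
  have hTneg : ∀ w, Perp h e f w → T (-w) = -T w := fun w hw =>
    eq_neg_of_add_eq_zero_left (by rw [← hadd _ _ hw.neg hw, neg_add_cancel, hT0])
  have hq : 1 ≤ q := by
    by_contra hq
    have := Fintype.one_lt_card (α := F)
    interval_cases q
    omega
  -- the scalars commuting with `T` on a stable family of vectors
  let R : (S : Set V) → (∀ w ∈ S, Perp h e f w) → (∀ w ∈ S, ∀ c : F, c • w ∈ S) → Subring F :=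
    fun S hS hS' =>
    { carrier := {s | ∀ w ∈ S, T (s • w) = s • T w}
      one_mem' := fun w _ => by simp
      mul_mem' := fun {a b} ha hb w hw => by
        rw [mul_smul, ha _ (hS' w hw b), hb w hw, smul_smul]
      zero_mem' := fun w _ => by simp [hT0]
      add_mem' := fun {a b} ha hb w hw => by
        rw [add_smul, hadd _ _ ((hS w hw).smul a) ((hS w hw).smul b), ha w hw, hb w hw, add_smul]
      neg_mem' := fun {a} ha w hw => by
        rw [neg_smul, hTneg _ ((hS w hw).smul a), ha w hw, neg_smul] }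
  by_cases hd : Module.finrank F V = 3
  · obtain ⟨w₀, hw₀, hne⟩ := hp.exists_perp_ne_zero hh h3
    have hq2 : q ≠ 2 := fun e0 => hsmall ⟨hd, e0⟩
    let S : Set V := {w | Perp h e f w}
    have htop := subring_eq_top_of_levi hF hq2 (R S (fun _ hw => hw) (fun _ hw c => hw.smul c))
      fun l w hw => by
        obtain ⟨g, hg, hgw⟩ := exists_levi_scalar hd hw₀ hne l.ne_zero hh hp hσ hq
        rw [← hgw w hw, hcomm g l l.ne_zero hg w hw, hgw _ (hmap w hw)]
    obtain ⟨α, hα⟩ := hp.perp_span_single hh h3 hd hw₀ hne (hmap w₀ hw₀)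
    refine ⟨α, fun w hw => ?_⟩
    obtain ⟨s, rfl⟩ := hp.perp_span_single hh h3 hd hw₀ hne hw
    have hs : s ∈ R S (fun _ hw => hw) (fun _ hw c => hw.smul c) := htop ▸ Subring.mem_top s
    rw [hs w₀ hw₀, hα, smul_comm]
  have h4 : 4 ≤ Module.finrank F V := by omega
  obtain ⟨t, ht0, ht⟩ := hh.exists_skew
  -- transvections of `W`
  have htv : ∀ b, Perp h e f b → h b b = 0 → ∀ x, Perp h e f x →
      T ((t * h b x) • b) = (t * h b (T x)) • b := by
    intro b hb hbb x hx
    have hc : t + σ t + t * σ t * h b b = 0 := by rw [hbb, mul_zero, add_zero, ht]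
    obtain ⟨g, hg, hgw⟩ := hp.exists_levi hh (A := uDil hh b t hc) one_ne_zero
      (hp.dil_fix hh hb hc).1 (hp.dil_fix hh hb hc).2 (by rw [uDil_det, hbb]; simp)
    have := hcomm g 1 one_ne_zero hg x hx
    rw [map_one, one_smul, one_smul, hgw x hx, hgw _ (hmap x hx), uDil_smul, uDil_smul,
      hadd _ _ hx (hb.smul _)] at this
    exact add_left_cancel this
  obtain ⟨b₁, b₂, hb₁, hb₂, hb⟩ := hp.exists_perp_pair hh h3 h4
  -- the line of an isotropic vector is stable
  have hline : ∀ b, Perp h e f b → h b b = 0 → ∀ z, Perp h e f z → h b z = 1 → ∀ s : F,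
      T (s • b) = (t * h b (T ((s / t) • z))) • b := by
    intro b hb hbb z hz hbz s
    have := htv b hb hbb ((s / t) • z) (hz.smul _)
    rwa [map_smul, hbz, smul_eq_mul, mul_one, mul_div_cancel₀ _ ht0] at this
  -- the scalars on the first line
  let S : Set V := {w | ∃ c : F, w = c • b₁}
  have hS : ∀ w ∈ S, Perp h e f w := by rintro _ ⟨c, rfl⟩; exact hb₁.smul c
  have hS' : ∀ w ∈ S, ∀ c : F, c • w ∈ S := by
    rintro _ ⟨c, rfl⟩ c'; exact ⟨c' * c, smul_smul _ _ _⟩
  have htop := subring_eq_top_of_sq hF (R S hS hS') fun k w hw => by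
    have hσk : σ (k : F) ≠ 0 := (map_ne_zero σ).2 k.ne_zero
    obtain ⟨g, hg, hgw⟩ := hp.exists_levi hh (A := hb.tor hh k k.ne_zero) hσk
      (hb.tor_perp hh _ ⟨hh.comm_zero hb₁.1, hh.comm_zero hb₂.1⟩)
      (hb.tor_perp hh _ ⟨hh.comm_zero hb₁.2, hh.comm_zero hb₂.2⟩)
      (by rw [hb.tor_det, hh.invol])
    obtain ⟨c, rfl⟩ := hw
    have e1 : ∀ c : F, σ (σ (k : F)) • g • c • b₁ = ((k : F) ^ 2) • c • b₁ := fun c => by
      rw [hh.invol, hgw _ (hb₁.smul c), smul_comm (hb.tor hh k k.ne_zero), hb.tor_e,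
        smul_smul, smul_smul, smul_smul]
      congr 1
      ring
    have e2 : T (c • b₁) = (t * h b₁ (T ((c / t) • b₂))) • b₁ :=
      hline b₁ hb₁ hb.ee b₂ hb₂ hb.ef c
    rw [← e1, hcomm g _ hσk hg _ (hb₁.smul c), e2, e1]
  set α := t * h b₁ (T ((1 / t) • b₂)) with hα
  have h1 : ∀ s : F, T (s • b₁) = α • s • b₁ := fun s => by
    have hs : s ∈ R S hS hS' := htop ▸ Subring.mem_top s
    rw [hs b₁ ⟨1, (one_smul F b₁).symm⟩]
    conv_lhs => rw [← one_smul F b₁, hline b₁ hb₁ hb.ee b₂ hb₂ hb.ef 1]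
    rw [← hα, smul_comm]
  -- isotropic vectors of `W` pairing to one with `b₁`
  have h2 : ∀ z, Perp h e f z → h z z = 0 → h b₁ z = 1 → ∀ y : F, T (y • z) = α • y • z := by
    intro z hz hzz hbz y
    have hzb : h z b₁ = 1 := by rw [hh.swap, hbz, map_one]
    rw [hline z hz hzz b₁ hb₁ hzb y, h1, map_smul, map_smul, smul_eq_mul, smul_eq_mul, hzb,
      smul_smul]
    congr 1
    field_simp
  refine ⟨α, fun w hw => ?_⟩
  obtain ⟨d, hd⟩ := hh.exists_trace_one
  set u := proj h b₁ b₂ w with hu_def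
  have hu : Perp h e f u := by
    rw [hu_def, proj_apply]
    exact (hw.sub (hb₁.smul _)).sub (hb₂.smul _)
  have hu' : Perp h b₁ b₂ u := hb.perp_proj hh w
  set b₄ := b₂ + u + (-(d * h u u)) • b₁ with hb₄_def
  have hb₄ : Perp h e f b₄ := (hb₂.add hu).add (hb₁.smul _)
  have h44 : h b₄ b₄ = 0 := by
    simp [b₄, hb.ee, hb.ff, hb.ef, hb.fe hh, hu'.1, hu'.2, hh.comm_zero hu'.1,
      hh.comm_zero hu'.2, hh.σ_self]
    linear_combination -(h u u) * hd
  have h14 : h b₁ b₄ = 1 := by simp [b₄, hb.ee, hb.ef, hu'.1]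
  have hw' : w = (1 : F) • b₄ + (h b₂ w + d * h u u) • b₁ + (h b₁ w - 1) • b₂ := by
    have := Pair.decomp (h := h) (e := b₁) (f := b₂) w
    rw [← hu_def] at this
    rw [hb₄_def]
    conv_lhs => rw [this]
    module
  rw [hw', hadd _ _ ((hb₄.smul 1).add (hb₁.smul _)) (hb₂.smul _),
    hadd _ _ (hb₄.smul 1) (hb₁.smul _), h2 b₄ hb₄ h44 h14, h1, h2 b₂ hb₂ hb.ff hb.ef]
  module

/-- An additive map on `W` with values in the fixed field, up to a fixed factor, that is
equivariant for the Levi action vanishes. -/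
theorem equivariant_zero {χ : V → F}
    (hadd : ∀ w w', Perp h e f w → Perp h e f w' → χ (w + w') = χ w + χ w')
    (hequiv : ∀ (g : SUH h) (l : F), l ≠ 0 → IsLevi e f g l → ∀ w, Perp h e f w →
      χ (σ l • g • w) = σ l * l * χ w) :
    ∀ w, Perp h e f w → χ w = 0 := by
  have hχ0 : χ 0 = 0 := by
    have := hadd 0 0 (Perp.zero e f) (Perp.zero e f)
    rw [add_zero] at this
    simpa using this
  have hq : 1 ≤ q := by
    by_contra hq
    have := Fintype.one_lt_card (α := F)
    interval_cases q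
    omega
  by_cases hd : Module.finrank F V = 3
  · have hq2 : q ≠ 2 := fun e0 => hsmall ⟨hd, e0⟩
    obtain ⟨w₀, hw₀, hne⟩ := hp.exists_perp_ne_zero hh h3
    let R : Subring F :=
    { carrier := {s | ∃ k : F, σ k = k ∧ ∀ w, Perp h e f w → χ (s • w) = k * χ w}
      one_mem' := ⟨1, map_one σ, fun w _ => by simp⟩
      mul_mem' := fun {a b} ⟨k, hk, ha⟩ ⟨k', hk', hb⟩ => ⟨k * k', by rw [map_mul, hk, hk'],
        fun w hw => by rw [mul_smul, ha _ (hw.smul b), hb w hw, mul_assoc]⟩
      zero_mem' := ⟨0, map_zero σ, fun w _ => by simp [hχ0]⟩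
      add_mem' := fun {a b} ⟨k, hk, ha⟩ ⟨k', hk', hb⟩ => ⟨k + k', by rw [map_add, hk, hk'],
        fun w hw => by
          rw [add_smul, hadd _ _ (hw.smul a) (hw.smul b), ha w hw, hb w hw, add_mul]⟩
      neg_mem' := fun {a} ⟨k, hk, ha⟩ => ⟨-k, by rw [map_neg, hk], fun w hw => by
        rw [neg_mul, ← ha w hw]
        refine eq_neg_of_add_eq_zero_left ?_
        rw [← hadd _ _ (hw.smul _) (hw.smul _), ← add_smul, neg_add_cancel, zero_smul, hχ0]⟩ }
    have htop := subring_eq_top_of_levi hF hq2 R fun l => by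
      obtain ⟨g, hg, hgw⟩ := exists_levi_scalar hd hw₀ hne l.ne_zero hh hp hσ hq
      exact ⟨σ l * l, by rw [map_mul, hh.invol, mul_comm],
        fun w hw => by rw [← hgw w hw, hequiv g l l.ne_zero hg w hw]⟩
    intro w hw
    by_contra hne0
    choose k hk hkw using fun s : F => (htop ▸ Subring.mem_top s : s ∈ R)
    have hk1 : ∀ s s', k (s * s') = k s * k s' := fun s s' => mul_right_cancel₀ hne0
      (by rw [← hkw _ w hw, mul_smul, hkw s _ (hw.smul s'), hkw s' w hw, mul_assoc])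
    have hk2 : ∀ s s', k (s + s') = k s + k s' := fun s s' => mul_right_cancel₀ hne0
      (by rw [← hkw _ w hw, add_smul, hadd _ _ (hw.smul s) (hw.smul s'), hkw s w hw, hkw s' w hw,
        add_mul])
    have hk3 : k 1 = 1 := mul_right_cancel₀ hne0 (by rw [← hkw _ w hw, one_smul, one_mul])
    let θ : F →+* F := RingHom.mk' ⟨⟨k, hk3⟩, hk1⟩ hk2
    obtain ⟨a, ha⟩ := hh.ne_id
    obtain ⟨b, hb⟩ := Finite.injective_iff_surjective.1 θ.injective a
    exact ha (by rw [← hb]; exact hk b)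
  have h4 : 4 ≤ Module.finrank F V := by omega
  obtain ⟨t, ht0, ht⟩ := hh.exists_skew
  intro w hw
  refine (hp.perp_isotropic_induction hh h3 h4 (P := fun v => Perp h e f v ∧ χ v = 0)
    (fun x y hx hy => ⟨hx.1.add hy.1, by rw [hadd x y hx.1 hy.1, hx.2, hy.2, add_zero]⟩)
    (fun b s hbP hbb => ⟨hbP.smul s, ?_⟩) hw).2
  rcases eq_or_ne b 0 with rfl | hb0
  · rw [smul_zero, hχ0]
  obtain ⟨u, hu⟩ := exists_h_ne_zero hh hb0
  set x := proj h e f ((s / t / h b u) • u) with hx_def
  have hx : Perp h e f x := hp.perp_proj hh _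
  have hbx : h b x = s / t := by
    simp [hx_def, proj_apply, hh.comm_zero hbP.1, hh.comm_zero hbP.2, hu]
  have hc : t + σ t + t * σ t * h b b = 0 := by rw [hbb, mul_zero, add_zero, ht]
  obtain ⟨g, hg, hgw⟩ := hp.exists_levi hh (A := uDil hh b t hc) one_ne_zero
    (hp.dil_fix hh hbP hc).1 (hp.dil_fix hh hbP hc).2 (by rw [uDil_det, hbb]; simp)
  have := hequiv g 1 one_ne_zero hg x hx
  rw [map_one, one_smul, one_mul, one_mul, hgw x hx, uDil_smul, hbx, mul_div_cancel₀ _ ht0,
    hadd _ _ hx (hbP.smul s)] at this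
  simpa using this

end Cfsg.Agent.AutPSU
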