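import Cfsg.Agent.Lib.AutPSU.Points
import Cfsg.Agent.Lib.AutPSU.Rigid
import Cfsg.Agent.Lib.ClassicalSimple.UnitaryMatrix

/-!
Every automorphism of `SU / Z` (dimension at least 3, not `U_3(2)`) is induced by a semilinear
similitude of the hermitian form.
-/

set_option autoImplicit false
set_option linter.unusedSectionVars false

namespace Cfsg.Agent.AutPSU

open Cfsg.Agent.ClassicalSimple

set_option maxHeartbeats 1000000

attribute [local irreducible] Pair.rq

variable {F V : Type*} [Field F] [Fintype F] [AddCommGroup V] [Module F V]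
variable {σ : F →+* F} {h : V →ₛₗ[σ] V →ₗ[F] F}

/-- `β` is compatible with the map `Ψ`. -/
def Twisted (β : MulAut (SUH h ⧸ Subgroup.center (SUH h))) (Ψ : V → V) (s : SUH h) : Prop :=
  ∃ s' : SUH h, (∀ x, s' • Ψ x = Ψ (s • x)) ∧ β (mkU h s) = mkU h s'

/-- The elements compatible with `Ψ`. -/
noncomputable def twistedSub (β : MulAut (SUH h ⧸ Subgroup.center (SUH h))) (Ψ : V → V) :
    Subgroup (SUH h) where
  carrier := {s | Twisted β Ψ s}
  one_mem' := ⟨1, fun x => by rw [one_smul, one_smul], by rw [map_one, map_one]⟩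
  mul_mem' := fun {a b} ⟨a', ha, ea⟩ ⟨b', hb, eb⟩ =>
    ⟨a' * b', fun x => by rw [mul_smul, hb, ha, mul_smul],
      by rw [map_mul, map_mul, map_mul, ea, eb]⟩
  inv_mem' := fun {a} ⟨a', ha, ea⟩ =>
    ⟨a'⁻¹, fun x => by rw [inv_smul_eq_iff, ha, smul_inv_smul],
      by rw [map_inv, map_inv, map_inv, ea]⟩

theorem image_mul {β : MulAut (SUH h ⧸ Subgroup.center (SUH h))} {a a' b b' : SUH h}
    (ha : β (mkU h a) = mkU h a') (hb : β (mkU h b) = mkU h b') :
    β (mkU h (a * b)) = mkU h (a' * b') := by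
  rw [map_mul, map_mul, map_mul, ha, hb]

theorem image_inv {β : MulAut (SUH h ⧸ Subgroup.center (SUH h))} {a a' : SUH h}
    (ha : β (mkU h a) = mkU h a') : β (mkU h a⁻¹) = mkU h a'⁻¹ := by
  rw [map_inv, map_inv, map_inv, ha]

variable (hh : IsUnitaryForm σ h) [FiniteDimensional F V] {p : ℕ} [Fact p.Prime] [CharP F p]
  {q : ℕ} (hF : Fintype.card F = q ^ 2) (hσ : ∀ a : F, σ a = a ^ q)
  (h3 : 3 ≤ Module.finrank F V) (hsmall : ¬ (Module.finrank F V = 3 ∧ q = 2))
include hh h3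

theorem center_pelt : ∀ z ∈ Subgroup.center (SUH h), Pelt p z → z = 1 := by
  intro z hz hzp
  obtain ⟨e, he0, he⟩ := exists_isotropic hh h3
  obtain ⟨f, hp⟩ := exists_pair hh he0 he
  obtain ⟨a, -, ha⟩ := (SUH_mem_center_iff hh h3 z).1 hz
  have h1 : z • e = e := hzp.fix hh hp (ha e)
  rw [ha] at h1
  have : a = 1 := smul_left_injective F he0 (show a • e = (1 : F) • e by rw [h1, one_smul])
  exact SUH.ext' fun x => by rw [ha, this, one_smul, one_smul]

include hF hσ hsmall in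
/-- The transvections generate. -/
theorem closure_xs :
    Subgroup.closure (⋃ (v : V) (_ : v ≠ 0 ∧ h v v = 0), xs h v) = (⊤ : Subgroup (SUH h)) := by
  have hcase : 4 ≤ Module.finrank F V ∨ ∃ l : F, l ≠ 0 ∧ l ^ 4 ≠ l := by
    by_cases hd : Module.finrank F V = 3
    · exact Or.inr (exists_l_pow_four hF fun e0 => hsmall ⟨hd, e0⟩)
    · exact Or.inl (by omega)
  set T := Subgroup.closure (⋃ (v : V) (_ : v ≠ 0 ∧ h v v = 0), xs h v)
  have : T.Normal := by
    refine ⟨fun a ha g => ?_⟩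
    have e : T.map (MulAut.conj g).toMonoidHom ≤ T := by
      rw [MonoidHom.map_closure, Subgroup.closure_le]
      rintro _ ⟨x, hx, rfl⟩
      obtain ⟨v, hv, hxv⟩ := Set.mem_iUnion₂.1 hx
      refine Subgroup.subset_closure (Set.mem_iUnion₂.2 ⟨g • v, ⟨fun h0 =>
        hv.1 ((smul_eq_zero_iff_eq g).1 h0), by rw [suh_smul_smul, hv.2]⟩, ?_⟩)
      rw [← xs_conj hh]
      exact ⟨x, hxv, rfl⟩
    exact e ⟨a, ha, rfl⟩
  rcases SUH_normal_eq_top_or_le_center hh h3 (SUH_perfect hh h3 hcase) T with hT | hT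
  · exact hT
  exfalso
  obtain ⟨v, hv0, hv⟩ := exists_isotropic hh h3
  obtain ⟨w, hp⟩ := exists_pair hh hv0 hv
  obtain ⟨t, ht0, ht⟩ := hh.exists_skew
  have hc : t + σ t + h (0 : V) 0 = 0 := by simp [ht]
  obtain ⟨a, -, ha⟩ := (SUH_mem_center_iff hh h3 _).1 (hT (Subgroup.subset_closure
    (Set.mem_iUnion₂.2 ⟨v, ⟨hv0, hv⟩, (xs_eq hh hp).2 ⟨t, hc, rfl⟩⟩)))
  have e1 := ha v
  rw [hp.rq_e hh] at e1
  have ha1 : a = 1 :=
    smul_left_injective F hv0 (show a • v = (1 : F) • v by rw [← e1, one_smul])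
  have e2 := ha w
  rw [hp.rq_f hh, add_zero, ha1, one_smul, add_eq_left, smul_eq_zero] at e2
  exact e2.elim ht0 hv0

omit h3 in
/-- Orthogonal points have commuting transvections. -/
theorem xs_commute {u v : V} (huv : h u v = 0) {x y : SUH h} (hx : x ∈ xs h u) (hy : y ∈ xs h v) :
    x * y = y * x := by
  obtain ⟨a, -, hx⟩ := hx
  obtain ⟨b, -, hy⟩ := hy
  refine SUH.ext' fun z => ?_
  simp only [mul_smul, hx, hy, map_add, map_smul, smul_eq_mul, huv, hh.comm_zero huv, mul_zero,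
    add_zero]
  abel

variable {e f : V} (hp : Pair h e f) {β : MulAut (SUH h ⧸ Subgroup.center (SUH h))}
  (hβe : β '' xb h e = xb h e) (hβf : β '' xb h f = xb h f)
include hp hβe

omit hh h3 hp [FiniteDimensional F V] in
theorem symm_image {v : V} (hv : β '' xb h v = xb h v) : β.symm '' xb h v = xb h v := by
  conv_lhs => rw [← hv, Set.image_image]
  simp

include p in
theorem rq_mk_inj {w w' : V} {a a' : F} {hw : Perp h e f w} {ha : a + σ a + h w w = 0}
    {hw' : Perp h e f w'} {ha' : a' + σ a' + h w' w' = 0}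
    (he : mkU h (hp.rq hh w a hw ha) = mkU h (hp.rq hh w' a' hw' ha')) : w = w' ∧ a = a' :=
  hp.rq_inj hh (eq_of_mk_eq (center_pelt (p := p) hh h3)
    (Pelt.of_mem (rootQ_isPGroup hh hp) ((mem_rootQ_iff hh hp).2 ⟨_, _, _, _, rfl⟩))
    (Pelt.of_mem (rootQ_isPGroup hh hp) ((mem_rootQ_iff hh hp).2 ⟨_, _, _, _, rfl⟩)) he)

include p in
theorem image_rq {w : V} {a : F} (hw : Perp h e f w) (ha : a + σ a + h w w = 0) :
    ∃ w' a' hw' ha', β (mkU h (hp.rq hh w a hw ha)) = mkU h (hp.rq hh w' a' hw' ha') := by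
  have h1 : β (mkU h (hp.rq hh w a hw ha)) ∈ (rootQ h e).map (mkU h) := by
    rw [← image_rootQ hh h3 (center_pelt (p := p) hh h3) hp hβe]
    exact ⟨_, ⟨_, (mem_rootQ_iff hh hp).2 ⟨w, a, hw, ha, rfl⟩, rfl⟩, rfl⟩
  obtain ⟨g, hg, hge⟩ := h1
  obtain ⟨w', a', hw', ha', rfl⟩ := (mem_rootQ_iff hh hp).1 hg
  exact ⟨w', a', hw', ha', hge.symm⟩

omit h3 [Fact p.Prime] [CharP F p] in
theorem image_rq_zero {a : F} (ha : a + σ a + h (0 : V) 0 = 0) :
    ∃ a' ha', β (mkU h (hp.rq hh 0 a (Perp.zero _ _) ha)) =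
      mkU h (hp.rq hh 0 a' (Perp.zero _ _) ha') := by
  have h1 : β (mkU h (hp.rq hh 0 a (Perp.zero _ _) ha)) ∈ xb h e :=
    hβe ▸ ⟨_, ⟨_, (xs_eq hh hp).2 ⟨a, ha, rfl⟩, rfl⟩, rfl⟩
  obtain ⟨g, hg, hge⟩ := h1
  obtain ⟨a', ha', rfl⟩ := (xs_eq hh hp).1 hg
  exact ⟨a', ha', hge.symm⟩

/-- The induced map on the orthogonal of the pair. -/
def IsPhi (β : MulAut (SUH h ⧸ Subgroup.center (SUH h))) (hp : Pair h e f)
    (hh : IsUnitaryForm σ h) (φ : V → V) : Prop :=
  ∀ w, Perp h e f w → Perp h e f (φ w) ∧ ∀ a (hw : Perp h e f w) (ha : a + σ a + h w w = 0),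
    ∃ a' hw' ha', β (mkU h (hp.rq hh w a hw ha)) = mkU h (hp.rq hh (φ w) a' hw' ha')

include p in
theorem exists_phi : ∃ φ : V → V, IsPhi β hp hh φ ∧
    (∀ w w', Perp h e f w → Perp h e f w' → φ (w + w') = φ w + φ w') ∧
    (∀ w, Perp h e f w → φ w = 0 → w = 0) ∧
    ∀ w', Perp h e f w' → ∃ w, Perp h e f w ∧ φ w = w' := by
  obtain ⟨d, hd⟩ := hh.exists_trace_one
  have htr : ∀ w : V, -d * h w w + σ (-d * h w w) + h w w = 0 := fun w => by
    rw [map_mul, map_neg, hh.σ_self]; linear_combination -(h w w) * hd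
  have hex : ∀ w, Perp h e f w → ∃ w', Perp h e f w' ∧
      ∀ a (hw : Perp h e f w) (ha : a + σ a + h w w = 0), ∃ a' hw' ha',
        β (mkU h (hp.rq hh w a hw ha)) = mkU h (hp.rq hh w' a' hw' ha') := by
    intro w hw
    obtain ⟨w', a₀, hw', ha₀, h0⟩ := image_rq hh (p := p) h3 hp hβe hw (htr w)
    refine ⟨w', hw', fun a hwa ha => ?_⟩
    have ht : a - -d * h w w + σ (a - -d * h w w) + h (0 : V) 0 = 0 := by
      have := htr w
      simp only [map_sub, map_zero, add_zero]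
      linear_combination ha - this
    obtain ⟨t', ht', h1⟩ := image_rq_zero hh hp hβe ht
    obtain ⟨hc, e1⟩ := hp.rq_mul_eq hh (Perp.zero e f) ht hw (htr w)
    obtain ⟨hc', e2⟩ := hp.rq_mul_eq hh (Perp.zero e f) ht' hw' ha₀
    refine ⟨t' + a₀, hw', by simp at ht'; rw [map_add]; linear_combination ht' + ha₀, ?_⟩
    rw [← hp.rq_congr hh (hw := (Perp.zero e f).add hw) (ha := hc) (hw' := hwa) (ha' := ha)
      (zero_add w) (by simp), ← e1, image_mul h1 h0, e2]
    exact congrArg _ (hp.rq_congr hh (zero_add w') (by simp))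
  choose! φ hφP hφ using hex
  refine ⟨φ, fun w hw => ⟨hφP w hw, hφ w hw⟩, ?_, ?_, ?_⟩
  · intro w w' hw hw'
    obtain ⟨hc, e1⟩ := hp.rq_mul_eq hh hw (htr w) hw' (htr w')
    obtain ⟨a₁, hb₁, ha₁, e2⟩ := hφ w hw _ hw (htr w)
    obtain ⟨a₂, hb₂, ha₂, e3⟩ := hφ w' hw' _ hw' (htr w')
    obtain ⟨a₃, hb₃, ha₃, e4⟩ := hφ _ (hw.add hw') _ (hw.add hw') hc
    obtain ⟨hc', e5⟩ := hp.rq_mul_eq hh hb₁ ha₁ hb₂ ha₂
    rw [← e1, image_mul e2 e3, e5] at e4
    exact (rq_mk_inj (p := p) hh h3 hp hβe e4).1.symm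
  · intro w hw h0
    obtain ⟨a₁, hb₁, ha₁, e2⟩ := hφ w hw _ hw (htr w)
    have ha₁' : a₁ + σ a₁ + h (0 : V) 0 = 0 := by simpa [h0] using ha₁
    rw [hp.rq_congr hh (hw' := Perp.zero e f) (ha' := ha₁') h0 rfl] at e2
    obtain ⟨a', ha', e3⟩ := image_rq_zero hh hp (symm_image hβe hβe) ha₁'
    rw [← e2, MulEquiv.symm_apply_apply] at e3
    exact (rq_mk_inj (p := p) hh h3 hp hβe e3).1
  · intro w' hw'
    obtain ⟨w, a, hw, ha, e1⟩ :=
      image_rq hh (p := p) h3 hp (symm_image hβe hβe) hw' (htr w')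
    refine ⟨w, hw, ?_⟩
    obtain ⟨a₁, hb₁, ha₁, e2⟩ := hφ w hw a hw ha
    rw [← e1, MulEquiv.apply_symm_apply] at e2
    exact (rq_mk_inj (p := p) hh h3 hp hβe e2).1.symm

include hβf

include p in
theorem levi_lift {g : SUH h} {l : F} (hg : IsLevi e f g l) :
    ∃ g' l', l' ≠ 0 ∧ IsLevi e f g' l' ∧ β (mkU h g) = mkU h g' := by
  obtain ⟨g', hg'⟩ := QuotientGroup.mk'_surjective (Subgroup.center (SUH h)) (β (mkU h g))
  have hZ := center_pelt (p := p) hh h3
  have hp' : Pair h f e := ⟨hp.ff, hp.ee, hp.fe hh⟩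
  have h1 : mkU h g' ∈ nb h e := hg' ▸ (image_mem_nb hβe).2 ((mem_nb_iff hh hZ hp).2 ⟨l, hg.1⟩)
  have h2 : mkU h g' ∈ nb h f := hg' ▸ (image_mem_nb hβf).2 ((mem_nb_iff hh hZ hp').2 ⟨_, hg.2⟩)
  obtain ⟨l', hl'⟩ :=
    (hp.isLevi_iff hh).2 ⟨(mem_nb_iff hh hZ hp).1 h1, (mem_nb_iff hh hZ hp').1 h2⟩
  exact ⟨g', l', hp.ne_zero_of_smul hh hl'.1, hl', hg'.symm⟩

include p in
theorem phi_levi {φ : V → V} (hφ : IsPhi β hp hh φ) {g g' : SUH h} {l l' : F} (hl : l ≠ 0)
    (hl' : l' ≠ 0) (hg : IsLevi e f g l) (hg' : IsLevi e f g' l')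
    (hgg : β (mkU h g) = mkU h g') {w : V} {a a' : F} (hw : Perp h e f w)
    (ha : a + σ a + h w w = 0) {hw' : Perp h e f (φ w)} {ha' : a' + σ a' + h (φ w) (φ w) = 0}
    (he : β (mkU h (hp.rq hh w a hw ha)) = mkU h (hp.rq hh (φ w) a' hw' ha')) :
    φ (σ l • g • w) = σ l' • g' • φ w ∧ ∃ hb hc hd he',
      β (mkU h (hp.rq hh (σ l • g • w) (σ l * l * a) hb hc)) =
        mkU h (hp.rq hh (σ l' • g' • φ w) (σ l' * l' * a') hd he') := by
  obtain ⟨hc, e1⟩ := hp.conj_rq hh hg hl hw ha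
  obtain ⟨he', e2⟩ := hp.conj_rq hh hg' hl' hw' ha'
  have key : β (mkU h (hp.rq hh (σ l • g • w) (σ l * l * a) ((hg.perp hl hw).smul _) hc)) =
      mkU h (hp.rq hh (σ l' • g' • φ w) (σ l' * l' * a') ((hg'.perp hl' hw').smul _) he') := by
    rw [← e1, ← e2]
    simp only [map_mul, map_inv, he, hgg]
  refine ⟨?_, _, hc, _, he', key⟩
  obtain ⟨a₁, hb₁, ha₁, e3⟩ := (hφ _ ((hg.perp hl hw).smul _)).2 _ ((hg.perp hl hw).smul _) hc
  rw [key] at e3
  exact (rq_mk_inj (p := p) hh h3 hp hβe e3).1.symm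

include hF hσ hsmall

include p in
/-- The map on the orthogonal is a semilinear similitude. -/
theorem phi_semilinear {φ : V → V} (hφ : IsPhi β hp hh φ)
    (hadd : ∀ w w', Perp h e f w → Perp h e f w' → φ (w + w') = φ w + φ w')
    (hinj : ∀ w, Perp h e f w → φ w = 0 → w = 0)
    (hsurj : ∀ w', Perp h e f w' → ∃ w, Perp h e f w ∧ φ w = w') :
    ∃ τ : F ≃+* F, ∃ c : F, c ≠ 0 ∧ σ c = c ∧
      (∀ (s : F) w, Perp h e f w → φ (s • w) = τ s • φ w) ∧
      ∀ w w', Perp h e f w → Perp h e f w' → h (φ w) (φ w') = c * τ (h w w') := by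
  classical
  obtain ⟨d, hd⟩ := hh.exists_trace_one
  have htr : ∀ w : V, -d * h w w + σ (-d * h w w) + h w w = 0 := fun w => by
    rw [map_mul, map_neg, hh.σ_self]; linear_combination -(h w w) * hd
  have hφ0 : φ 0 = 0 := by
    have := hadd 0 0 (Perp.zero e f) (Perp.zero e f)
    rw [add_zero] at this
    simpa using this
  have hφinj : ∀ w w', Perp h e f w → Perp h e f w' → φ w = φ w' → w = w' := fun w w' hw hw' he =>
    sub_eq_zero.1 (hinj _ (hw.sub hw') (by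
      rw [← sub_eq_zero] at he
      rw [← he, eq_sub_iff_add_eq, ← hadd _ _ (hw.sub hw') hw', sub_add_cancel]))
  choose! ψ hψP hψ using hsurj
  have hψadd : ∀ w w', Perp h e f w → Perp h e f w' → ψ (w + w') = ψ w + ψ w' :=
    fun w w' hw hw' => hφinj _ _ (hψP _ (hw.add hw')) ((hψP _ hw).add (hψP _ hw'))
      (by rw [hψ _ (hw.add hw'), hadd _ _ (hψP _ hw) (hψP _ hw'), hψ _ hw, hψ _ hw'])
  obtain ⟨w₀, hw₀, hne₀⟩ := hp.exists_perp_ne_zero hh h3
  have hsc : ∀ α : F, ∃ α' : F, ∀ w, Perp h e f w → φ (α • w) = α' • φ w := by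
    intro α
    have hT := commutant_scalar hh hF hσ h3 hsmall hp (T := fun w => φ (α • ψ w))
      (fun w w' hw hw' => by
        show φ (α • ψ (w + w')) = _
        rw [hψadd w w' hw hw', smul_add, hadd _ _ ((hψP _ hw).smul α) ((hψP _ hw').smul α)])
      (fun w hw => (hφ _ ((hψP _ hw).smul α)).1)
      (fun g' l' hl' hg' w hw => by
        show φ (α • ψ (σ l' • g' • w)) = σ l' • g' • φ (α • ψ w)
        obtain ⟨g, l, hl, hg, hgg⟩ :=
          levi_lift hh (p := p) h3 hp (symm_image hβe hβe) (symm_image hβe hβf) hg'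
        have hgg' : β (mkU h g) = mkU h g' := by rw [← hgg, MulEquiv.apply_symm_apply]
        have hu := hψP _ hw
        have key : ∀ u, Perp h e f u → φ (σ l • g • u) = σ l' • g' • φ u := fun u hu => by
          obtain ⟨a₁, hb₁, ha₁, e3⟩ := (hφ u hu).2 _ hu (htr u)
          exact (phi_levi (p := p) hh h3 hp hβe hβf hφ hl hl' hg hg' hgg' hu (htr u) e3).1
        have hy := (hg'.perp hl' hw).smul (σ l')
        have h1 : ψ (σ l' • g' • w) = σ l • g • ψ w :=
          hφinj _ _ (hψP _ hy) ((hg.perp hl hu).smul _) (by rw [hψ _ hy, key _ hu, hψ _ hw])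
        rw [h1, ← key _ (hu.smul α), smul_comm g, smul_comm α])
    obtain ⟨α', hα'⟩ := hT
    refine ⟨α', fun w hw => ?_⟩
    have h1 := hα' _ (hφ w hw).1
    rwa [hφinj _ _ (hψP _ (hφ w hw).1) hw (hψ _ (hφ w hw).1)] at h1
  choose τ hτ using hsc
  have hne : φ w₀ ≠ 0 := fun e0 => hne₀ (by rw [hinj _ hw₀ e0]; simp)
  have huniq : ∀ a b : F, a • φ w₀ = b • φ w₀ → a = b := fun a b he =>
    smul_left_injective F hne he
  have hmul : ∀ a b, τ (a * b) = τ a * τ b := fun a b => huniq _ _ (by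
    rw [← hτ _ _ hw₀, mul_smul a b w₀, hτ a _ (hw₀.smul b), hτ b _ hw₀, smul_smul])
  have haddτ : ∀ a b, τ (a + b) = τ a + τ b := fun a b => huniq _ _ (by
    rw [← hτ _ _ hw₀, add_smul, hadd _ _ (hw₀.smul a) (hw₀.smul b), hτ a _ hw₀, hτ b _ hw₀,
      add_smul])
  have hone : τ 1 = 1 := huniq _ _ (by rw [← hτ _ _ hw₀, one_smul, one_smul])
  let τ₀ : F →+* F := RingHom.mk' ⟨⟨τ, hone⟩, hmul⟩ haddτ
  let τ' : F ≃+* F :=
    RingEquiv.ofBijective τ₀ ⟨τ₀.injective, Finite.injective_iff_surjective.1 τ₀.injective⟩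
  have hτσ : ∀ a, τ' (σ a) = σ (τ' a) := fun a => by rw [hσ, hσ, map_pow]
  have hτs : ∀ a, τ'.symm (σ a) = σ (τ'.symm a) := fun a => by rw [hσ, hσ, map_pow]
  have hsl : ∀ (s : F) w, Perp h e f w → φ (s • w) = τ' s • φ w := fun s w hw => hτ s w hw
  -- commuting pairs
  have hcomm : ∀ w w', Perp h e f w → Perp h e f w' →
      σ (h w w') = h w w' → σ (h (φ w) (φ w')) = h (φ w) (φ w') := by
    intro w w' hw hw' he
    have hc := ((hp.rq_commute_iff hh hw (htr w) hw' (htr w')).2 he).map (mkU h)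
    obtain ⟨a₁, hb₁, ha₁, e1⟩ := (hφ w hw).2 _ hw (htr w)
    obtain ⟨a₂, hb₂, ha₂, e2⟩ := (hφ w' hw').2 _ hw' (htr w')
    have hc2 := hc.map β.toMonoidHom
    rw [MulEquiv.coe_toMonoidHom, e1, e2] at hc2
    exact (hp.rq_commute_iff hh hb₁ ha₁ hb₂ ha₂).1 (commute_of_mk (center_pelt (p := p) hh h3)
      (Pelt.of_mem (rootQ_isPGroup hh hp) ((mem_rootQ_iff hh hp).2 ⟨_, _, _, _, rfl⟩)) hc2)
  obtain ⟨s₀, hs₀⟩ := hh.ne_id
  set G : V → V → F := fun w w' => τ'.symm (h (φ w) (φ w')) with hG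
  have hGk : ∀ w w', Perp h e f w → Perp h e f w' → σ (h w w') = h w w' →
      σ (G w w') = G w w' := fun w w' hw hw' he => by
    simp only [hG]
    rw [← hτs, hcomm w w' hw hw' he]
  have hGsmul : ∀ (s : F) w w', Perp h e f w' → G w (s • w') = s * G w w' := fun s w w' hw' => by
    simp only [hG, hsl s w' hw', map_smul, smul_eq_mul, map_mul, RingEquiv.symm_apply_apply]
  have hGswap : ∀ w w', G w' w = σ (G w w') := fun w w' => by
    simp only [hG]
    rw [← hτs, ← hh.swap]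
  -- proportionality
  have hrow : ∀ w w₁ w', Perp h e f w → Perp h e f w₁ → Perp h e f w' → h w w₁ = 1 →
      G w w' = G w w₁ * h w w' := by
    intro w w₁ w' hw hw₁ hw' h1
    set u := w' - h w w' • w₁ with hu_def
    have hu : Perp h e f u := hw'.sub (hw₁.smul _)
    have h0 : h w u = 0 := by simp [hu_def, h1]
    have hz : G w u = 0 := by
      by_contra hne'
      have hk := hGk w ((s₀ / G w u) • u) hw (hu.smul _) (by rw [map_smul, h0]; simp)
      rw [hGsmul _ _ _ hu, div_mul_cancel₀ _ hne'] at hk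
      exact hs₀ hk
    have hsum : φ w' = φ u + φ (h w w' • w₁) := by
      rw [← hadd _ _ hu (hw₁.smul _), hu_def, sub_add_cancel]
    have : G w w' = G w u + G w (h w w' • w₁) := by
      simp only [hG]
      rw [hsum, map_add, map_add]
    rw [this, hz, hGsmul _ _ _ hw₁, zero_add, mul_comm]
  have hpart : ∀ w, Perp h e f w → w ≠ 0 → ∃ w₁, Perp h e f w₁ ∧ h w w₁ = 1 := by
    intro w hw hw0
    obtain ⟨z, hz⟩ := exists_h_ne_zero hh hw0
    refine ⟨(h w z)⁻¹ • proj h e f z, (hp.perp_proj hh z).smul _, ?_⟩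
    rw [map_smul, smul_eq_mul, show h w (proj h e f z) = h w z by
      simp [proj_apply, hh.comm_zero hw.1, hh.comm_zero hw.2], inv_mul_cancel₀ hz]
  have hw00 : w₀ ≠ 0 := fun e0 => hne₀ (by rw [e0]; simp)
  obtain ⟨w₀', hw₀', h00⟩ := hpart w₀ hw₀ hw00
  set c := G w₀ w₀' with hc_def
  have hck : σ c = c := hGk _ _ hw₀ hw₀' (by rw [h00, map_one])
  have hrow' : ∀ w w', Perp h e f w → Perp h e f w' → G w₀ w' = c * h w₀ w' →
      h w₀ w ≠ 0 → G w w' = c * h w w' := by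
    intro w w' hw hw' _ h0w
    have hw0 : w ≠ 0 := fun e0 => h0w (by rw [e0, map_zero])
    obtain ⟨w₁, hw₁, h11⟩ := hpart w hw hw0
    have e1 := hrow w₀ w₀' w hw₀ hw₀' hw h00
    have e2 := hrow w w₁ w₀ hw hw₁ hw₀ h11
    rw [hGswap w w₀] at e1
    have hk1 : σ (G w w₁) = G w w₁ := hGk _ _ hw hw₁ (by rw [h11, map_one])
    rw [e2, map_mul, hk1, ← hh.swap] at e1
    rw [hrow w w₁ w' hw hw₁ hw' h11, mul_right_cancel₀ h0w e1]
  have hall : ∀ w w', Perp h e f w → Perp h e f w' → G w w' = c * h w w' := by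
    intro w w' hw hw'
    by_cases h0w : h w₀ w = 0
    swap
    · exact hrow' w w' hw hw' (hrow w₀ w₀' w' hw₀ hw₀' hw' h00) h0w
    have e1 := hrow' (w + w₀') w' (hw.add hw₀') hw' (hrow w₀ w₀' w' hw₀ hw₀' hw' h00)
      (by rw [map_add, h0w, h00, zero_add]; exact one_ne_zero)
    have e2 := hrow' w₀' w' hw₀' hw' (hrow w₀ w₀' w' hw₀ hw₀' hw' h00)
      (by rw [h00]; exact one_ne_zero)
    simp only [hG] at e1 e2 ⊢
    rw [hadd _ _ hw hw₀', map_add, LinearMap.add_apply, map_add, e2, map_add, LinearMap.add_apply,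
      mul_add, add_left_inj] at e1
    exact e1
  have hc0 : c ≠ 0 := by
    intro e0
    refine hne (hh.sep _ fun y => ?_)
    have hP := (hφ _ hw₀).1
    have h1 := hall w₀ (ψ (proj h e f y)) hw₀ (hψP _ (hp.perp_proj hh y))
    simp only [hG, hψ _ (hp.perp_proj hh y)] at h1
    rw [e0, zero_mul, map_eq_zero_iff _ τ'.symm.injective] at h1
    rw [Pair.decomp (h := h) (e := e) (f := f) y]
    simp [hh.comm_zero hP.1, hh.comm_zero hP.2, h1]
  refine ⟨τ', τ' c, (map_ne_zero τ').2 hc0, by rw [← hτσ, hck], hsl, fun w w' hw hw' => ?_⟩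
  rw [← map_mul, ← hall w w' hw hw']
  simp [hG]

include p in
/-- The root group of `e` is moved as the similitude predicts. -/
theorem rq_image {φ : V → V} (hφ : IsPhi β hp hh φ)
    (hadd : ∀ w w', Perp h e f w → Perp h e f w' → φ (w + w') = φ w + φ w')
    {τ : F ≃+* F} {c : F} (hc0 : c ≠ 0) (hck : σ c = c)
    (hsl : ∀ (s : F) w, Perp h e f w → φ (s • w) = τ s • φ w)
    (hform : ∀ w w', Perp h e f w → Perp h e f w' → h (φ w) (φ w') = c * τ (h w w'))
    {w : V} {a : F} (hw : Perp h e f w) (ha : a + σ a + h w w = 0) :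
    ∃ hw' ha', β (mkU h (hp.rq hh w a hw ha)) = mkU h (hp.rq hh (φ w) (c * τ a) hw' ha') := by
  classical
  have hτσ : ∀ a, τ (σ a) = σ (τ a) := fun a => by rw [hσ, hσ, map_pow]
  have hφ0 : φ 0 = 0 := by rw [← zero_smul F (0 : V), hsl _ _ (Perp.zero e f), map_zero, zero_smul, zero_smul]
  have htarget : ∀ (w : V) (a : F), Perp h e f w → a + σ a + h w w = 0 →
      c * τ a + σ (c * τ a) + h (φ w) (φ w) = 0 := fun w a hw ha => by
    rw [map_mul, hck, ← hτσ, hform w w hw hw, ← mul_add, ← mul_add, ← map_add, ← map_add, ha,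
      map_zero, mul_zero]
  obtain ⟨d, hd⟩ := hh.exists_trace_one
  have htr : ∀ w : V, -d * h w w + σ (-d * h w w) + h w w = 0 := fun w => by
    rw [map_mul, map_neg, hh.σ_self]; linear_combination -(h w w) * hd
  obtain ⟨w₀, hw₀, hne₀⟩ := hp.exists_perp_ne_zero hh h3
  -- the centre
  have hX : ∀ (t : F) (ht : t + σ t + h (0 : V) 0 = 0), ∃ ht',
      β (mkU h (hp.rq hh 0 t (Perp.zero _ _) ht)) =
        mkU h (hp.rq hh 0 (c * τ t) (Perp.zero _ _) ht') := by
    intro t ht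
    have ht' : t + σ t = 0 := by simpa using ht
    set s := d * t / h w₀ w₀ with hs_def
    have hs : s - σ s = t / h w₀ w₀ := by
      rw [hs_def, map_div₀, map_mul, hh.σ_self, div_sub_div_same]
      congr 1
      linear_combination t * hd - σ d * ht'
    have h21 : h w₀ (s • w₀) - h (s • w₀) w₀ = t := by
      rw [map_smul, map_smulₛₗ, LinearMap.smul_apply, smul_eq_mul, smul_eq_mul, ← sub_mul, hs,
        div_mul_cancel₀ _ hne₀]
    have hwu := hw₀.smul s
    obtain ⟨a₁, hb₁, ha₁, e1⟩ := (hφ _ hwu).2 _ hwu (htr (s • w₀))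
    obtain ⟨a₂, hb₂, ha₂, e2⟩ := (hφ _ hw₀).2 _ hw₀ (htr w₀)
    obtain ⟨hc1, m1⟩ := hp.rq_mul_eq hh hwu (htr (s • w₀)) hw₀ (htr w₀)
    obtain ⟨hc2, m2⟩ := hp.rq_mul_eq hh hw₀ (htr w₀) hwu (htr (s • w₀))
    obtain ⟨hc3, m3⟩ := hp.rq_mul_eq hh (Perp.zero e f) ht (hw₀.add hwu) hc2
    obtain ⟨t', hct, e3⟩ := image_rq_zero hh hp hβe ht
    obtain ⟨hd1, n1⟩ := hp.rq_mul_eq hh hb₁ ha₁ hb₂ ha₂
    obtain ⟨hd2, n2⟩ := hp.rq_mul_eq hh hb₂ ha₂ hb₁ ha₁
    obtain ⟨hd3, n3⟩ := hp.rq_mul_eq hh (Perp.zero e f) hct (hb₂.add hb₁) hd2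
    have key : hp.rq hh (s • w₀) _ hwu (htr (s • w₀)) * hp.rq hh w₀ _ hw₀ (htr w₀) =
        hp.rq hh 0 t (Perp.zero _ _) ht *
          (hp.rq hh w₀ _ hw₀ (htr w₀) * hp.rq hh (s • w₀) _ hwu (htr (s • w₀))) := by
      rw [m1, m2, m3]
      exact hp.rq_congr hh (by abel) (by
        rw [map_zero, LinearMap.zero_apply, sub_zero]; linear_combination h21)
    have := (image_mul e1 e2).symm.trans
      ((congrArg (fun g => β (mkU h g)) key).trans (image_mul e3 (image_mul e2 e1)))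
    rw [n1, n2, n3] at this
    have e4 := (rq_mk_inj (p := p) hh h3 hp hβe this).2
    rw [map_zero, LinearMap.zero_apply, sub_zero, hform _ _ hwu hw₀, hform _ _ hw₀ hwu] at e4
    have : t' = c * τ t := by rw [← h21, map_sub]; linear_combination -e4
    subst this
    exact ⟨hct, e3⟩
  -- the correction
  have hA : ∀ w, Perp h e f w → ∃ A : F, ∃ hb ha', ∀ hw,
      β (mkU h (hp.rq hh w (-d * h w w) hw (htr w))) = mkU h (hp.rq hh (φ w) A hb ha') := fun w hw => by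
    obtain ⟨A, hb, ha', e1⟩ := (hφ w hw).2 _ hw (htr w)
    exact ⟨A, hb, ha', fun _ => e1⟩
  choose! A hAb hAc hAe using hA
  have hadd' : ∀ u v, Perp h e f u → Perp h e f v →
      A (u + v) - c * τ (-d * h (u + v) (u + v)) =
        (A u - c * τ (-d * h u u)) + (A v - c * τ (-d * h v v)) := by
    intro u v hu hv
    set t := -d * h u u + -d * h v v - h u v - -d * h (u + v) (u + v) with ht_def
    obtain ⟨hc1, m1⟩ := hp.rq_mul_eq hh hu (htr u) hv (htr v)
    have ht : t + σ t + h (0 : V) 0 = 0 := by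
      have := htr (u + v)
      simp only [ht_def, map_sub, map_add, map_zero, add_zero] at this hc1 ⊢
      linear_combination hc1 - this
    obtain ⟨hc2, m2⟩ := hp.rq_mul_eq hh (Perp.zero e f) ht (hu.add hv) (htr (u + v))
    obtain ⟨ht', e0⟩ := hX t ht
    obtain ⟨hd1, n1⟩ := hp.rq_mul_eq hh (hAb u hu) (hAc u hu) (hAb v hv) (hAc v hv)
    obtain ⟨hd2, n2⟩ := hp.rq_mul_eq hh (Perp.zero e f) ht' (hAb _ (hu.add hv)) (hAc _ (hu.add hv))
    have key : hp.rq hh u _ hu (htr u) * hp.rq hh v _ hv (htr v) =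
        hp.rq hh 0 t (Perp.zero _ _) ht * hp.rq hh (u + v) _ (hu.add hv) (htr (u + v)) := by
      rw [m1, m2]
      exact hp.rq_congr hh (zero_add _).symm (by
        rw [map_zero, LinearMap.zero_apply, sub_zero, ht_def]; ring)
    have := (image_mul (hAe u hu hu) (hAe v hv hv)).symm.trans
      ((congrArg (fun g => β (mkU h g)) key).trans (image_mul e0 (hAe _ (hu.add hv) (hu.add hv))))
    rw [n1, n2] at this
    have e4 := (rq_mk_inj (p := p) hh h3 hp hβe this).2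
    rw [map_zero, LinearMap.zero_apply, sub_zero, hform u v hu hv] at e4
    simp only [ht_def, map_sub, map_add τ] at e4
    linear_combination -e4
  have hequiv : ∀ (g : SUH h) (l : F), l ≠ 0 → IsLevi e f g l → ∀ w, Perp h e f w →
      A (σ l • g • w) - c * τ (-d * h (σ l • g • w) (σ l • g • w)) =
        τ (σ l * l) * (A w - c * τ (-d * h w w)) := by
    intro g l hl hg w hw
    obtain ⟨g', l', hl', hg', hgg⟩ := levi_lift hh (p := p) h3 hp hβe hβf hg
    -- the factor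
    obtain ⟨t, ht0, ht⟩ := hh.exists_skew
    have ht' : t + σ t + h (0 : V) 0 = 0 := by simp [ht]
    obtain ⟨hts, e0⟩ := hX t ht'
    obtain ⟨hc1, m1⟩ := hp.conj_rq hh hg hl (Perp.zero e f) ht'
    obtain ⟨hc2, m2⟩ := hp.conj_rq hh hg' hl' (Perp.zero e f) hts
    obtain ⟨hts', e0'⟩ := hX (σ l * l * t) (by simpa using hc1)
    have key := (image_mul (image_mul hgg e0) (image_inv hgg)).symm.trans
      (congrArg (fun g => β (mkU h g)) m1)
    rw [m2] at key
    rw [hp.rq_congr hh (hw' := Perp.zero e f) (ha' := by simpa using hc1) (show σ l • g • (0 : V) = 0 by simp)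
      rfl, e0'] at key
    have hN : σ l' * l' = τ (σ l * l) := by
      have := (rq_mk_inj (p := p) hh h3 hp hβe key).2
      rw [map_mul τ (σ l * l)] at this
      have hτt : c * τ t ≠ 0 := mul_ne_zero hc0 ((map_ne_zero τ).2 ht0)
      exact mul_right_cancel₀ hτt (this.trans (mul_left_comm _ _ _))
    obtain ⟨hφeq, hb, hcc, hd', he', e1⟩ := phi_levi (p := p) hh h3 hp hβe hβf hφ hl hl' hg hg' hgg
      hw (htr w) (hAe w hw hw)
    have hsame : -d * h (σ l • g • w) (σ l • g • w) = σ l * l * (-d * h w w) := by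
      simp only [map_smulₛₗ, LinearMap.smul_apply, smul_eq_mul, RingHom.id_apply, hh.invol,
        suh_smul_smul]
      ring
    have hy := (hg.perp hl hw).smul (σ l)
    have e2 := hAe _ hy hy
    rw [hp.rq_congr hh (hw' := hb) (ha' := hcc) rfl hsame, e1] at e2
    have e3 := (rq_mk_inj (p := p) hh h3 hp hβe e2).2
    rw [hsame, map_mul τ (σ l * l), ← e3, hN]
    ring
  have hτs : ∀ a, τ.symm (σ a) = σ (τ.symm a) := fun a => by rw [hσ, hσ, map_pow]
  have hzero := equivariant_zero hh hF hσ h3 hsmall hp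
    (χ := fun w => τ.symm (A w - c * τ (-d * h w w)))
    (fun u v hu hv => by
      show τ.symm _ = τ.symm _ + τ.symm _
      rw [hadd' u v hu hv, map_add])
    (fun g l hl hg w hw => by
      show τ.symm _ = _ * τ.symm _
      rw [hequiv g l hl hg w hw, map_mul, RingEquiv.symm_apply_apply])
  have hAeq : A w = c * τ (-d * h w w) := sub_eq_zero.1 (τ.symm.injective (by
    rw [map_zero]; exact hzero w hw))
  -- shift by the centre
  have ht : a - -d * h w w + σ (a - -d * h w w) + h (0 : V) 0 = 0 := by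
    have := htr w
    simp only [map_sub, map_zero, add_zero]
    linear_combination ha - this
  obtain ⟨ht', e0⟩ := hX _ ht
  obtain ⟨hc1, m1⟩ := hp.rq_mul_eq hh (Perp.zero e f) ht hw (htr w)
  obtain ⟨hc2, m2⟩ := hp.rq_mul_eq hh (Perp.zero e f) ht' (hAb w hw) (hAc w hw)
  refine ⟨(hφ w hw).1, htarget w a hw ha, ?_⟩
  rw [← hp.rq_congr hh (hw := (Perp.zero e f).add hw) (ha := hc1) (hw' := hw) (ha' := ha)
    (zero_add w) (by simp), ← m1, image_mul e0 (hAe w hw hw), m2]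
  exact congrArg _ (hp.rq_congr hh (zero_add _) (by
    rw [hAeq, map_zero, LinearMap.zero_apply, sub_zero, ← mul_add, ← map_add, sub_add_cancel]))

include p in
/-- An automorphism fixing two non-orthogonal points is induced by a semilinear map. -/
theorem exists_twist_map : ∃ (Ψ : V → V) (τ : F ≃+* F),
    (∀ x y, Ψ (x + y) = Ψ x + Ψ y) ∧ (∀ (a : F) x, Ψ (a • x) = τ a • Ψ x) ∧
    (∀ x y, h (Ψ x) (Ψ y) = τ (h x y)) ∧ ∀ s, Twisted β Ψ s := by
  have hZ := center_pelt (p := p) hh h3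
  obtain ⟨φ, hφ, hadd, hinj, hsurj⟩ := exists_phi hh (p := p) h3 hp hβe
  obtain ⟨τ, c, hc0, hck, hsl, hform⟩ :=
    phi_semilinear (p := p) hh hF hσ h3 hsmall hp hβe hβf hφ hadd hinj hsurj
  obtain ⟨l, hl⟩ := hh.exists_norm_eq hck
  have hl0 : l ≠ 0 := fun e0 => hc0 (by rw [← hl, e0, mul_zero])
  have hσl : σ l ≠ 0 := (map_ne_zero σ).2 hl0
  have hτσ : ∀ a, τ (σ a) = σ (τ a) := fun a => by rw [hσ, hσ, map_pow]
  have hφ0 : φ 0 = 0 := by
    rw [← zero_smul F (0 : V), hsl _ _ (Perp.zero e f), map_zero, zero_smul, zero_smul]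
  let Ψ : V → V := fun x =>
    (τ (h f x) * l) • e + (τ (h e x) / σ l) • f + (σ l)⁻¹ • φ (proj h e f x)
  have hP : ∀ x, Perp h e f (φ (proj h e f x)) := fun x => (hφ _ (hp.perp_proj hh x)).1
  have hΨadd : ∀ x y, Ψ (x + y) = Ψ x + Ψ y := fun x y => by
    simp only [Ψ, map_add, hadd _ _ (hp.perp_proj hh x) (hp.perp_proj hh y), add_mul, add_div,
      add_smul, smul_add]
    abel
  have hΨsmul : ∀ (a : F) x, Ψ (a • x) = τ a • Ψ x := fun a x => by
    simp only [Ψ, map_smul, smul_eq_mul, map_mul, hsl a _ (hp.perp_proj hh x), smul_add, smul_smul,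
      mul_assoc, mul_div_assoc, mul_comm (σ l)⁻¹ (τ a)]
  have hes : ∀ x, h e (Ψ x) = τ (h e x) / σ l := fun x => by
    simp [Ψ, hp.ee, hp.ef, (hP x).1]
  have hfs : ∀ x, h f (Ψ x) = τ (h f x) * l := fun x => by
    simp [Ψ, hp.ff, hp.fe hh, (hP x).2]
  have hform' : ∀ x y, h (Ψ x) (Ψ y) = τ (h x y) := fun x y => by
    have h1 := hform _ _ (hp.perp_proj hh x) (hp.perp_proj hh y)
    rw [← hl] at h1
    have h2 : h x y = σ (h f x) * h e y + σ (h e x) * h f y +
        h (proj h e f x) (proj h e f y) := by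
      conv_lhs => rw [Pair.decomp (h := h) (e := e) (f := f) x,
        Pair.decomp (h := h) (e := e) (f := f) y]
      simp [hh.comm_zero (hp.perp_proj hh x).1, hh.comm_zero (hp.perp_proj hh x).2,
        (hp.perp_proj hh y).1, (hp.perp_proj hh y).2, hp.ee, hp.ff, hp.ef, hp.fe hh]
    rw [h2]
    simp only [Ψ, map_add, map_smulₛₗ, LinearMap.add_apply, LinearMap.smul_apply, smul_eq_mul,
      RingHom.id_apply, hp.ee, hp.ff, hp.ef, hp.fe hh, (hP y).1, (hP y).2,
      hh.comm_zero (hP x).1, hh.comm_zero (hP x).2, map_mul, map_div₀, map_inv₀, hh.invol, h1,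
      hτσ, mul_zero, add_zero, zero_add, mul_one]
    field_simp
    ring
  have hH : ∀ {w : V} {a : F} (hw : Perp h e f w) (ha : a + σ a + h w w = 0),
      hp.rq hh w a hw ha ∈ twistedSub β Ψ := by
    intro w a hw ha
    obtain ⟨hw', ha', e1⟩ :=
      rq_image (p := p) hh hF hσ h3 hsmall hp hβe hβf hφ hadd hc0 hck hsl hform hw ha
    refine ⟨_, fun x => ?_, e1⟩
    have hpart : h (φ w) (Ψ x) = l * τ (h w x) := by
      have h1 := hform _ _ hw (hp.perp_proj hh x)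
      have h2 : h w (proj h e f x) = h w x := by
        simp [proj_apply, hh.comm_zero hw.1, hh.comm_zero hw.2]
      simp only [Ψ, map_add, map_smul, smul_eq_mul, hh.comm_zero hw'.1, hh.comm_zero hw'.2, h1,
        h2, mul_zero, zero_add, ← hl]
      field_simp
    have hΨe : Ψ e = l • e := by
      simp [Ψ, proj_apply, hp.ee, hp.fe hh, hφ0]
    have hΨw : Ψ w = (σ l)⁻¹ • φ w := by
      simp [Ψ, Pair.proj_of_perp hw, hw.1, hw.2]
    rw [Pair.rq_smul hh hp, Pair.rq_smul hh hp, hΨadd, hΨadd, hΨsmul, hΨsmul, hΨe, hΨw, hes, hpart,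
      map_sub, map_mul, ← hl]
    match_scalars <;> field_simp
  have hp' : Pair h f e := ⟨hp.ff, hp.ee, hp.fe hh⟩
  have hΨf : Ψ f = (σ l)⁻¹ • f := by
    simp [Ψ, proj_apply, hp.ff, hp.ef, hφ0]
  have hΨe : Ψ e = l • e := by
    simp [Ψ, proj_apply, hp.ee, hp.fe hh, hφ0]
  -- a vector pairing to one with `e` is a translate of `f`
  have hmove : ∀ u, h u u = 0 → h e u = 1 → ∃ g ∈ twistedSub β Ψ, g • f = u ∧
      β '' xb h u = xb h (Ψ u) := by
    intro u hu heu
    have hd : u = h f u • e + f + proj h e f u := by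
      conv_lhs => rw [Pair.decomp (h := h) (e := e) (f := f) u, heu, one_smul]
    have hPu := hp.perp_proj hh u
    have ha : h f u + σ (h f u) + h (proj h e f u) (proj h e f u) = 0 := by
      have := hu
      rw [hd] at this
      generalize proj h e f u = v at this hPu ⊢
      generalize h f u = k at this ⊢
      simp [hp.ee, hp.ff, hp.ef, hp.fe hh, hPu.1, hPu.2, hh.comm_zero hPu.1,
        hh.comm_zero hPu.2] at this
      linear_combination this
    have hgf : hp.rq hh _ _ hPu ha • f = u := by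
      rw [hp.rq_f hh]
      conv_rhs => rw [hd]
      abel
    obtain ⟨g', hg', e1⟩ := hH hPu ha
    refine ⟨_, hH hPu ha, hgf, ?_⟩
    have h1 : g' • f = σ l • Ψ u := by
      have := hg' f
      rw [hgf, hΨf, smul_comm g'] at this
      rw [← this, smul_inv_smul₀ hσl]
    conv_lhs => rw [← hgf, ← xb_conj hh, Set.image_image]
    simp only [MulAut.conj_apply, map_mul, map_inv, e1]
    rw [← xb_smul hh hσl (Ψ u), ← h1, ← xb_conj hh]
    conv_rhs => rw [← hβf, Set.image_image]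
    simp
  have himg : ∀ u, h u u = 0 → h e u ≠ 0 → β '' xb h u = xb h (Ψ u) := by
    intro u hu hk
    obtain ⟨g, -, -, h1⟩ := hmove ((h e u)⁻¹ • u) (by simp [hu]) (by simp [hk])
    rwa [xb_smul hh (inv_ne_zero hk), hΨsmul, xb_smul hh] at h1
    exact (map_ne_zero τ).2 (inv_ne_zero hk)
  have hXf : ∀ g ∈ xs h f, g ∈ twistedSub β Ψ := by
    intro g hg
    obtain ⟨a, ha, rfl⟩ := (xs_eq hh hp').1 hg
    by_cases ha0 : a = 0
    · convert one_mem (twistedSub β Ψ)
      exact SUH.ext' fun x => by simp [Pair.rq_smul hh hp', ha0]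
    have ha' : τ a / c + σ (τ a / c) + h (0 : V) 0 = 0 := by
      have h1 : a + σ a = 0 := by simpa using ha
      rw [map_div₀, hck, ← hτσ, map_zero, add_zero, ← add_div, ← map_add, h1, map_zero, zero_div]
    refine ⟨hp'.rq hh 0 (τ a / c) (Perp.zero _ _) ha', fun x => ?_, ?_⟩
    · rw [Pair.rq_smul hh hp', Pair.rq_smul hh hp']
      simp only [smul_zero, add_zero, map_zero, LinearMap.zero_apply, sub_zero, hΨadd, hΨsmul, hΨf,
        hfs, map_mul, ← hl]
      match_scalars <;> field_simp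
    · have h1 : β (mkU h (hp'.rq hh 0 a (Perp.zero _ _) ha)) ∈ xb h f :=
        hβf ▸ ⟨_, ⟨_, hg, rfl⟩, rfl⟩
      obtain ⟨k, hk, hke⟩ := h1
      obtain ⟨a', ha'', rfl⟩ := (xs_eq hh hp').1 hk
      have hge : ∀ (b : F) hb, hp'.rq hh 0 b (Perp.zero _ _) hb • e = e + b • f := fun b hb => by
        rw [hp'.rq_f hh, add_zero]
      have h2 : β '' xb h (e + a • f) = xb h (e + a' • f) := by
        rw [← hge a ha, ← hge a' ha'', ← xb_conj hh, ← xb_conj hh, Set.image_image]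
        conv_rhs => rw [← hβe, Set.image_image]
        simp [hke]
      have hiso : ∀ b : F, b + σ b + h (0 : V) 0 = 0 → h (e + b • f) (e + b • f) = 0 :=
        fun b hb => by rw [← hge b hb, suh_smul_smul, hp.ee]
      rw [himg _ (hiso a ha) (by simp [hp.ee, hp.ef, ha0])] at h2
      have hne : Ψ (e + a • f) ≠ 0 := fun e0 => by
        have := hes (e + a • f)
        rw [e0, map_zero] at this
        simp [hp.ee, hp.ef] at this
        exact div_ne_zero ((map_ne_zero τ).2 ha0) hσl this.symm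
      obtain ⟨k, hk⟩ := line_of_xb_subset hh hZ hne
        (by rw [hform', hiso a ha, map_zero]) (hiso a' ha'') h2.le
      have hk1 := congrArg (h f) hk
      have hk2 := congrArg (h e) hk
      simp [hfs, hes, hp.ee, hp.ff, hp.ef, hp.fe hh] at hk1 hk2
      rw [← hke]
      refine congrArg _ (hp'.rq_congr hh rfl ?_)
      rw [← hl, eq_div_iff (mul_ne_zero hσl hl0)]
      rw [← hk1] at hk2
      field_simp at hk2
      linear_combination -hk2
  refine ⟨Ψ, τ, hΨadd, hΨsmul, hform', fun s => ?_⟩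
  have hconj : ∀ g ∈ twistedSub β Ψ, ∀ u, xs h u ⊆ twistedSub β Ψ →
      xs h (g • u) ⊆ twistedSub β Ψ := by
    intro g hg u hu
    rw [← xs_conj hh]
    rintro _ ⟨x, hx, rfl⟩
    exact mul_mem (mul_mem hg (hu hx)) (inv_mem hg)
  have hnon : ∀ u, h u u = 0 → h e u ≠ 0 → xs h u ⊆ twistedSub β Ψ := by
    intro u hu hk
    obtain ⟨g, hg, hgf, -⟩ := hmove ((h e u)⁻¹ • u) (by simp [hu]) (by simp [hk])
    have hu' : g • (h e u • f) = u := by rw [smul_comm g, hgf, smul_inv_smul₀ hk]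
    rw [← hu']
    refine hconj g hg _ fun x hx => hXf x ?_
    obtain ⟨a, ha, hx⟩ := hx
    refine ⟨σ (h e u) * h e u * a, ?_, fun y => ?_⟩
    · rw [map_mul, map_mul, hh.invol]; linear_combination σ (h e u) * h e u * ha
    · rw [hx, map_smulₛₗ, LinearMap.smul_apply, smul_smul]
      congr 2
      simp only [smul_eq_mul]
      ring
  suffices htop : twistedSub β Ψ = ⊤ by
    show s ∈ twistedSub β Ψ
    rw [htop]
    exact Subgroup.mem_top s
  rw [eq_top_iff, ← closure_xs hh hF hσ h3 hsmall, Subgroup.closure_le]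
  intro x hx
  obtain ⟨v, ⟨hv0, hv⟩, hxv⟩ := Set.mem_iUnion₂.1 hx
  by_cases hev : h e v = 0
  swap
  · exact hnon v hv hev hxv
  obtain ⟨z, hz, hez, hvz⟩ := unitary_exists_nonorth hh hp.e_ne hv0 hp.ee hv
  obtain ⟨z', hzp⟩ := exists_pair hh (show z ≠ 0 by rintro rfl; simp at hez) hz
  obtain ⟨t, ht0, ht⟩ := hh.exists_skew
  have ht' : t + σ t + h (0 : V) 0 = 0 := by simp [ht]
  set r := hzp.rq hh 0 t (Perp.zero _ _) ht'
  have hr : r ∈ twistedSub β Ψ := hnon z hz hez ((xs_eq hh hzp).2 ⟨t, ht', rfl⟩)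
  have hzv : h z v ≠ 0 := fun e0 => hvz (hh.comm_zero e0)
  have hrv := hnon (r • v) (by rw [suh_smul_smul, hv])
    (by simp [r, Pair.rq_smul hh hzp, hev, hez, hzv, ht0])
  have := hconj r⁻¹ (inv_mem hr) _ hrv
  rw [inv_smul_smul] at this
  exact this hxv

omit hp hβe hβf in
include p in
/-- Every automorphism of `SU / Z` is induced by a semilinear similitude. -/
theorem exists_semilinear (β : MulAut (SUH h ⧸ Subgroup.center (SUH h))) :
    ∃ (Ψ : V → V) (τ : F ≃+* F),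
      (∀ x y, Ψ (x + y) = Ψ x + Ψ y) ∧ (∀ (a : F) x, Ψ (a • x) = τ a • Ψ x) ∧
      (∀ x y, h (Ψ x) (Ψ y) = τ (h x y)) ∧ ∀ s, Twisted β Ψ s := by
  have hZ := center_pelt (p := p) hh h3
  obtain ⟨e, he0, he⟩ := exists_isotropic hh h3
  obtain ⟨f, hp⟩ := exists_pair hh he0 he
  have hp' : Pair h f e := ⟨hp.ff, hp.ee, hp.fe hh⟩
  obtain ⟨e', he'0, he', hie⟩ := exists_image_xb hh hZ hp β
  obtain ⟨f', hf'0, hf', hif⟩ := exists_image_xb hh hZ hp' β
  have hb : h e' f' ≠ 0 := by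
    intro h0
    obtain ⟨x, hx, y, hy, hxy⟩ :=
      exists_noncomm hh hZ (p := p) hp.ee hp.ff (by rw [hp.ef]; exact one_ne_zero)
    refine hxy ?_
    obtain ⟨x', hx', hxe⟩ : β x ∈ xb h e' := hie ▸ ⟨x, hx, rfl⟩
    obtain ⟨y', hy', hye⟩ : β y ∈ xb h f' := hif ▸ ⟨y, hy, rfl⟩
    apply β.injective
    rw [map_mul, map_mul, ← hxe, ← hye, ← map_mul, ← map_mul, xs_commute hh h0 hx' hy']
  obtain ⟨g, hg, hge, hgf⟩ := uRoot_trans_pair hh h3 he' (show h ((h e' f')⁻¹ • f') ((h e' f')⁻¹ • f') = 0 by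
    simp [hf']) hp.ee hp.ff (by simp [hb]) hp.ef
  rw [← SUH_eq_uRootGroup hh h3] at hg
  set k : SUH h := ⟨g, hg⟩
  have hke : k • e' = e := hge
  have hkf : k • ((h e' f')⁻¹ • f') = f := hgf
  set β₂ : MulAut (SUH h ⧸ Subgroup.center (SUH h)) := MulAut.conj (mkU h k) * β with hβ₂
  have h1 : ⇑β₂ '' xb h e = xb h e := by
    rw [hβ₂, MulAut.coe_mul, Set.image_comp, hie, xb_conj hh, hke]
  have h2 : ⇑β₂ '' xb h f = xb h f := by
    rw [hβ₂, MulAut.coe_mul, Set.image_comp, hif, ← xb_smul hh (inv_ne_zero hb) f', xb_conj hh, hkf]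
  obtain ⟨Ψ, τ, hadd, hsmul, hform, hall⟩ :=
    exists_twist_map (p := p) hh hF hσ h3 hsmall hp h1 h2
  refine ⟨fun x => k⁻¹ • Ψ x, τ, fun x y => by simp only [hadd, smul_add],
    fun a x => by simp only [hsmul]; rw [smul_comm], fun x y => by rw [suh_smul_smul, hform], fun s => ?_⟩
  obtain ⟨s', hs', e1⟩ := hall s
  refine ⟨k⁻¹ * s' * k, fun x => by rw [mul_smul, mul_smul, smul_inv_smul, hs'], ?_⟩
  rw [hβ₂, MulAut.mul_apply, MulAut.conj_apply] at e1
  rw [map_mul, map_mul, map_inv, ← e1]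
  group

end Cfsg.Agent.AutPSU
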