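import Cfsg.Agent.Lib.AutPSU.Basic
import Cfsg.Agent.Lib.AutPSU.Semilinear

/-!
`Aut PSU_n(q) = PΓU_n(q)` for `n ≥ 3`, `(n, q) ≠ (3, 2)`.
-/

set_option autoImplicit false

open Matrix

namespace Cfsg.Agent.AutPSU

open Cfsg.Agent.ClassicalSimple

variable {n : ℕ} {F : Type*} [Field F] [Fintype F] {q : ℕ}

/-- Every automorphism of `PSU_n(q)` is `conjU g * fieldU τ`. -/
theorem exists_decomposition (hF : Fintype.card F = q ^ 2) (hn : 3 ≤ n)
    (hs : ¬ (n = 3 ∧ q = 2)) (β : MulAut (Cfsg.PSU n F q)) :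
    ∃ (g : Cfsg.GU n F q) (τ : F ≃+* F), β = conjU g * fieldU τ := by
  classical
  obtain ⟨p, hp⟩ := CharP.exists F
  have : Fact p.Prime := ⟨CharP.char_is_prime F p⟩
  have hfr : Module.finrank F (Fin n → F) = n := by simp
  let e := centerQuotientCongr (suEquiv hF (n := n))
  obtain ⟨Ψ, τ, hadd, hsmul, hform, hall⟩ :=
    exists_semilinear (p := p) (hermB_isUnitary hF) hF (Forms.qEnd_apply hF) (by rw [hfr]; exact hn)
      (by rw [hfr]; exact hs) ((e.symm.trans β).trans e)
  let T : (Fin n → F) →ₗ[F] (Fin n → F) :=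
    { toFun := fun x => Ψ (τ.symm ∘ x)
      map_add' := fun x y => by
        rw [← hadd]
        congr 1
        funext i
        simp
      map_smul' := fun a x => by
        rw [RingHom.id_apply]
        conv_rhs => rw [← τ.apply_symm_apply a, ← hsmul]
        congr 1
        funext i
        simp }
  set M := LinearMap.toMatrix' T with hM
  have hMx : ∀ x, M *ᵥ (τ ∘ x) = Ψ x := fun x => by
    rw [hM, LinearMap.toMatrix'_mulVec]
    show Ψ (τ.symm ∘ (τ ∘ x)) = Ψ x
    congr 1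
    funext i
    simp
  have hMh : ∀ u v, hermForm n F q (M *ᵥ u) (M *ᵥ v) = hermForm n F q u v := by
    intro u v
    have hh : ∀ u v : Fin n → F, hermForm n F q (τ ∘ u) (τ ∘ v) = τ (hermForm n F q u v) := by
      intro u v
      simp [hermForm, map_sum]
    obtain ⟨u', rfl⟩ : ∃ u', u = τ ∘ u' := ⟨τ.symm ∘ u, by funext i; simp⟩
    obtain ⟨v', rfl⟩ : ∃ v', v = τ ∘ v' := ⟨τ.symm ∘ v, by funext i; simp⟩
    rw [hMx, hMx, hh]
    exact (Forms.hermB_apply hF _ _).symm.trans ((hform v' u').trans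
      (congrArg τ (Forms.hermB_apply hF _ _)))
  have hdet : M.det ≠ 0 := by
    rw [← isUnit_iff_ne_zero, ← Matrix.isUnit_iff_isUnit_det, ← Matrix.mulVec_injective_iff_isUnit]
    intro x y hxy
    rw [← sub_eq_zero]
    refine (hermB_isUnitary hF (n := n)).sep _ fun z => ?_
    rw [Forms.hermB_apply, ← hMh, Matrix.mulVec_sub, hxy, sub_self]
    simp [hermForm, zero_pow (show q ≠ 0 by have := Forms.one_lt_q hF; omega)]
  let g : Cfsg.GU n F q := ⟨Matrix.GeneralLinearGroup.mkOfDetNeZero M hdet, hMh⟩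
  refine ⟨g, τ, MulEquiv.ext fun x => ?_⟩
  induction x using QuotientGroup.induction_on with
  | _ s =>
    obtain ⟨k, hk, he⟩ := hall (suEquiv hF s)
    obtain ⟨s', rfl⟩ := (suEquiv hF (n := n)).surjective k
    have h1 : β (QuotientGroup.mk s) = QuotientGroup.mk s' := by
      apply e.injective
      have he' : e (β (e.symm (e (QuotientGroup.mk s)))) = e (QuotientGroup.mk s') := he
      rwa [MulEquiv.symm_apply_apply] at he'
    rw [h1, MulAut.mul_apply, fieldU_mk, conjU_mk]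
    refine congrArg _ (su_ext ?_)
    rw [conjSU_coe, fieldSU_coe]
    show s'.1.1 = M * s.1.1.map τ * ((g : GL (Fin n) F)⁻¹ : GL (Fin n) F).val
    have h2 : s'.1.1 * M = M * s.1.1.map τ := by
      refine Matrix.toLin'.injective (LinearMap.ext fun x => ?_)
      obtain ⟨x', rfl⟩ : ∃ x', x = τ ∘ x' := ⟨τ.symm ∘ x, by funext i; simp⟩
      rw [Matrix.toLin'_apply, Matrix.toLin'_apply, ← Matrix.mulVec_mulVec, hMx,
        ← suEquiv_smul hF, hk, suEquiv_smul, ← hMx, ← Matrix.mulVec_mulVec]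
      congr 1
      funext i
      exact RingHom.map_mulVec τ.toRingHom _ _ i
    rw [← h2, Matrix.mul_assoc]
    have h3 : M * ((g : GL (Fin n) F)⁻¹ : GL (Fin n) F).val = 1 := (g : GL (Fin n) F).mul_inv
    rw [h3, Matrix.mul_one]

end Cfsg.Agent.AutPSU
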