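import Cfsg.Agent.Lib.AutPSU.Levi

/-!
Transvection groups in `SU / Z`: they are the centres of the Sylow `p`-subgroups, so automorphisms
permute them; the root group of a point is the largest normal `p`-subgroup of its stabiliser.
-/

set_option autoImplicit false
set_option linter.unusedSectionVars false
set_option linter.style.haveILetI false

namespace Cfsg.Agent.AutPSU

open Cfsg.Agent.ClassicalSimple

/-! ### Lifting `p`-subgroups along a quotient by a central subgroup -/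

section Lift

variable {G : Type*} [Group G] (p : ℕ)

/-- `g` has `p`-power order. -/
def Pelt (g : G) : Prop := ∃ k : ℕ, g ^ p ^ k = 1

variable {p}

theorem Pelt.conj {g : G} (hg : Pelt p g) (x : G) : Pelt p (x * g * x⁻¹) := by
  obtain ⟨k, hk⟩ := hg
  exact ⟨k, by rw [conj_pow, hk, mul_one, mul_inv_cancel]⟩

theorem Pelt.of_mem {P : Subgroup G} (hP : IsPGroup p P) {g : G} (hg : g ∈ P) : Pelt p g := by
  obtain ⟨k, hk⟩ := hP ⟨g, hg⟩
  exact ⟨k, congrArg Subtype.val hk⟩

variable (hZ : ∀ z ∈ Subgroup.center G, Pelt p z → z = 1)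
include hZ

theorem eq_of_mk_eq {g g' : G} (hg : Pelt p g) (hg' : Pelt p g')
    (he : QuotientGroup.mk' (Subgroup.center G) g = QuotientGroup.mk' (Subgroup.center G) g') :
    g = g' := by
  obtain ⟨z, hz, rfl⟩ : ∃ z ∈ Subgroup.center G, g' = g * z :=
    ⟨g⁻¹ * g', QuotientGroup.eq.1 he, by group⟩
  obtain ⟨k, hk⟩ := hg
  obtain ⟨m, hm⟩ := hg'
  have hc : Commute g z := (Subgroup.mem_center_iff.1 hz g)
  have hz1 : z ^ p ^ (k + m) = 1 := by
    have h1 : (g * z) ^ p ^ (k + m) = 1 := by rw [pow_add, mul_comm, pow_mul, hm, one_pow]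
    have h2 : g ^ p ^ (k + m) = 1 := by rw [pow_add, pow_mul, hk, one_pow]
    rwa [hc.mul_pow, h2, one_mul] at h1
  rw [hZ z hz ⟨_, hz1⟩, mul_one]

theorem commute_of_mk {g g' : G} (hg' : Pelt p g')
    (he : Commute (QuotientGroup.mk' (Subgroup.center G) g) (QuotientGroup.mk' (Subgroup.center G) g')) :
    Commute g g' := by
  have := eq_of_mk_eq hZ (hg'.conj g) hg' (by
    rw [map_mul, map_mul, map_inv, he.eq, mul_inv_cancel_right])
  calc g * g' = g * g' * g⁻¹ * g := (inv_mul_cancel_right _ _).symm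
    _ = g' * g := by rw [this]

/-- A `p`-subgroup of the quotient lifts to the `p`-elements over it. -/
theorem exists_pgroup_lift [Finite G] [Fact p.Prime] {R : Subgroup (G ⧸ Subgroup.center G)}
    (hR : IsPGroup p R) :
    ∃ P : Subgroup G, IsPGroup p P ∧ P.map (QuotientGroup.mk' (Subgroup.center G)) = R ∧
      ∀ g, Pelt p g → QuotientGroup.mk' (Subgroup.center G) g ∈ R → g ∈ P := by
  let f : R.comap (QuotientGroup.mk' (Subgroup.center G)) →* R :=
    { toFun := fun k => ⟨QuotientGroup.mk' (Subgroup.center G) k.1, k.2⟩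
      map_one' := rfl
      map_mul' := fun _ _ => rfl }
  have hf : Function.Surjective f := by
    rintro ⟨r, hr⟩
    obtain ⟨g, rfl⟩ := QuotientGroup.mk'_surjective (Subgroup.center G) r
    exact ⟨⟨g, hr⟩, rfl⟩
  let S : Sylow p (R.comap (QuotientGroup.mk' (Subgroup.center G))) := default
  have htop : (S.1.map f) = ⊤ :=
    ((S.mapSurjective hf).3 (Q := ⊤) (hR.of_equiv Subgroup.topEquiv.symm) le_top).symm
  refine ⟨S.1.map (Subgroup.subtype _), S.2.map _, ?_, fun g hg hgR => ?_⟩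
  · refine le_antisymm ?_ fun r hr => ?_
    · rintro _ ⟨_, ⟨k, -, rfl⟩, rfl⟩
      exact k.2
    · obtain ⟨k, hk, he⟩ : (⟨r, hr⟩ : R) ∈ S.1.map f := htop ▸ Subgroup.mem_top _
      exact ⟨k.1, ⟨k, hk, rfl⟩, congrArg Subtype.val he⟩
  · obtain ⟨k, hk, he⟩ : (⟨_, hgR⟩ : R) ∈ S.1.map f := htop ▸ Subgroup.mem_top _
    refine ⟨k, hk, eq_of_mk_eq hZ ?_ hg (congrArg Subtype.val he)⟩
    exact Pelt.of_mem (S.2.map (Subgroup.subtype _)) ⟨k, hk, rfl⟩

end Lift

/-- An automorphism moves the centre of a Sylow subgroup to a conjugate. -/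
theorem exists_conj_centre {G : Type*} [Group G] [Finite G] {p : ℕ} [Fact p.Prime] (β : MulAut G)
    (S : Sylow p G) :
    ∃ x : G, β '' {y | y ∈ S ∧ ∀ z ∈ S, y * z = z * y} =
      MulAut.conj x '' {y | y ∈ S ∧ ∀ z ∈ S, y * z = z * y} := by
  obtain ⟨x, hx⟩ := MulAction.exists_smul_eq G S
    (S.mapSurjective (f := β.toMonoidHom) β.surjective)
  have key : ∀ φ : MulAut G, φ '' {y | y ∈ S ∧ ∀ z ∈ S, y * z = z * y} =
      {y | y ∈ φ '' (S : Set G) ∧ ∀ z ∈ φ '' (S : Set G), y * z = z * y} := by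
    intro φ
    ext y
    constructor
    · rintro ⟨w, ⟨hw, hc⟩, rfl⟩
      exact ⟨⟨w, hw, rfl⟩, by rintro _ ⟨z, hz, rfl⟩; rw [← map_mul, hc z hz, map_mul]⟩
    · rintro ⟨⟨w, hw, rfl⟩, hc⟩
      exact ⟨w, ⟨hw, fun z hz => φ.injective (by
        rw [map_mul, map_mul]; exact hc _ ⟨z, hz, rfl⟩)⟩, rfl⟩
  refine ⟨x, ?_⟩
  have himg : β '' (S : Set G) = MulAut.conj x '' (S : Set G) := by
    have h1 : ((x • S : Sylow p G) : Set G) =
        ((S.mapSurjective (f := β.toMonoidHom) β.surjective : Sylow p G) : Set G) := by rw [hx]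
    exact h1.symm
  rw [key, key, himg]

/-! ### Transvection groups -/

variable {F V : Type*} [Field F] [Fintype F] [AddCommGroup V] [Module F V]
variable {σ : F →+* F} {h : V →ₛₗ[σ] V →ₗ[F] F}

/-- The quotient map. -/
noncomputable abbrev mkU (h : V →ₛₗ[σ] V →ₗ[F] F) : SUH h →* SUH h ⧸ Subgroup.center (SUH h) :=
  QuotientGroup.mk' (Subgroup.center (SUH h))

/-- The transvections with centre on the line of `v`. -/
def xs (h : V →ₛₗ[σ] V →ₗ[F] F) (v : V) : Set (SUH h) :=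
  {g | ∃ a : F, a + σ a = 0 ∧ ∀ y, g • y = y + (a * h v y) • v}

/-- Their images in the quotient. -/
def xb (h : V →ₛₗ[σ] V →ₗ[F] F) (v : V) : Set (SUH h ⧸ Subgroup.center (SUH h)) :=
  mkU h '' xs h v

/-- The normaliser of a transvection group in the quotient. -/
def nb (h : V →ₛₗ[σ] V →ₗ[F] F) (v : V) : Set (SUH h ⧸ Subgroup.center (SUH h)) :=
  {x | MulAut.conj x '' xb h v = xb h v}

/-- The root group of an isotropic vector. -/
noncomputable def rootQ (h : V →ₛₗ[σ] V →ₗ[F] F) (e : V) : Subgroup (SUH h) where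
  carrier := {g | g • e = e ∧ ∀ x, h e x = 0 → ∃ c : F, g • x = x + c • e}
  one_mem' := ⟨one_smul _ e, fun x _ => ⟨0, by simp⟩⟩
  mul_mem' := fun {a b} ha hb => ⟨by rw [mul_smul, hb.1, ha.1], fun x hx => by
    obtain ⟨c, hc⟩ := hb.2 x hx
    obtain ⟨c', hc'⟩ := ha.2 x hx
    exact ⟨c + c', by rw [mul_smul, hc, smul_add, hc', smul_comm a, ha.1, add_smul]; abel⟩⟩
  inv_mem' := fun {a} ha => ⟨by conv_lhs => rw [← ha.1, inv_smul_smul], fun x hx => by
    obtain ⟨c, hc⟩ := ha.2 x hx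
    refine ⟨-c, ?_⟩
    rw [inv_smul_eq_iff, smul_add, smul_comm a, ha.1, hc, neg_smul, add_neg_cancel_right]⟩

/-- The special unitary group over a finite field is finite. -/
instance finite_SUH [FiniteDimensional F V] : Finite (SUH h) :=
  have : Finite V := Module.finite_of_finite F
  Finite.of_injective (fun g : SUH h => fun x : V => g • x) fun _ _ e => SUH.ext' (congrFun e)

variable (hh : IsUnitaryForm σ h) [FiniteDimensional F V] {p : ℕ} [Fact p.Prime] [CharP F p]
  (h3 : 3 ≤ Module.finrank F V)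
include hh

theorem exists_pair {v : V} (hv0 : v ≠ 0) (hv : h v v = 0) : ∃ w, Pair h v w := by
  obtain ⟨w, hw, hvw⟩ := exists_isotropic_partner hh hv hv0
  exact ⟨w, hv, hw, hvw⟩

theorem xs_conj (g : SUH h) (v : V) : MulAut.conj g '' xs h v = xs h (g • v) := by
  have key : ∀ (g : SUH h) (v : V) (x : SUH h), x ∈ xs h v → g * x * g⁻¹ ∈ xs h (g • v) := by
    rintro g v x ⟨a, ha, hx⟩
    refine ⟨a, ha, fun y => ?_⟩
    rw [mul_smul, mul_smul, hx, smul_add, smul_inv_smul, smul_comm g]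
    congr 3
    conv_rhs => rw [← smul_inv_smul g y, suh_smul_smul]
  ext x
  constructor
  · rintro ⟨x, hx, rfl⟩
    exact key g v x hx
  · intro hx
    refine ⟨g⁻¹ * x * g, ?_, by simp [mul_assoc]⟩
    simpa using key g⁻¹ _ x hx

theorem xb_conj (g : SUH h) (v : V) : MulAut.conj (mkU h g) '' xb h v = xb h (g • v) := by
  rw [xb, xb, ← xs_conj hh g v, Set.image_image, Set.image_image]
  refine Set.image_congr fun x _ => ?_
  simp only [MulAut.conj_apply, map_mul, map_inv]

theorem xb_smul {c : F} (hc : c ≠ 0) (v : V) : xb h (c • v) = xb h v := by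
  have key : ∀ (c : F) (v : V), xs h (c • v) ⊆ xs h v := by
    rintro c v x ⟨a, ha, hx⟩
    refine ⟨σ c * c * a, ?_, fun y => ?_⟩
    · rw [map_mul, map_mul, hh.invol]; linear_combination σ c * c * ha
    · rw [hx, map_smulₛₗ, LinearMap.smul_apply, smul_smul]
      congr 2
      simp only [smul_eq_mul]
      ring
  refine congrArg (mkU h '' ·) (Set.Subset.antisymm (key c v) ?_)
  have := key c⁻¹ (c • v)
  rwa [inv_smul_smul₀ hc] at this

theorem xs_pelt {v : V} (hv : h v v = 0) {x : SUH h} (hx : x ∈ xs h v) : Pelt p x := by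
  obtain ⟨a, -, hx⟩ := hx
  have hk : ∀ (k : ℕ) (y : V), x ^ k • y = y + ((k : F) * a * h v y) • v := by
    intro k
    induction k with
    | zero => simp
    | succ k ih =>
      intro y
      rw [pow_succ', mul_smul, ih, hx, map_add, map_smul, hv, smul_zero, add_zero, add_assoc,
        ← add_smul]
      congr 2
      push_cast
      ring
  refine ⟨1, SUH.ext' fun y => ?_⟩
  rw [pow_one, hk, CharP.cast_eq_zero]
  simp

variable (hZ : ∀ z ∈ Subgroup.center (SUH h), Pelt p z → z = 1)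
include hZ

theorem line_of_xb_subset {u v : V} (hu0 : u ≠ 0) (hu : h u u = 0) (hv : h v v = 0)
    (hsub : xb h u ⊆ xb h v) : ∃ c : F, u = c • v := by
  obtain ⟨w, hp⟩ := exists_pair hh hu0 hu
  obtain ⟨t, ht0, ht⟩ := hh.exists_skew
  have hc : t + σ t + h (0 : V) 0 = 0 := by simp [ht]
  have hgm : hp.rq hh 0 t (Perp.zero _ _) hc ∈ xs h u :=
    ⟨t, ht, fun y => by simp [Pair.rq_smul hh hp]⟩
  obtain ⟨g', hg', he⟩ := hsub ⟨_, hgm, rfl⟩
  have heq := eq_of_mk_eq hZ (xs_pelt hh hv hg') (xs_pelt hh hu hgm) he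
  obtain ⟨a, -, ha⟩ := hg'
  have := ha w
  rw [heq, Pair.rq_f hh hp, add_zero, add_right_inj] at this
  exact ⟨t⁻¹ * (a * h v w), by rw [mul_smul, ← this, inv_smul_smul₀ ht0]⟩

theorem exists_noncomm {u v : V} (hu : h u u = 0) (hv : h v v = 0) (huv : h u v ≠ 0) :
    ∃ x ∈ xb h u, ∃ y ∈ xb h v, ¬ Commute x y := by
  obtain ⟨w, hp⟩ := exists_pair hh (by rintro rfl; simp at huv) hu
  obtain ⟨w', hp'⟩ := exists_pair hh (by rintro rfl; simp at huv) hv
  obtain ⟨t, ht0, ht⟩ := hh.exists_skew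
  have hc : t + σ t + h (0 : V) 0 = 0 := by simp [ht]
  have hxm : hp.rq hh 0 t (Perp.zero _ _) hc ∈ xs h u :=
    ⟨t, ht, fun y => by simp [Pair.rq_smul hh hp]⟩
  have hym : hp'.rq hh 0 t (Perp.zero _ _) hc ∈ xs h v :=
    ⟨t, ht, fun y => by simp [Pair.rq_smul hh hp']⟩
  refine ⟨_, ⟨_, hxm, rfl⟩, _, ⟨_, hym, rfl⟩, fun hcomm => ?_⟩
  have hc' := commute_of_mk hZ (xs_pelt hh hv hym) hcomm
  have := congrArg (fun g : SUH h => g • u) hc'.eq
  have hvu : h v u ≠ 0 := fun e => huv (hh.comm_zero e)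
  simp [mul_smul, Pair.rq_smul hh hp, Pair.rq_smul hh hp', hu, ht0, hvu, huv] at this
  have hu0 : u ≠ 0 := by rintro rfl; simp at huv
  exact hu0 this

/-! ### Sylow centres -/

variable {e f : V} (hp : Pair h e f)
include hp

omit hZ in
theorem xs_eq {g : SUH h} :
    g ∈ xs h e ↔ ∃ (a : F) (ha : a + σ a + h (0 : V) 0 = 0),
      g = hp.rq hh 0 a (Perp.zero _ _) ha := by
  constructor
  · rintro ⟨a, ha, hg⟩
    exact ⟨a, by simp [ha], SUH.ext' fun y => by simp [Pair.rq_smul hh hp, hg]⟩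
  · rintro ⟨a, ha, rfl⟩
    exact ⟨a, by simpa using ha, fun y => by simp [Pair.rq_smul hh hp]⟩

omit hZ in
theorem mem_rootQ_iff {g : SUH h} :
    g ∈ rootQ h e ↔ ∃ (w : V) (a : F) (hw : Perp h e f w) (ha : a + σ a + h w w = 0),
      g = hp.rq hh w a hw ha := by
  refine ⟨fun hg => hp.exists_rq hh hg.1 hg.2, ?_⟩
  rintro ⟨w, a, hw, ha, rfl⟩
  exact ⟨hp.rq_e hh hw ha, fun x hx => ⟨-h w x, by simp [Pair.rq_smul hh hp, hx]⟩⟩

omit hZ in
theorem rootQ_isPGroup : IsPGroup p (rootQ h e) := by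
  rintro ⟨g, hg⟩
  refine ⟨1 + 1, Subtype.ext ?_⟩
  obtain ⟨w, a, hw, ha, rfl⟩ := (mem_rootQ_iff hh hp).1 hg
  have hk : ∀ k : ℕ, ∃ b hb, hp.rq hh w a hw ha ^ (k + 1) =
      hp.rq hh (((k + 1 : ℕ) : F) • w) b (hw.smul _) hb := by
    intro k
    induction k with
    | zero =>
      exact ⟨a, by simpa using ha, (pow_one _).trans (hp.rq_congr hh (by simp) rfl)⟩
    | succ k ih =>
      obtain ⟨b, hb, hbk⟩ := ih
      obtain ⟨hc, hmul⟩ := hp.rq_mul_eq hh (hw.smul ((k + 1 : ℕ) : F)) hb hw ha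
      have hw' : ((k + 1 : ℕ) : F) • w + w = ((k + 1 + 1 : ℕ) : F) • w := by push_cast; module
      exact ⟨_, hw' ▸ hc, by rw [pow_succ, hbk, hmul]; exact hp.rq_congr hh hw' rfl⟩
  obtain ⟨b, hb, hbk⟩ := hk (p - 1)
  have hp1 : p - 1 + 1 = p := Nat.sub_add_cancel (Fact.out (p := p.Prime)).one_le
  simp only [hp1, CharP.cast_eq_zero, zero_smul] at hbk hb
  change hp.rq hh w a hw ha ^ p ^ (1 + 1) = 1
  rw [show p ^ (1 + 1) = p * p by ring, pow_mul, hbk]
  refine SUH.ext' fun y => ?_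
  have hk' : ∀ m : ℕ, hp.rq hh (0 : V) b (Perp.zero _ _) hb ^ m • y = y + ((m : F) * b * h e y) • e := by
    intro m
    induction m with
    | zero => simp
    | succ m ih =>
      rw [pow_succ', mul_smul, ih, Pair.rq_smul hh hp]
      simp [hp.ee]
      module
  rw [hk', CharP.cast_eq_zero]
  simp

omit hZ in
/-- A `p`-element fixing the line of `e` fixes `e`. -/
theorem Pelt.fix {g : SUH h} (hg : Pelt p g) {l : F} (hl : g • e = l • e) : g • e = e := by
  obtain ⟨k, hk⟩ := hg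
  have key : ∀ m : ℕ, g ^ m • e = l ^ m • e := by
    intro m
    induction m with
    | zero => simp
    | succ m ih => rw [pow_succ', mul_smul, ih, smul_comm, hl, smul_smul, ← pow_succ]
  have h1 := key (p ^ k)
  rw [hk, one_smul] at h1
  have h2 : l ^ (p ^ k * 1) = 1 := by
    rw [mul_one]
    exact smul_left_injective F hp.e_ne (show l ^ p ^ k • e = (1 : F) • e by rw [← h1, one_smul])
  rw [ExpChar.pow_prime_pow_mul_eq_one_iff, pow_one] at h2
  rw [hl, h2, one_smul]

omit hZ in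
/-- The common fixed vectors of the root group. -/
theorem fixed_rootQ {x : V} (hx : ∀ g ∈ rootQ h e, g • x = x) : ∃ c : F, x = c • e := by
  obtain ⟨t, ht0, ht⟩ := hh.exists_skew
  obtain ⟨d, hd⟩ := hh.exists_trace_one
  have h1 := hx (hp.rq hh 0 t (Perp.zero _ _) (by simp [ht]))
    ((mem_rootQ_iff hh hp).2 ⟨_, _, _, _, rfl⟩)
  simp [Pair.rq_smul hh hp, ht0, hp.e_ne] at h1
  refine ⟨h f x, ?_⟩
  have hu : proj h e f x = 0 := by
    refine hh.sep _ fun y => hh.comm_zero ?_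
    have hPy := hp.perp_proj hh y
    have h2 := hx (hp.rq hh (proj h e f y) (-d * h (proj h e f y) (proj h e f y)) hPy
      (by rw [map_mul, map_neg, hh.σ_self];
          linear_combination -(h (proj h e f y) (proj h e f y)) * hd))
      ((mem_rootQ_iff hh hp).2 ⟨_, _, _, _, rfl⟩)
    simp [Pair.rq_smul hh hp, h1, hp.e_ne] at h2
    have hPx := hp.perp_proj hh x
    calc h y (proj h e f x)
        = h (proj h e f y) (proj h e f x) := by
          conv_lhs => rw [Pair.decomp (h := h) (e := e) (f := f) y]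
          simp [hPx.1, hPx.2]
      _ = h (proj h e f y) x := by
          conv_rhs => rw [Pair.decomp (h := h) (e := e) (f := f) x]
          simp [h1, hh.comm_zero hPy.1]
      _ = 0 := h2
  conv_lhs => rw [Pair.decomp (h := h) (e := e) (f := f) x]
  rw [h1, hu, zero_smul, add_zero, add_zero]

omit hZ in
/-- The `p`-elements centralising the root group. -/
theorem centralizer_rootQ {g : SUH h} (hge : g • e = e)
    (hc : ∀ k ∈ rootQ h e, Commute g k) : g ∈ xs h e := by
  obtain ⟨d, hd⟩ := hh.exists_trace_one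
  have hw : ∀ w, Perp h e f w → g • w = w + h (g • w) f • e := by
    intro w hw
    have ha : -d * h w w + σ (-d * h w w) + h w w = 0 := by
      rw [map_mul, map_neg, hh.σ_self]; linear_combination -(h w w) * hd
    have hm : hp.rq hh w _ hw ha ∈ rootQ h e := (mem_rootQ_iff hh hp).2 ⟨_, _, _, _, rfl⟩
    have h1 : (g * hp.rq hh w _ hw ha * g⁻¹) • f = f + w + (-d * h w w) • e := by
      rw [(hc _ hm).eq, mul_inv_cancel_right, hp.rq_f hh]
    have h2 : ∀ v : V, h v (g⁻¹ • f) = h (g • v) f := fun v => by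
      rw [← suh_smul_smul g, smul_inv_smul]
    have h4 : h e (g⁻¹ • f) = 1 := by rw [h2, hge, hp.ef]
    rw [mul_smul, mul_smul, Pair.rq_smul hh hp, h4, h2, smul_add, smul_add, smul_inv_smul,
      smul_comm g, smul_comm g, hge, one_smul] at h1
    rw [sub_smul, mul_one] at h1
    generalize g • w = v at h1 ⊢
    linear_combination (norm := module) h1
  have hw0 : ∀ w, Perp h e f w → h (g • w) f = 0 := by
    intro w hPw
    obtain ⟨s, hs⟩ := hh.ne_id
    have hfix : ∀ v, Perp h e f v → σ (h (g • v) f) = h (g • v) f := fun v hv => by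
      have := congrArg (fun z => h z f) (hw v hv)
      simp [hh.comm_zero hv.2, hp.ef] at this
      exact this.symm
    have hlin : h (g • s • w) f = σ s * h (g • w) f := by
      rw [smul_comm g, map_smulₛₗ, LinearMap.smul_apply, smul_eq_mul]
    have h1 := hfix _ (hPw.smul s)
    rw [hlin, map_mul, hh.invol, hfix w hPw] at h1
    by_contra hne
    exact hs (mul_right_cancel₀ hne h1).symm
  have hfixW : ∀ w, Perp h e f w → g • w = w := fun w hPw => by
    rw [hw w hPw, hw0 w hPw, zero_smul, add_zero]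
  obtain ⟨w₁, a, hw₁, ha, rfl⟩ := hp.exists_rq hh hge fun x hx => ⟨0, by
    conv_lhs => rw [Pair.decomp (h := h) (e := e) (f := f) x]
    rw [hx, zero_smul, add_zero, smul_add, smul_comm g, hge, hfixW _ (hp.perp_proj hh x), zero_smul,
      add_zero]
    conv_rhs => rw [Pair.decomp (h := h) (e := e) (f := f) x, hx, zero_smul, add_zero]⟩
  have hz : w₁ = 0 := by
    refine hh.sep _ fun y => ?_
    have h1 := hfixW _ (hp.perp_proj hh y)
    rw [Pair.rq_perp hh hp hw₁ ha (hp.perp_proj hh y), sub_eq_self, smul_eq_zero] at h1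
    conv_lhs => rw [Pair.decomp (h := h) (e := e) (f := f) y]
    simp [hh.comm_zero hw₁.1, hh.comm_zero hw₁.2, h1.resolve_right hp.e_ne]
  exact (xs_eq hh hp).2 ⟨a, by simpa [hz] using ha, hp.rq_congr hh hz rfl⟩

/-- The transvection group of `e` is the centre of a Sylow subgroup. -/
theorem exists_sylow_center :
    ∃ S : Sylow p (SUH h ⧸ Subgroup.center (SUH h)),
      {x | x ∈ S ∧ ∀ y ∈ S, x * y = y * x} = xb h e := by
  have : Finite V := Module.finite_of_finite F
  obtain ⟨S, hS⟩ := ((rootQ_isPGroup hh hp (p := p)).map (mkU h)).exists_le_sylow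
  obtain ⟨P, hPp, hPmap, hPin⟩ := exists_pgroup_lift hZ S.2
  have hQP : rootQ h e ≤ P := fun g hg =>
    hPin g (Pelt.of_mem (rootQ_isPGroup hh hp) hg) (hS ⟨g, hg, rfl⟩)
  have hdvd : p ∣ Nat.card V := by
    rw [Module.natCard_eq_pow_finrank (K := F), Nat.card_eq_fintype_card]
    obtain ⟨⟨n, hn⟩, -, hc⟩ := FiniteField.card F p
    rw [hc, ← pow_mul]
    refine dvd_pow_self p (Nat.mul_ne_zero hn.ne' fun e0 => ?_)
    have : Subsingleton V := Module.finrank_zero_iff.1 e0
    exact hp.e_ne (Subsingleton.elim _ _)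
  obtain ⟨x, hx, hx0⟩ := hPp.exists_fixed_point_of_prime_dvd_card_of_fixed_point (α := V) hdvd
    (a := 0) (fun g => smul_zero g)
  obtain ⟨c, rfl⟩ := fixed_rootQ hh hp fun g hg => hx ⟨g, hQP hg⟩
  have hc : c ≠ 0 := by rintro rfl; exact hx0 (zero_smul F e).symm
  have hPe : ∀ g ∈ P, g • e = e := fun g hg => by
    have := hx ⟨g, hg⟩
    rw [Subgroup.mk_smul, smul_comm] at this
    exact smul_right_injective V hc this
  refine ⟨S, ?_⟩
  ext y
  constructor
  · rintro ⟨hy, hcen⟩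
    obtain ⟨g, hg, rfl⟩ : y ∈ P.map (mkU h) := by rw [hPmap]; exact hy
    refine ⟨g, centralizer_rootQ hh hp (hPe g hg) fun k hk => ?_, rfl⟩
    exact commute_of_mk hZ (Pelt.of_mem hPp (hQP hk)) (hcen _ (hS ⟨k, hk, rfl⟩))
  · rintro ⟨g, hg, rfl⟩
    obtain ⟨a, ha, rfl⟩ := (xs_eq hh hp).1 hg
    have hgQ : hp.rq hh 0 a (Perp.zero _ _) ha ∈ rootQ h e :=
      (mem_rootQ_iff hh hp).2 ⟨_, _, _, _, rfl⟩
    refine ⟨hS ⟨_, hgQ, rfl⟩, fun y hy => ?_⟩
    obtain ⟨k, hk, rfl⟩ : y ∈ P.map (mkU h) := by rw [hPmap]; exact hy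
    rw [← map_mul, ← map_mul]
    congr 1
    refine SUH.ext' fun v => ?_
    simp only [mul_smul, Pair.rq_smul hh hp, map_zero, LinearMap.zero_apply, smul_zero, add_zero,
      sub_zero]
    have : h e (k • v) = h e v := by conv_lhs => rw [← hPe k hk, suh_smul_smul]
    rw [this, smul_add, smul_comm k, smul_comm k (h e v) e, hPe k hk]

/-- Automorphisms send the transvection group of `e` to a transvection group. -/
theorem exists_image_xb (β : MulAut (SUH h ⧸ Subgroup.center (SUH h))) :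
    ∃ v, v ≠ 0 ∧ h v v = 0 ∧ β '' xb h e = xb h v := by
  obtain ⟨S, hS⟩ := exists_sylow_center hh hZ hp (p := p)
  obtain ⟨x, hx⟩ := exists_conj_centre β S
  obtain ⟨g, rfl⟩ := QuotientGroup.mk'_surjective (Subgroup.center (SUH h)) x
  exact ⟨g • e, fun h0 => hp.e_ne ((smul_eq_zero_iff_eq g).1 h0),
    by rw [suh_smul_smul, hp.ee], by rw [← xb_conj hh, ← hS, hx]⟩

/-! ### Stabilisers of points -/

theorem mem_nb_iff {g : SUH h} : mkU h g ∈ nb h e ↔ ∃ l : F, g • e = l • e := by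
  constructor
  · intro hg
    refine line_of_xb_subset hh hZ (fun h0 => hp.e_ne ((smul_eq_zero_iff_eq g).1 h0))
      (by rw [suh_smul_smul, hp.ee]) hp.ee ?_
    rw [← xb_conj hh]
    exact hg.le
  · rintro ⟨l, hl⟩
    show MulAut.conj (mkU h g) '' xb h e = xb h e
    rw [xb_conj hh, hl, xb_smul hh (hp.ne_zero_of_smul hh hl)]

omit hh hZ hp [FiniteDimensional F V] [Fact p.Prime] [CharP F p] in
theorem image_mem_nb {β : MulAut (SUH h ⧸ Subgroup.center (SUH h))} {v : V}
    (hv : β '' xb h v = xb h v) {x : SUH h ⧸ Subgroup.center (SUH h)} :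
    β x ∈ nb h v ↔ x ∈ nb h v := by
  have key : MulAut.conj (β x) '' xb h v = β '' (MulAut.conj x '' xb h v) := by
    conv_lhs => rw [← hv]
    rw [Set.image_image, Set.image_image]
    refine Set.image_congr fun y _ => ?_
    simp
  show MulAut.conj (β x) '' xb h v = xb h v ↔ MulAut.conj x '' xb h v = xb h v
  rw [key]
  nth_rw 2 [← hv]
  exact ⟨fun e0 => β.injective.image_injective e0, fun e0 => by rw [e0]⟩

include h3 in
/-- A normal `p`-subgroup of the stabiliser lies in the root group. -/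
theorem normal_le_rootQ {R : Subgroup (SUH h ⧸ Subgroup.center (SUH h))} (hR : IsPGroup p R)
    (hRnb : ∀ x ∈ R, x ∈ nb h e) (hnorm : ∀ x ∈ nb h e, ∀ r ∈ R, x * r * x⁻¹ ∈ R) :
    R ≤ (rootQ h e).map (mkU h) := by
  have : Finite V := Module.finite_of_finite F
  obtain ⟨P, hPp, hPmap, hPin⟩ := exists_pgroup_lift hZ hR
  have hPR : ∀ g ∈ P, mkU h g ∈ R := fun g hg => hPmap ▸ ⟨g, hg, rfl⟩
  have hPe : ∀ g ∈ P, g • e = e := fun g hg => by
    obtain ⟨l, hl⟩ := (mem_nb_iff hh hZ hp).1 (hRnb _ (hPR g hg))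
    exact (Pelt.of_mem hPp hg).fix hh hp hl
  let W : Submodule F V := LinearMap.ker (h e) ⊓ LinearMap.ker (h f)
  have hWmem : ∀ x, x ∈ W ↔ Perp h e f x := fun x => Iff.rfl
  have hdec : ∀ x, h e x = 0 → proj h e f x = x - h f x • e := fun x hx => by
    rw [proj_apply, hx, zero_smul, sub_zero]
  have hgW : ∀ g ∈ P, ∀ x, h e x = 0 → h e (g • x) = 0 := fun g hg x hx => by
    conv_lhs => rw [← hPe g hg, suh_smul_smul, hx]
  letI : MulAction P W :=
    { smul := fun g w => ⟨proj h e f ((g : SUH h) • (w : V)), hp.perp_proj hh _⟩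
      one_smul := fun w => Subtype.ext (by
        show proj h e f ((1 : SUH h) • (w : V)) = w
        rw [one_smul, Pair.proj_of_perp ((hWmem _).1 w.2)])
      mul_smul := fun g g' w => Subtype.ext (by
        show proj h e f ((g * g' : SUH h) • (w : V)) =
          proj h e f ((g : SUH h) • proj h e f ((g' : SUH h) • (w : V)))
        rw [mul_smul, hdec ((g' : SUH h) • (w : V)) (hgW _ g'.2 _ ((hWmem _).1 w.2).1),
          smul_sub, map_sub, smul_comm (g : SUH h) (h f ((g' : SUH h) • (w : V))) e, hPe _ g.2]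
        simp [proj_apply, hp.ee, hp.fe hh]) }
  obtain ⟨w₀, hw₀, hne⟩ := hp.exists_perp_ne_zero hh h3
  have hdvd : p ∣ Nat.card W := by
    rw [Module.natCard_eq_pow_finrank (K := F), Nat.card_eq_fintype_card]
    obtain ⟨⟨n, hn⟩, -, hc⟩ := FiniteField.card F p
    rw [hc, ← pow_mul]
    refine dvd_pow_self p (Nat.mul_ne_zero hn.ne' fun e0 => hne ?_)
    have : Subsingleton W := Module.finrank_zero_iff.1 e0
    have := congrArg Subtype.val (Subsingleton.elim (⟨w₀, hw₀⟩ : W) 0)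
    simp only [ZeroMemClass.coe_zero] at this
    rw [this]; simp
  obtain ⟨u, hu, hu0⟩ := hPp.exists_fixed_point_of_prime_dvd_card_of_fixed_point (α := W) hdvd
    (a := 0) (fun g => Subtype.ext (show proj h e f ((g : SUH h) • (0 : V)) = 0 by simp))
  let Fix : V → Prop := fun x => Perp h e f x ∧ ∀ g ∈ P, proj h e f (g • x) = x
  have hFu : Fix u := ⟨u.2, fun g hg => congrArg Subtype.val (hu ⟨g, hg⟩)⟩
  have hFsmul : ∀ (c : F) x, Fix x → Fix (c • x) := fun c x hx => ⟨hx.1.smul c, fun g hg => by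
    rw [smul_comm g, map_smul, hx.2 g hg]⟩
  have hFadd : ∀ x y, Fix x → Fix y → Fix (x + y) := fun x y hx hy => ⟨hx.1.add hy.1,
    fun g hg => by rw [smul_add, map_add, hx.2 g hg, hy.2 g hg]⟩
  have hFlevi : ∀ (g : SUH h) (l : F), l ≠ 0 → IsLevi e f g l → ∀ x, Fix x → Fix (g • x) := by
    intro g l hl hg x hx
    refine ⟨hg.perp hl hx.1, fun k hk => ?_⟩
    have hk' : g⁻¹ * k * g ∈ P := by
      refine hPin _ (by simpa using (Pelt.of_mem hPp hk).conj g⁻¹) ?_
      have hgn : mkU h g⁻¹ ∈ nb h e := by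
        refine (mem_nb_iff hh hZ hp).2 ⟨l⁻¹, ?_⟩
        rw [inv_smul_eq_iff, smul_comm, hg.1, inv_smul_smul₀ hl]
      simpa using hnorm _ hgn _ (hPR k hk)
    have h1 := hx.2 _ hk'
    rw [hdec _ (hgW _ hk' _ hx.1.1), sub_eq_iff_eq_add] at h1
    have h2 : k • g • x = g • (g⁻¹ * k * g) • x := by simp [← mul_smul, mul_assoc]
    have hgx := hg.perp hl hx.1
    rw [h2, h1, smul_add, smul_comm g, hg.1, map_add, Pair.proj_of_perp hgx]
    simp [proj_apply, hp.ee, hp.fe hh]
  have hdil : ∀ b, Perp h e f b → ∀ x, Fix x → h b x ≠ 0 → Fix b := by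
    intro b hb x hx hbx
    obtain ⟨c, hc0, hc⟩ : ∃ c : F, c ≠ 0 ∧ c + σ c + c * σ c * h b b = 0 := by
      by_cases hbb : h b b = 0
      · obtain ⟨t, ht0, ht⟩ := hh.exists_skew
        exact ⟨t, ht0, by rw [hbb, mul_zero, add_zero, ht]⟩
      · obtain ⟨s, hs⟩ := hh.ne_id
        have hs0 : s ≠ 0 := by rintro rfl; simp at hs
        have hσs : σ s ≠ 0 := (map_ne_zero σ).2 hs0
        refine ⟨(σ s / s - 1) / h b b, ?_, ?_⟩
        · refine div_ne_zero (fun e0 => hs ?_) hbb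
          rwa [sub_eq_zero, div_eq_one_iff_eq hs0] at e0
        · rw [map_div₀, map_sub, map_div₀, map_one, hh.invol, hh.σ_self]
          field_simp
          ring
    obtain ⟨g, l, hl, hg, hgw⟩ := hp.exists_levi_dil hh hb hc
    have h1 := hFlevi g l hl hg x hx
    rw [hgw x hx.1] at h1
    have h2 := hFsmul (c * h b x)⁻¹ _ (hFadd _ _ h1 (hFsmul (-1) x hx))
    rwa [neg_one_smul, ← sub_eq_add_neg, add_sub_cancel_left,
      inv_smul_smul₀ (mul_ne_zero hc0 hbx)] at h2
  have hall : ∀ b, Perp h e f b → Fix b := by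
    intro b hb
    by_cases hbu : h b u = 0
    swap
    · exact hdil b hb u hFu hbu
    obtain ⟨z, hz⟩ := exists_h_ne_zero hh (v := (u : V)) fun e0 => hu0 (Subtype.ext e0.symm)
    have hPu : Perp h e f u := u.2
    have hb₀ : h (proj h e f z) (u : V) ≠ 0 := by
      refine fun e0 => hz (hh.comm_zero ?_)
      rw [Pair.decomp (h := h) (e := e) (f := f) z]
      simp [hPu.1, hPu.2, e0]
    have hsum := hdil (b + proj h e f z) (hb.add (hp.perp_proj hh z)) u hFu
      (by simp [hbu, hb₀])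
    simpa using hFadd _ _ hsum (hFsmul (-1) _ (hdil _ (hp.perp_proj hh z) u hFu hb₀))
  rw [← hPmap]
  refine Subgroup.map_mono fun g hg => ⟨hPe g hg, fun x hx => ?_⟩
  have hx' := (hall _ (hp.perp_proj hh x)).2 g hg
  rw [hdec _ (hgW g hg _ (hp.perp_proj hh x).1), sub_eq_iff_eq_add] at hx'
  refine ⟨h f (g • proj h e f x), ?_⟩
  generalize h f (g • proj h e f x) = c at hx' ⊢
  conv_lhs => rw [Pair.decomp (h := h) (e := e) (f := f) x]
  rw [hx, zero_smul, add_zero, smul_add, hx', smul_comm g, hPe g hg]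
  conv_rhs => rw [Pair.decomp (h := h) (e := e) (f := f) x, hx, zero_smul, add_zero]
  module

include h3 in
/-- An automorphism fixing the point of `e` fixes its root group. -/
theorem image_rootQ {β : MulAut (SUH h ⧸ Subgroup.center (SUH h))} (hβ : β '' xb h e = xb h e) :
    ((rootQ h e).map (mkU h)).map β.toMonoidHom = (rootQ h e).map (mkU h) := by
  have : Finite V := Module.finite_of_finite F
  refine Subgroup.eq_of_le_of_card_ge ?_
    (Subgroup.card_map_of_injective β.injective).ge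
  refine normal_le_rootQ hh h3 hZ hp (((rootQ_isPGroup hh hp).map (mkU h)).map _) ?_ ?_
  · rintro _ ⟨_, ⟨g, hg, rfl⟩, rfl⟩
    exact (image_mem_nb hβ).2 ((mem_nb_iff hh hZ hp).2 ⟨1, by rw [one_smul, hg.1]⟩)
  · rintro x hx _ ⟨_, ⟨g, hg, rfl⟩, rfl⟩
    obtain ⟨x, rfl⟩ := β.surjective x
    obtain ⟨k, rfl⟩ := QuotientGroup.mk'_surjective (Subgroup.center (SUH h)) x
    obtain ⟨l, hl⟩ := (mem_nb_iff hh hZ hp).1 ((image_mem_nb hβ).1 hx)
    have hl0 := hp.ne_zero_of_smul hh hl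
    refine ⟨mkU h (k * g * k⁻¹), ⟨k * g * k⁻¹, ⟨?_, fun y hy => ?_⟩, rfl⟩, by simp⟩
    · have hk : k⁻¹ • e = l⁻¹ • e := by rw [inv_smul_eq_iff, smul_comm, hl, inv_smul_smul₀ hl0]
      rw [mul_smul, mul_smul, hk, smul_comm g, hg.1, smul_comm k, hl, inv_smul_smul₀ hl0]
    · obtain ⟨c, hc⟩ := hg.2 (k⁻¹ • y) (by
        have := suh_smul_smul k e (k⁻¹ • y)
        rw [hl, smul_inv_smul, map_smulₛₗ, LinearMap.smul_apply, hy, smul_zero] at this
        exact this.symm)
      exact ⟨c * l, by rw [mul_smul, mul_smul, hc, smul_add, smul_inv_smul, smul_comm k, hl,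
        smul_smul]⟩

end Cfsg.Agent.AutPSU
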